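import Groth.Prelude.Def_QuadGrp
import Mathlib.LinearAlgebra.CliffordAlgebra.Contraction
import Mathlib.LinearAlgebra.ExteriorAlgebra.Basis
import Mathlib.LinearAlgebra.Basis.Basic
import Mathlib.Tactic.NoncommRing

/-! Clifford algebras of free modules in any characteristic: basis, supercentral elements. -/

set_option autoImplicit false

namespace Groth.L15.QG

open CliffordAlgebra
open scoped DirectSum

universe u v

variable {R : Type u} [CommRing R] {M : Type v} [AddCommGroup M] [Module R M]
variable (Q : QuadraticForm R M)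

section Equiv

variable [Module.Free R M]

theorem neg_bilinLift_proof : (-(QuadGrp.bilinLift Q)).toQuadraticMap = (0 : QuadraticForm R M) - Q := by
  ext x
  simp [← LinearMap.BilinMap.toQuadraticMap_apply, QuadGrp.bilinLift_spec]

/-- `C(Q) ≃ ⋀ M`. -/
noncomputable def toExt : CliffordAlgebra Q ≃ₗ[R] ExteriorAlgebra R M :=
  changeFormEquiv (neg_bilinLift_proof Q)

theorem toExt_ι (m : M) : toExt Q (ι Q m) = ι (0 : QuadraticForm R M) m := changeForm_ι (neg_bilinLift_proof Q) m

theorem toExt_algebraMap (r : R) : toExt Q (algebraMap R _ r) = algebraMap R _ r := changeForm_algebraMap (neg_bilinLift_proof Q) r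

theorem toExt_one : toExt Q 1 = 1 := changeForm_one (neg_bilinLift_proof Q)

theorem toExt_contractLeft (d : Module.Dual R M) (x : CliffordAlgebra Q) :
    toExt Q (contractLeft (Q := Q) d x) = contractLeft (Q := (0 : QuadraticForm R M)) d (toExt Q x) :=
  changeForm_contractLeft (neg_bilinLift_proof Q) d x

theorem ι_injective : Function.Injective (ι Q) := fun a b h => by
  have := congrArg (toExt Q) h
  rw [toExt_ι, toExt_ι] at this
  exact ExteriorAlgebra.ι_leftInverse.injective this

theorem algebraMap_injective : Function.Injective (algebraMap R (CliffordAlgebra Q)) := fun a b h => by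
  have := congrArg (toExt Q) h
  rw [toExt_algebraMap, toExt_algebraMap] at this
  exact ExteriorAlgebra.algebraMap_leftInverse M |>.injective this

variable {I : Type*} [LinearOrder I] (b : Module.Basis I R M)

/-- A basis of the Clifford algebra. -/
noncomputable def cliffBasis : Module.Basis (Finset I) R (CliffordAlgebra Q) :=
  b.ExteriorAlgebra.map (toExt Q).symm

theorem free_clifford [Module.Finite R M] :
    Module.Free R (CliffordAlgebra Q) ∧ Module.Finite R (CliffordAlgebra Q) := by
  classical
  let b₀ := Module.Free.chooseBasis R M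
  letI : LinearOrder (Module.Free.ChooseBasisIndex R M) := linearOrderOfSTO WellOrderingRel
  exact ⟨Module.Free.of_basis (cliffBasis Q b₀), Module.Finite.of_basis (cliffBasis Q b₀)⟩

include b in
theorem finrank_clifford [StrongRankCondition R] [Fintype I] :
    Module.finrank R (CliffordAlgebra Q) = 2 ^ Fintype.card I := by
  rw [Module.finrank_eq_card_basis (cliffBasis Q b), Fintype.card_finset]

end Equiv

section ExtSec

variable {I : Type*} [LinearOrder I] (b : Module.Basis I R M)

local notation "EA" => CliffordAlgebra (0 : QuadraticForm R M)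

theorem contract_prod_eq_zero (d : Module.Dual R M) :
    ∀ l : List M, (∀ a ∈ l, d a = 0) →
      contractLeft (Q := (0 : QuadraticForm R M)) d (l.map (ι (0 : QuadraticForm R M))).prod = 0 := by
  intro l
  induction l with
  | nil => intro _; simp
  | cons a l ih =>
    intro h
    rw [List.map_cons, List.prod_cons, contractLeft_ι_mul, h a (List.mem_cons_self ..),
      ih (fun c hc => h c (List.mem_cons_of_mem a hc)), zero_smul, mul_zero, sub_zero]

theorem ι_mul_prod_eq_zero (a : M) :
    ∀ l : List M, a ∈ l → ι (0 : QuadraticForm R M) a * (l.map (ι (0 : QuadraticForm R M))).prod = 0 := by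
  intro l
  induction l with
  | nil => simp
  | cons c l ih =>
    intro h
    rw [List.map_cons, List.prod_cons, ← mul_assoc]
    rcases List.mem_cons.1 h with rfl | h
    · rw [ι_sq_scalar]; simp
    · have hc := ι_mul_ι_comm (Q := (0 : QuadraticForm R M)) a c
      rw [hc]
      simp [QuadraticMap.polar, mul_assoc, ih h]

theorem basis_eq_prod (s : Finset I) :
    ∃ l : List I, (∀ i, i ∈ l ↔ i ∈ s) ∧
      b.ExteriorAlgebra s = (l.map fun i => ι (0 : QuadraticForm R M) (b i)).prod := by
  refine ⟨List.ofFn (Set.powersetCard.ofFinEmbEquiv.symm (Set.powersetCard.ofCard (rfl : s.card = s.card))), fun i => ?_, ?_⟩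
  · rw [List.mem_ofFn', Set.powersetCard.mem_range_ofFinEmbEquiv_symm_iff_mem]
    rfl
  · rw [ExteriorAlgebra.basis_apply_ofCard (s_card := rfl), ExteriorAlgebra.ιMulti_family, ExteriorAlgebra.ιMulti_apply,
      List.map_ofFn]
    rfl

variable [Fintype I]

/-- The projection killing monomials containing `i`. -/
noncomputable def killOp (i : I) : EA →ₗ[R] EA :=
  (contractLeft (Q := (0 : QuadraticForm R M)) (b.coord i)).comp (LinearMap.mulLeft R (ι (0 : QuadraticForm R M) (b i)))

theorem killOp_apply (i : I) (x : EA) : killOp b i x = x - ι (0 : QuadraticForm R M) (b i) *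
    contractLeft (Q := (0 : QuadraticForm R M)) (b.coord i) x := by
  rw [killOp, LinearMap.comp_apply, LinearMap.mulLeft_apply, contractLeft_ι_mul]
  simp

theorem killOp_eq_self (i : I) (x : EA) (h : contractLeft (Q := (0 : QuadraticForm R M)) (b.coord i) x = 0) :
    killOp b i x = x := by rw [killOp_apply, h, mul_zero, sub_zero]

theorem killOp_basis (i : I) (s : Finset I) :
    killOp b i (b.ExteriorAlgebra s) = if i ∈ s then 0 else b.ExteriorAlgebra s := by
  obtain ⟨l, hl, he⟩ := basis_eq_prod b s
  have he' : b.ExteriorAlgebra s = ((l.map b).map (ι (0 : QuadraticForm R M))).prod := by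
    rw [he, List.map_map]; rfl
  by_cases hi : i ∈ s
  · rw [if_pos hi, killOp, LinearMap.comp_apply, LinearMap.mulLeft_apply, he',
      ι_mul_prod_eq_zero _ _ (List.mem_map_of_mem ((hl i).2 hi))]
    exact map_zero _
  · rw [if_neg hi]
    refine killOp_eq_self b i _ ?_
    rw [he']
    refine contract_prod_eq_zero _ _ fun a ha => ?_
    obtain ⟨j, hj, rfl⟩ := List.mem_map.1 ha
    rw [Module.Basis.coord_apply, b.repr_self, Finsupp.single_apply, if_neg]
    rintro rfl
    exact hi ((hl j).1 hj)

theorem mem_span_of_contract_ext (T : Finset I) (x : EA)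
    (h : ∀ i ∈ T, contractLeft (Q := (0 : QuadraticForm R M)) (b.coord i) x = 0) :
    x ∈ Submodule.span R (b.ExteriorAlgebra '' {s | Disjoint s T}) := by
  classical
  induction T using Finset.induction with
  | empty =>
    simpa using (b.ExteriorAlgebra.mem_span x)
  | insert i T hi ih =>
    have hx := ih (fun j hj => h j (Finset.mem_insert_of_mem hj))
    rw [← killOp_eq_self b i x (h i (Finset.mem_insert_self i T))]
    have hle : Submodule.map (killOp b i) (Submodule.span R (b.ExteriorAlgebra '' {s | Disjoint s T})) ≤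
        Submodule.span R (b.ExteriorAlgebra '' {s | Disjoint s (insert i T)}) := by
      rw [Submodule.map_span, Submodule.span_le]
      rintro _ ⟨_, ⟨s, hs, rfl⟩, rfl⟩
      rw [SetLike.mem_coe, killOp_basis]
      split_ifs with his
      · exact Submodule.zero_mem _
      · exact Submodule.subset_span ⟨s, Finset.disjoint_insert_right.2 ⟨his, hs⟩, rfl⟩
    exact hle (Submodule.mem_map_of_mem hx)

end ExtSec

section Super

/-- `v x - ᾱ(x) v` is the contraction by `B(v, ·)`. -/
theorem ι_mul_sub_involute_mul (v : M) (x : CliffordAlgebra Q) :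
    ι Q v * x - involute x * ι Q v = contractLeft (Q := Q) (QuadraticMap.polarBilin Q v) x := by
  induction x using CliffordAlgebra.left_induction with
  | algebraMap r =>
    rw [AlgHom.commutes, contractLeft_algebraMap, Algebra.commutes, sub_self]
  | add a c ha hc => rw [map_add, map_add, mul_add, add_mul, ← ha, ← hc]; abel
  | ι_mul a m ih =>
    rw [contractLeft_ι_mul, ← ih, map_mul, involute_ι, QuadraticMap.polarBilin_apply_apply, Algebra.smul_def,
      ← ι_mul_ι_add_swap (Q := Q) v m]
    noncomm_ring

variable [Module.Free R M] {I : Type*} [LinearOrder I] [Fintype I] (b : Module.Basis I R M)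

/-- An element killed by all coordinate contractions in `T` only involves the others. -/
theorem toExt_mem_span_of_contract (T : Finset I) (x : CliffordAlgebra Q)
    (h : ∀ i ∈ T, contractLeft (Q := Q) (b.coord i) x = 0) :
    toExt Q x ∈ Submodule.span R (b.ExteriorAlgebra '' {s | Disjoint s T}) :=
  mem_span_of_contract_ext b T _ fun i hi => by rw [← toExt_contractLeft, h i hi, map_zero]

theorem mem_range_of_contract (x : CliffordAlgebra Q)
    (h : ∀ i, contractLeft (Q := Q) (b.coord i) x = 0) : x ∈ (algebraMap R (CliffordAlgebra Q)).range := by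
  classical
  have hs := toExt_mem_span_of_contract Q b Finset.univ x fun i _ => h i
  have hset : {s : Finset I | Disjoint s Finset.univ} = {∅} := by
    ext s; simp [Finset.disjoint_iff_inter_eq_empty]
  rw [hset, Set.image_singleton, Submodule.mem_span_singleton] at hs
  obtain ⟨a, ha⟩ := hs
  obtain ⟨l, hl, he⟩ := basis_eq_prod b ∅
  have hnil : l = [] := List.eq_nil_iff_forall_not_mem.2 fun i hi => by simpa using (hl i).1 hi
  refine ⟨a, (toExt Q).injective ?_⟩
  rw [toExt_algebraMap, ← ha, he, hnil, List.map_nil, List.prod_nil, Algebra.algebraMap_eq_smul_one]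

theorem mem_span_one_ι_of_contract (i₀ : I) (x : CliffordAlgebra Q)
    (h : ∀ i, i ≠ i₀ → contractLeft (Q := Q) (b.coord i) x = 0) :
    ∃ a c : R, x = algebraMap R _ a + c • ι Q (b i₀) := by
  classical
  have hs := toExt_mem_span_of_contract Q b (Finset.univ.erase i₀) x fun i hi => h i (Finset.ne_of_mem_erase hi)
  have hset : b.ExteriorAlgebra '' {s : Finset I | Disjoint s (Finset.univ.erase i₀)} ⊆
      ↑(Submodule.span R ({(1 : ExteriorAlgebra R M), ι (0 : QuadraticForm R M) (b i₀)} : Set _)) := by
    rintro _ ⟨s, hs, rfl⟩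
    have hsub : ∀ i ∈ s, i = i₀ := fun i hi => by
      by_contra hne
      exact Finset.disjoint_left.1 hs hi (Finset.mem_erase.2 ⟨hne, Finset.mem_univ _⟩)
    obtain ⟨l, hl, he⟩ := basis_eq_prod b s
    rw [SetLike.mem_coe, he]
    match l with
    | [] => exact Submodule.subset_span (Set.mem_insert _ _)
    | [j] =>
      rw [hsub j ((hl j).1 (List.mem_singleton_self j))]
      exact Submodule.subset_span (Set.mem_insert_of_mem _ (by simp))
    | j :: k :: t =>
      rw [List.map_cons, List.map_cons, List.prod_cons, List.prod_cons, hsub j ((hl j).1 (by simp)),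
        hsub k ((hl k).1 (by simp)), ← mul_assoc, ι_sq_scalar]
      simp
  obtain ⟨a, c, hac⟩ := Submodule.mem_span_pair.1 (Submodule.span_le.2 hset hs)
  refine ⟨a, c, (toExt Q).injective ?_⟩
  rw [map_add, map_smul, toExt_algebraMap, toExt_ι, ← hac, Algebra.algebraMap_eq_smul_one]

end Super

section Parity

theorem eq_zero_of_even_odd {x : CliffordAlgebra Q} (h0 : x ∈ evenOdd Q 0) (h1 : x ∈ evenOdd Q 1) : x = 0 :=
  Submodule.disjoint_def.1 ((DirectSum.Decomposition.isInternal (evenOdd Q)).submodule_iSupIndep.pairwiseDisjoint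
    (show (0 : ZMod 2) ≠ 1 by decide)) x h0 h1

theorem exists_even_odd (x : CliffordAlgebra Q) :
    ∃ x0 ∈ evenOdd Q 0, ∃ x1 ∈ evenOdd Q 1, x = x0 + x1 := by
  have : (⊤ : Submodule R (CliffordAlgebra Q)) = evenOdd Q 0 ⊔ evenOdd Q 1 := by
    refine le_antisymm ?_ le_top
    rw [← (DirectSum.Decomposition.isInternal (evenOdd Q)).submodule_iSup_eq_top, iSup_le_iff]
    intro i
    fin_cases i
    · exact le_sup_left
    · exact le_sup_right
  obtain ⟨a, ha, c, hc, hx⟩ := Submodule.mem_sup.1 (this ▸ Submodule.mem_top (x := x))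
  exact ⟨a, ha, c, hc, hx.symm⟩

/-- Uniqueness of the homogeneous parts. -/
theorem parts_unique {a a' c c' : CliffordAlgebra Q} (ha : a ∈ evenOdd Q 0) (ha' : a' ∈ evenOdd Q 0)
    (hc : c ∈ evenOdd Q 1) (hc' : c' ∈ evenOdd Q 1) (h : a + c = a' + c') : a = a' ∧ c = c' := by
  have e : a - a' = c' - c := by rw [sub_eq_sub_iff_add_eq_add, h, add_comm c' a']
  have h0 := eq_zero_of_even_odd Q (Submodule.sub_mem _ ha ha') (e ▸ Submodule.sub_mem _ hc' hc)
  refine ⟨sub_eq_zero.1 h0, (sub_eq_zero.1 ?_).symm⟩
  rw [← e, h0]

end Parity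

end Groth.L15.QG
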