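import Groth.Agent.L15.QG.CliffBasis
import Mathlib.LinearAlgebra.QuadraticForm.TensorProduct
import Mathlib.RingTheory.TensorProduct.Basic
import Mathlib.RingTheory.TensorProduct.Maps
import Mathlib.RingTheory.Flat.Basic

/-! Base change of Clifford algebras of free modules, any characteristic. -/

set_option autoImplicit false

namespace Groth.L15.QG

open TensorProduct CliffordAlgebra

universe u v w

variable {R : Type u} [CommRing R] {M : Type v} [AddCommGroup M] [Module R M]
variable (A : Type w) [CommRing A] [Algebra R A] [Module.Free R M] (Q : QuadraticForm R M)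

local notation "QA" => QuadGrp.baseChangeForm A Q

theorem baseChangeForm_tmul (a : A) (m : M) : QA (a ⊗ₜ[R] m) = a * a * algebraMap R A (Q m) := by
  simp [QuadGrp.baseChangeForm, QuadGrp.baseChange_tmul, Algebra.smul_def, mul_comm]

/-- `C(Q) → C(Q_A)`. -/
noncomputable def toC : CliffordAlgebra Q →ₐ[R] CliffordAlgebra QA :=
  CliffordAlgebra.lift Q ⟨((ι QA).restrictScalars R).comp (TensorProduct.mk R A M 1), fun v => by
    refine (ι_sq_scalar QA ((1 : A) ⊗ₜ[R] v)).trans ?_
    rw [baseChangeForm_tmul, one_mul, one_mul, ← IsScalarTower.algebraMap_apply]⟩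

theorem toC_ι (m : M) : toC A Q (ι Q m) = ι QA ((1 : A) ⊗ₜ[R] m) := CliffordAlgebra.lift_ι_apply _ _ m

/-- `A ⊗ C(Q) → C(Q_A)`. -/
noncomputable def ofBC : A ⊗[R] CliffordAlgebra Q →ₐ[A] CliffordAlgebra QA :=
  Algebra.TensorProduct.lift (Algebra.ofId _ _) (toC A Q) fun _a _x => Algebra.commutes _ _

theorem ofBC_tmul (a : A) (x : CliffordAlgebra Q) : ofBC A Q (a ⊗ₜ[R] x) = algebraMap A _ a * toC A Q x :=
  Algebra.TensorProduct.lift_tmul _ _ _ _ _

/-- The linear map `A ⊗ M → A ⊗ C(Q)`. -/
noncomputable def vecBC : A ⊗[R] M →ₗ[A] A ⊗[R] CliffordAlgebra Q := (ι Q).baseChange A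

theorem vecBC_sq (v : A ⊗[R] M) :
    vecBC A Q v * vecBC A Q v = algebraMap A (A ⊗[R] CliffordAlgebra Q) (QA v) := by
  have h : LinearMap.BilinMap.toQuadraticMap ((LinearMap.mul A (A ⊗[R] CliffordAlgebra Q)).compl₁₂ (vecBC A Q) (vecBC A Q)) =
      (Algebra.linearMap A (A ⊗[R] CliffordAlgebra Q)).compQuadraticMap QA := by
    refine _root_.baseChange_ext fun m => ?_
    simp only [LinearMap.BilinMap.toQuadraticMap_apply, LinearMap.compl₁₂_apply, LinearMap.mul_apply',
      LinearMap.compQuadraticMap_apply, Algebra.linearMap_apply, baseChangeForm_tmul, one_mul, vecBC,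
      LinearMap.baseChange_tmul, Algebra.TensorProduct.tmul_mul_tmul, ι_sq_scalar]
    rw [Algebra.algebraMap_eq_smul_one, Algebra.algebraMap_eq_smul_one (R := A), tmul_smul,
      Algebra.TensorProduct.one_def, algebraMap_smul]
  exact congrArg (fun q : QuadraticMap A (A ⊗[R] M) (A ⊗[R] CliffordAlgebra Q) => q v) h

/-- `C(Q_A) → A ⊗ C(Q)`. -/
noncomputable def toBC : CliffordAlgebra QA →ₐ[A] A ⊗[R] CliffordAlgebra Q :=
  CliffordAlgebra.lift QA ⟨vecBC A Q, vecBC_sq A Q⟩

theorem toBC_ι (v : A ⊗[R] M) : toBC A Q (ι QA v) = vecBC A Q v := CliffordAlgebra.lift_ι_apply _ _ v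

theorem ofBC_vecBC (v : A ⊗[R] M) : ofBC A Q (vecBC A Q v) = ι QA v := by
  induction v using TensorProduct.induction_on with
  | zero => simp
  | tmul a m =>
    rw [vecBC, LinearMap.baseChange_tmul, ofBC_tmul, toC_ι, ← Algebra.smul_def, ← map_smul, smul_tmul', smul_eq_mul,
      mul_one]
  | add x y hx hy => simp only [map_add, hx, hy]

/-- Base change of the Clifford algebra. -/
noncomputable def baseChangeEquiv : A ⊗[R] CliffordAlgebra Q ≃ₐ[A] CliffordAlgebra QA :=
  AlgEquiv.ofAlgHom (ofBC A Q) (toBC A Q)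
    (by
      apply CliffordAlgebra.hom_ext
      refine LinearMap.ext fun v => ?_
      simp only [LinearMap.comp_apply, AlgHom.toLinearMap_apply, AlgHom.comp_apply, toBC_ι, ofBC_vecBC, AlgHom.id_apply])
    (by
      refine Algebra.TensorProduct.ext (by ext) ?_
      apply CliffordAlgebra.hom_ext
      refine LinearMap.ext fun m => ?_
      simp [ofBC_tmul, toC_ι, toBC_ι, vecBC])

theorem baseChangeEquiv_one_tmul (x : CliffordAlgebra Q) : baseChangeEquiv A Q ((1 : A) ⊗ₜ[R] x) = toC A Q x := by
  simp [baseChangeEquiv, ofBC_tmul]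

theorem baseChangeEquiv_tmul (a : A) (x : CliffordAlgebra Q) :
    baseChangeEquiv A Q (a ⊗ₜ[R] x) = a • toC A Q x := by
  simp [baseChangeEquiv, ofBC_tmul, Algebra.smul_def]

theorem toC_injective [Module.Finite R M] (h : Function.Injective (algebraMap R A)) :
    Function.Injective (toC A Q) := by
  haveI := (free_clifford Q).1
  intro x y hxy
  rw [← baseChangeEquiv_one_tmul, ← baseChangeEquiv_one_tmul] at hxy
  have := (baseChangeEquiv A Q).injective hxy
  have hinj : Function.Injective (TensorProduct.mk R A (CliffordAlgebra Q) 1) := by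
    have hl : Function.Injective (LinearMap.rTensor (CliffordAlgebra Q) (Algebra.linearMap R A)) :=
      Module.Flat.rTensor_preserves_injective_linearMap _ h
    intro a c hac
    apply (TensorProduct.lid R (CliffordAlgebra Q)).symm.injective
    apply hl
    simpa using hac
  exact hinj this

theorem zmod2_cases : ∀ i : ZMod 2, i = 0 ∨ i = 1 := by decide

theorem toC_mem_evenOdd {x : CliffordAlgebra Q} {i : ZMod 2} (hx : x ∈ evenOdd Q i) :
    toC A Q x ∈ evenOdd QA i := by
  induction x, hx using CliffordAlgebra.evenOdd_induction with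
  | range_ι_pow v hv =>
    rcases zmod2_cases i with rfl | rfl
    · rw [show ((0 : ZMod 2)).val = 0 from rfl, pow_zero, Submodule.mem_one] at hv
      obtain ⟨r, rfl⟩ := hv
      rw [AlgHom.commutes, IsScalarTower.algebraMap_apply R A (CliffordAlgebra QA)]
      exact SetLike.algebraMap_mem_graded _ _
    · rw [show ((1 : ZMod 2)).val = 1 from rfl, pow_one] at hv
      obtain ⟨m, rfl⟩ := hv
      rw [toC_ι]
      exact ι_mem_evenOdd_one _ _
  | add x y hx hy ihx ihy => rw [map_add]; exact Submodule.add_mem _ ihx ihy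
  | ι_mul_ι_mul m₁ m₂ x hx ih =>
    rw [map_mul, map_mul, toC_ι, toC_ι]
    exact zero_add i ▸ SetLike.mul_mem_graded (ι_mul_ι_mem_evenOdd_zero _ _ _) ih

theorem mem_evenOdd_of_toC [Module.Finite R M] (h : Function.Injective (algebraMap R A))
    {x : CliffordAlgebra Q} {i : ZMod 2} (hx : toC A Q x ∈ evenOdd QA i) : x ∈ evenOdd Q i := by
  obtain ⟨a, ha, c, hc, rfl⟩ := exists_even_odd Q x
  have hA := toC_mem_evenOdd A Q ha
  have hC := toC_mem_evenOdd A Q hc
  rw [map_add] at hx
  rcases zmod2_cases i with rfl | rfl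
  · have hc0 : toC A Q c = 0 := eq_zero_of_even_odd QA (by simpa using Submodule.sub_mem _ hx hA) hC
    rw [toC_injective A Q h (hc0.trans (map_zero _).symm), add_zero]
    exact ha
  · have ha0 : toC A Q a = 0 := eq_zero_of_even_odd QA hA (by simpa using Submodule.sub_mem _ hx hC)
    rw [toC_injective A Q h (ha0.trans (map_zero _).symm), zero_add]
    exact hc

end Groth.L15.QG
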