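import Groth.Prelude.Def_QuadGrp
import Mathlib.LinearAlgebra.Reflection
import Mathlib.LinearAlgebra.Matrix.SchurComplement
import Mathlib.LinearAlgebra.TensorProduct.Basis
import Mathlib.Tactic.Module
import Mathlib.Tactic.LinearCombination
import Mathlib.Tactic.NoncommRing

/-! Reflections of quadratic forms over rings. -/

set_option autoImplicit false

namespace Groth.L15.QG

open CliffordAlgebra

universe u v

variable {R : Type u} [CommRing R] {M : Type v} [AddCommGroup M] [Module R M]
variable (Q : QuadraticForm R M)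

/-- The linear form `x ↦ (Q v)⁻¹ B(v, x)`. -/
noncomputable def reflForm (v : M) (hv : IsUnit (Q v)) : Module.Dual R M :=
  (↑hv.unit⁻¹ : R) • QuadraticMap.polarBilin Q v

theorem reflForm_apply (v : M) (hv : IsUnit (Q v)) (x : M) :
    reflForm Q v hv x = (↑hv.unit⁻¹ : R) * QuadraticMap.polar Q v x := rfl

theorem reflForm_self (v : M) (hv : IsUnit (Q v)) : reflForm Q v hv v = 2 := by
  rw [reflForm_apply, QuadraticMap.polar_self, nsmul_eq_mul, Nat.cast_ofNat, mul_left_comm,
    hv.val_inv_mul, mul_one]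

/-- The reflection in an anisotropic vector. -/
noncomputable def refl (v : M) (hv : IsUnit (Q v)) : M ≃ₗ[R] M :=
  Module.reflection (reflForm_self Q v hv)

theorem refl_apply (v : M) (hv : IsUnit (Q v)) (x : M) :
    refl Q v hv x = x - ((↑hv.unit⁻¹ : R) * QuadraticMap.polar Q v x) • v :=
  Module.reflection_apply _ _

theorem refl_mem_O (v : M) (hv : IsUnit (Q v)) : refl Q v hv ∈ QuadGrp.O Q := by
  intro x
  rw [refl_apply, sub_eq_add_neg, ← neg_smul, QuadraticMap.map_add Q, QuadraticMap.map_smul,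
    QuadraticMap.polar_smul_right, QuadraticMap.polar_comm Q x v, smul_eq_mul, smul_eq_mul]
  linear_combination ((↑hv.unit⁻¹ : R) * QuadraticMap.polar Q v x * QuadraticMap.polar Q v x) * hv.val_inv_mul

theorem det_preReflection [Module.Free R M] [Module.Finite R M] (x : M) (f : Module.Dual R M) :
    LinearMap.det (Module.preReflection x f) = 1 - f x := by
  classical
  let b := Module.Free.chooseBasis R M
  rw [← LinearMap.det_toMatrix b]
  have hm : LinearMap.toMatrix b b (Module.preReflection x f) =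
      1 + Matrix.replicateCol Unit (fun i => - b.repr x i) * Matrix.replicateRow Unit (fun j => f (b j)) := by
    refine Matrix.ext fun i j => ?_
    rw [LinearMap.toMatrix_apply, Module.preReflection_apply, map_sub, map_smul, Matrix.add_apply,
      Finsupp.sub_apply, Finsupp.smul_apply, Module.Basis.repr_self, Finsupp.single_apply,
      Matrix.one_apply, Matrix.mul_apply]
    simp [eq_comm (a := j) (b := i), sub_eq_add_neg, mul_comm]
  rw [hm, Matrix.det_one_add_replicateCol_mul_replicateRow, dotProduct]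
  conv_rhs => rw [← b.sum_repr x, map_sum]
  simp [mul_comm, sub_eq_add_neg]

theorem det_refl [Module.Free R M] [Module.Finite R M] (v : M) (hv : IsUnit (Q v)) :
    LinearMap.det (refl Q v hv).toLinearMap = -1 := by
  show LinearMap.det (Module.preReflection v (reflForm Q v hv)) = -1
  rw [det_preReflection, reflForm_self]; norm_num

theorem ι_refl_mul_ι (v : M) (hv : IsUnit (Q v)) (x : M) :
    ι Q (refl Q v hv x) * ι Q v = - (ι Q v * ι Q x) := by
  rw [refl_apply, map_sub, map_smul, sub_mul, smul_mul_assoc, ι_sq_scalar, Algebra.smul_def,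
    ← map_mul (algebraMap R (CliffordAlgebra Q))]
  have h := ι_mul_ι_comm (Q := Q) x v
  rw [h, QuadraticMap.polar_comm]
  rw [show (↑hv.unit⁻¹ : R) * QuadraticMap.polar Q v x * Q v = QuadraticMap.polar Q v x by
    linear_combination QuadraticMap.polar Q v x * hv.val_inv_mul]
  abel

theorem refl_mul_refl_apply_mul (v : M) (hv : IsUnit (Q v)) (w : M) (hw : IsUnit (Q w)) (x : M) :
    ι Q ((refl Q v hv * refl Q w hw) x) * (ι Q v * ι Q w) = ι Q v * ι Q w * ι Q x := by
  rw [LinearEquiv.mul_apply, ← mul_assoc, ι_refl_mul_ι, neg_mul, mul_assoc, ι_refl_mul_ι, mul_neg, neg_neg,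
    mul_assoc]

/-- The automorphism of the Clifford algebra induced by an isometry intertwines. -/
theorem map_mul_eq (g : M ≃ₗ[R] M) (hg : g ∈ QuadGrp.O Q) (U : CliffordAlgebra Q)
    (h : ∀ x, ι Q (g x) * U = U * ι Q x) (a : CliffordAlgebra Q) :
    CliffordAlgebra.map (QuadGrp.isometryOfMem Q g hg) a * U = U * a := by
  induction a using CliffordAlgebra.induction with
  | algebraMap r => rw [AlgHom.commutes]; exact Algebra.commutes r U
  | ι x => rw [CliffordAlgebra.map_apply_ι, QuadGrp.isometryOfMem_apply]; exact h x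
  | mul a b ha hb => rw [map_mul, mul_assoc, hb, ← mul_assoc, ha, mul_assoc]
  | add a b ha hb => rw [map_add, add_mul, ha, hb, mul_add]

theorem isUnit_ι (v : M) (hv : IsUnit (Q v)) : IsUnit (ι Q v) := by
  refine ⟨⟨ι Q v, (↑hv.unit⁻¹ : R) • ι Q v, ?_, ?_⟩, rfl⟩
  · rw [mul_smul_comm, ι_sq_scalar, Algebra.smul_def, ← map_mul, hv.val_inv_mul, map_one]
  · rw [smul_mul_assoc, ι_sq_scalar, Algebra.smul_def, ← map_mul, hv.val_inv_mul, map_one]

theorem refl_mul_refl_mem_SOeven (v : M) (hv : IsUnit (Q v)) (w : M) (hw : IsUnit (Q w)) :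
    refl Q v hv * refl Q w hw ∈ QuadGrp.SOeven Q := by
  refine ⟨(QuadGrp.O Q).mul_mem (refl_mem_O Q v hv) (refl_mem_O Q w hw), fun z hz => ?_⟩
  have hU : ι Q v * ι Q w ∈ CliffordAlgebra.even Q := CliffordAlgebra.ι_mul_ι_mem_evenOdd_zero Q v w
  have h1 := map_mul_eq Q _ ((QuadGrp.O Q).mul_mem (refl_mem_O Q v hv) (refl_mem_O Q w hw)) (ι Q v * ι Q w)
    (refl_mul_refl_apply_mul Q v hv w hw) (z : CliffordAlgebra Q)
  have h2 : (ι Q v * ι Q w) * (z : CliffordAlgebra Q) = z * (ι Q v * ι Q w) :=
    congrArg Subtype.val (Subalgebra.mem_center_iff.1 hz ⟨_, hU⟩)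
  exact ((isUnit_ι Q v hv).mul (isUnit_ι Q w hw)).mul_left_injective (h1.trans h2)

theorem refl_mul_refl_mem_SO' [Module.Free R M] [Module.Finite R M]
    (v : M) (hv : IsUnit (Q v)) (w : M) (hw : IsUnit (Q w)) :
    refl Q v hv * refl Q w hw ∈ QuadGrp.SO' Q := by
  refine ⟨(QuadGrp.O Q).mul_mem (refl_mem_O Q v hv) (refl_mem_O Q w hw), ?_⟩
  show LinearEquiv.det (refl Q v hv * refl Q w hw) = 1
  refine Units.ext ?_
  rw [map_mul, Units.val_mul, LinearEquiv.coe_det, LinearEquiv.coe_det, det_refl, det_refl]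
  simp

end Groth.L15.QG
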