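import Groth.Agent.L15.QG.McCoy
import Groth.Agent.L15.QG.Refl
import Groth.Agent.L15.QuadHalf
import Groth.Agent.S17015
import Mathlib.RingTheory.Localization.Away.Basic
import Mathlib.RingTheory.Ideal.Quotient.Basic

/-! Centralisers of reflections: scalars. -/

set_option autoImplicit false

namespace Groth.L15.QG

open TensorProduct MvPolynomial
open scoped Matrix

universe u

variable {R : Type u} [CommRing R] {n : ℕ}

/-- The standard basis of `A ⊗ Rⁿ`. -/
noncomputable def eA (R : Type u) [CommRing R] (A : Type u) [CommRing A] [Algebra R A] (n : ℕ) :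
    Module.Basis (Fin n) A (A ⊗[R] (Fin n → R)) := (Pi.basisFun R (Fin n)).baseChange A

theorem eA_apply (A : Type u) [CommRing A] [Algebra R A] (a : Fin n) :
    eA R A n a = (1 : A) ⊗ₜ[R] (Pi.basisFun R (Fin n) a) := by rw [eA, Module.Basis.baseChange_apply]

variable (Q : QuadraticForm R (Fin n → R))

theorem form_eA_sum (A : Type u) [CommRing A] [Algebra R A] (c : Fin n → A) :
    QuadGrp.baseChangeForm A Q (∑ a, c a • eA R A n a) =
      ∑ a, ∑ b, c a * (c b * algebraMap R A
        (QuadGrp.bilinLift Q (Pi.basisFun R (Fin n) a) (Pi.basisFun R (Fin n) b))) := by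
  rw [QuadGrp.baseChangeForm, LinearMap.compQuadraticMap_apply, QuadGrp.baseChange,
    LinearMap.BilinMap.toQuadraticMap_apply]
  simp only [map_sum, map_smul, LinearMap.coe_sum, Finset.sum_apply, LinearMap.smul_apply, eA_apply,
    LinearMap.BilinMap.baseChange_tmul, Finset.smul_sum, LinearEquiv.coe_coe]
  rw [Finset.sum_comm]
  refine Finset.sum_congr rfl fun a _ => Finset.sum_congr rfl fun b _ => ?_
  simp [Algebra.smul_def]
  ring

theorem polar_eA (A : Type u) [CommRing A] [Algebra R A] (x y : Fin n → R) :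
    QuadraticMap.polar (QuadGrp.baseChangeForm A Q) ((1 : A) ⊗ₜ[R] x) ((1 : A) ⊗ₜ[R] y) =
      algebraMap R A (QuadraticMap.polar Q x y) := by
  simp [QuadraticMap.polar, ← TensorProduct.tmul_add, QuadGrp.baseChangeForm, QuadGrp.baseChange_tmul,
    Algebra.smul_def, map_sub]

theorem polar_eA_sum (A : Type u) [CommRing A] [Algebra R A] (c : Fin n → A) (i : Fin n) :
    QuadraticMap.polar (QuadGrp.baseChangeForm A Q) (∑ a, c a • eA R A n a) (eA R A n i) =
      ∑ a, c a * algebraMap R A
        (QuadraticMap.polar Q (Pi.basisFun R (Fin n) a) (Pi.basisFun R (Fin n) i)) := by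
  rw [← QuadraticMap.polarBilin_apply_apply, map_sum, LinearMap.coe_sum, Finset.sum_apply]
  refine Finset.sum_congr rfl fun a _ => ?_
  rw [map_smul, LinearMap.smul_apply, QuadraticMap.polarBilin_apply_apply, eA_apply, eA_apply, polar_eA,
    smul_eq_mul]

theorem repr_baseChange_sum (A : Type u) [CommRing A] [Algebra R A]
    (g : (Fin n → R) ≃ₗ[R] (Fin n → R)) (c : Fin n → A) (k : Fin n) :
    (eA R A n).repr (g.baseChange R A (Fin n → R) (Fin n → R) (∑ a, c a • eA R A n a)) k =
      ∑ a, c a * algebraMap R A (g (Pi.basisFun R (Fin n) a) k) := by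
  simp [eA, map_sum, Finsupp.coe_finsetSum, Module.Basis.baseChange_repr_tmul, Algebra.smul_def]

/-- The alternating form `u ↦ det (u, v, w)` on three coordinates. -/
def det3 {A : Type*} [CommRing A] (k l p : Fin n) (u v w : Fin n → A) : A :=
  u k * (v l * w p - v p * w l) - u l * (v k * w p - v p * w k) + u p * (v k * w l - v l * w k)

theorem map_det3 {A B : Type*} [CommRing A] [CommRing B] (φ : A →+* B) (k l p : Fin n) (u v w : Fin n → A) :
    φ (det3 k l p u v w) = det3 k l p (φ ∘ u) (φ ∘ v) (φ ∘ w) := by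
  simp [det3, map_mul, map_sub, map_add]

/-- Core computation. -/
theorem det3_eq_zero_of_commute (A : Type u) [CommRing A] [Algebra R A]
    (gA : (A ⊗[R] (Fin n → R)) ≃ₗ[A] (A ⊗[R] (Fin n → R)))
    (v w : A ⊗[R] (Fin n → R)) (hv : IsUnit (QuadGrp.baseChangeForm A Q v))
    (hw : IsUnit (QuadGrp.baseChangeForm A Q w))
    (h : gA * (refl _ v hv * refl _ w hw) = (refl _ v hv * refl _ w hw) * gA) (i j k l p : Fin n) :
    (QuadraticMap.polar (QuadGrp.baseChangeForm A Q) v (eA R A n i) *
        QuadraticMap.polar (QuadGrp.baseChangeForm A Q) w (eA R A n j) -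
      QuadraticMap.polar (QuadGrp.baseChangeForm A Q) v (eA R A n j) *
        QuadraticMap.polar (QuadGrp.baseChangeForm A Q) w (eA R A n i)) *
      det3 k l p ((eA R A n).repr (gA v)) ((eA R A n).repr v) ((eA R A n).repr w) = 0 := by
  set QA := QuadGrp.baseChangeForm A Q
  set B := fun x y => QuadraticMap.polar QA x y with hB
  let r := refl QA v hv * refl QA w hw
  have hr : ∀ x, r x = x - ((↑hw.unit⁻¹ : A) * B w x) • w -
      ((↑hv.unit⁻¹ : A) * (B v x - ((↑hw.unit⁻¹ : A) * B w x) * B v w)) • v := by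
    intro x
    show refl QA v hv (refl QA w hw x) = _
    rw [refl_apply, refl_apply, hB]
    congr 2
    rw [sub_eq_add_neg, QuadraticMap.polar_add_right, QuadraticMap.polar_neg_right, QuadraticMap.polar_smul_right, smul_eq_mul]
    ring
  set z := B w (eA R A n j) • eA R A n i - B w (eA R A n i) • eA R A n j with hz
  set Δ := B v (eA R A n i) * B w (eA R A n j) - B v (eA R A n j) * B w (eA R A n i) with hΔ
  have hlin : ∀ x, B x z = B w (eA R A n j) * B x (eA R A n i) - B w (eA R A n i) * B x (eA R A n j) := by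
    intro x
    simp only [hB, hz]
    rw [sub_eq_add_neg, QuadraticMap.polar_add_right, QuadraticMap.polar_neg_right, QuadraticMap.polar_smul_right,
      QuadraticMap.polar_smul_right, smul_eq_mul, smul_eq_mul]
    ring
  have hwz : B w z = 0 := by rw [hlin]; ring
  have hvz : B v z = Δ := by rw [hlin, hΔ]; ring
  have hrz : r z = z - ((↑hv.unit⁻¹ : A) * Δ) • v := by
    rw [hr, hwz, hvz]; simp
  have hgz : gA (r z) = r (gA z) := by
    have := LinearEquiv.congr_fun h z
    simpa only [r, QA, LinearEquiv.mul_apply] using this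
  rw [hrz, map_sub, map_smul, hr] at hgz
  obtain ⟨α, hα⟩ : ∃ α, α = (↑hw.unit⁻¹ : A) * B w (gA z) := ⟨_, rfl⟩
  rw [← hα] at hgz
  obtain ⟨β, hβ⟩ : ∃ β, β = (↑hv.unit⁻¹ : A) * (B v (gA z) - α * B v w) := ⟨_, rfl⟩
  rw [← hβ] at hgz
  have hc : ∀ s, (↑hv.unit⁻¹ : A) * Δ * (eA R A n).repr (gA v) s =
      α * (eA R A n).repr w s + β * (eA R A n).repr v s := by
    intro s
    have := congrArg (fun t => (eA R A n).repr t s) hgz
    simp only [map_sub, map_smul, Finsupp.sub_apply, Finsupp.smul_apply, smul_eq_mul] at this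
    linear_combination -this
  have key : (↑hv.unit⁻¹ : A) *
      (Δ * det3 k l p ((eA R A n).repr (gA v)) ((eA R A n).repr v) ((eA R A n).repr w)) = 0 := by
    simp only [det3]
    linear_combination
      ((eA R A n).repr v l * (eA R A n).repr w p - (eA R A n).repr v p * (eA R A n).repr w l) * hc k -
      ((eA R A n).repr v k * (eA R A n).repr w p - (eA R A n).repr v p * (eA R A n).repr w k) * hc l +
      ((eA R A n).repr v k * (eA R A n).repr w l - (eA R A n).repr v l * (eA R A n).repr w k) * hc p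
  exact (Units.mul_right_eq_zero _).1 key

theorem exists_coeff_notMem {σ : Type*} (P : Ideal R) (p : MvPolynomial σ R) (x : σ → R)
    (h : MvPolynomial.eval x p ∉ P) : ∃ s, p.coeff s ∉ P := by
  by_contra hc
  push Not at hc
  refine h ?_
  rw [MvPolynomial.eval_eq]
  exact P.sum_mem fun s _ => P.mul_mem_right _ (hc s)

/-- Minors of the polar matrix generate the unit ideal. -/
def MinorsUnit (Q : QuadraticForm R (Fin n → R)) : Prop :=
  ∀ P : Ideal R, P.IsMaximal → ∃ i j a b : Fin n,
    polarMat (Pi.basisFun R (Fin n)) Q a i * polarMat (Pi.basisFun R (Fin n)) Q b j -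
      polarMat (Pi.basisFun R (Fin n)) Q a j * polarMat (Pi.basisFun R (Fin n)) Q b i ∉ P

theorem exists_value_notMem (hmin : MinorsUnit Q) (P : Ideal R) (hP : P.IsMaximal) : ∃ x, Q x ∉ P := by
  by_contra hc
  push Not at hc
  obtain ⟨i, j, a, b, h⟩ := hmin P hP
  have hp : ∀ s t, polarMat (Pi.basisFun R (Fin n)) Q s t ∈ P := fun s t => by
    show QuadraticMap.polar Q _ _ ∈ P
    exact P.sub_mem (P.sub_mem (hc _) (hc _)) (hc _)
  exact h (P.sub_mem (P.mul_mem_right _ (hp _ _)) (P.mul_mem_right _ (hp _ _)))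

section Univ

abbrev Poly (R : Type u) [CommRing R] (n : ℕ) := MvPolynomial (Fin n ⊕ Fin n) R

noncomputable def qPoly (f : Fin n → Fin n ⊕ Fin n) : Poly R n :=
  ∑ a, ∑ b, X (f a) * (X (f b) * C (QuadGrp.bilinLift Q (Pi.basisFun R (Fin n) a) (Pi.basisFun R (Fin n) b)))

noncomputable def bPoly (f : Fin n → Fin n ⊕ Fin n) (i : Fin n) : Poly R n :=
  ∑ a, X (f a) * C (polarMat (Pi.basisFun R (Fin n)) Q a i)

noncomputable def gPoly (g : (Fin n → R) ≃ₗ[R] (Fin n → R)) (k : Fin n) : Poly R n :=
  ∑ a, X (Sum.inl a) * C (g (Pi.basisFun R (Fin n) a) k)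

theorem eval_qPoly (x : Fin n ⊕ Fin n → R) (f : Fin n → Fin n ⊕ Fin n) :
    eval x (qPoly Q f) = Q (x ∘ f) := by
  have hx : ∑ a, x (f a) • Pi.basisFun R (Fin n) a = x ∘ f := by
    funext s; simp [Pi.single_apply, Finset.sum_apply]
  conv_rhs => rw [← hx, ← QuadGrp.bilinLift_spec Q, LinearMap.BilinMap.toQuadraticMap_apply]
  simp only [qPoly, map_sum, map_smul, LinearMap.coe_sum, Finset.sum_apply, LinearMap.smul_apply, map_mul,
    eval_X, eval_C, smul_eq_mul, Finset.mul_sum]
  rw [Finset.sum_comm]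
  exact Finset.sum_congr rfl fun a _ => Finset.sum_congr rfl fun b _ => by ring

variable {Q}

theorem det3_poly_eq_zero (hmin : MinorsUnit Q) (g : (Fin n → R) ≃ₗ[R] (Fin n → R))
    (hcomm : ∀ (A : Type u) [CommRing A] [Algebra R A] (v w : A ⊗[R] (Fin n → R))
      (hv : IsUnit (QuadGrp.baseChangeForm A Q v)) (hw : IsUnit (QuadGrp.baseChangeForm A Q w)),
        g.baseChange R A (Fin n → R) (Fin n → R) * (refl _ v hv * refl _ w hw) =
          (refl _ v hv * refl _ w hw) * g.baseChange R A (Fin n → R) (Fin n → R))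
    (k l p : Fin n) :
    det3 k l p (gPoly g) (fun a => (X (Sum.inl a) : Poly R n)) (fun a => X (Sum.inr a)) = 0 := by
  classical
  let q : Poly R n := qPoly Q Sum.inl * qPoly Q Sum.inr
  let A := Localization.Away q
  let φ : Poly R n →+* A := algebraMap (Poly R n) A
  have hC : ∀ r, φ (C r) = algebraMap R A r := fun r => by
    rw [IsScalarTower.algebraMap_apply R (Poly R n) A]; rfl
  let c : (Fin n → Fin n ⊕ Fin n) → Fin n → A := fun f a => φ (X (f a))
  let v := ∑ a, c Sum.inl a • eA R A n a
  let w := ∑ a, c Sum.inr a • eA R A n a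
  have hQ : ∀ f, QuadGrp.baseChangeForm A Q (∑ a, c f a • eA R A n a) = φ (qPoly Q f) := by
    intro f
    rw [form_eA_sum, qPoly]
    simp only [map_sum, map_mul, hC, c]
  have hu0 : IsUnit (φ q) := IsLocalization.Away.algebraMap_isUnit q
  have hu1 : IsUnit (φ (qPoly Q Sum.inl) * φ (qPoly Q Sum.inr)) := by rw [← map_mul]; exact hu0
  have hu := IsUnit.mul_iff.1 hu1
  have hv : IsUnit (QuadGrp.baseChangeForm A Q v) := by rw [hQ]; exact hu.1
  have hw : IsUnit (QuadGrp.baseChangeForm A Q w) := by rw [hQ]; exact hu.2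
  have hrep : ∀ f, ⇑((eA R A n).repr (∑ a, c f a • eA R A n a)) = c f := fun f =>
    funext fun a => by simp [Finsupp.coe_finsetSum, Finsupp.single_apply, Finset.sum_ite_eq', map_sum]
  have hB : ∀ f i, QuadraticMap.polar (QuadGrp.baseChangeForm A Q) (∑ a, c f a • eA R A n a) (eA R A n i) =
      φ (bPoly Q f i) := by
    intro f i
    rw [polar_eA_sum, bPoly]
    simp only [map_sum, map_mul, hC, c]
    rfl
  have hg : ⇑((eA R A n).repr (g.baseChange R A (Fin n → R) (Fin n → R) v)) = φ ∘ gPoly g := by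
    funext s
    rw [repr_baseChange_sum, Function.comp_apply, gPoly]
    simp only [map_sum, map_mul, hC, c]
  refine eq_zero_of_content (fun ij : Fin n × Fin n =>
    bPoly Q Sum.inl ij.1 * bPoly Q Sum.inr ij.2 - bPoly Q Sum.inl ij.2 * bPoly Q Sum.inr ij.1) _
    (fun P hP => ?_) (fun ij => ?_)
  · obtain ⟨i, j, a, b, h⟩ := hmin P hP
    refine ⟨(i, j), exists_coeff_notMem P _ (Sum.elim (Pi.single a 1) (Pi.single b 1)) ?_⟩
    have he : ∀ (f : Fin n → Fin n ⊕ Fin n) (e : Fin n) (t : Fin n),
        (Sum.elim (Pi.single a (1 : R)) (Pi.single b 1) ∘ f = Pi.single e 1) →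
        eval (Sum.elim (Pi.single a (1 : R)) (Pi.single b 1)) (bPoly Q f t) =
          polarMat (Pi.basisFun R (Fin n)) Q e t := by
      intro f e t hf
      simp only [bPoly, map_sum, map_mul, eval_X, eval_C]
      rw [Finset.sum_eq_single e (fun s _ hs => by
        rw [show Sum.elim (Pi.single a (1 : R)) (Pi.single b 1) (f s) = (Pi.single e (1 : R) : Fin n → R) s from
          congrFun hf s, Pi.single_eq_of_ne hs, zero_mul]) (by simp),
        show Sum.elim (Pi.single a (1 : R)) (Pi.single b 1) (f e) = (Pi.single e (1 : R) : Fin n → R) e from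
          congrFun hf e, Pi.single_eq_same, one_mul]
    rw [map_sub, map_mul, map_mul, he _ a i rfl, he _ b j rfl, he _ a j rfl, he _ b i rfl]
    exact h
  · have key := det3_eq_zero_of_commute Q A (g.baseChange R A (Fin n → R) (Fin n → R)) v w hv hw
      (hcomm A v w hv hw) ij.1 ij.2 k l p
    rw [hB, hB, hB, hB, hg, hrep, hrep] at key
    have hfold : φ ((bPoly Q Sum.inl ij.1 * bPoly Q Sum.inr ij.2 - bPoly Q Sum.inl ij.2 * bPoly Q Sum.inr ij.1) *
        det3 k l p (gPoly g) (fun a => (X (Sum.inl a) : Poly R n)) (fun a => X (Sum.inr a))) = 0 := by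
      rw [map_mul, map_sub, map_mul, map_mul, map_det3]
      exact key
    obtain ⟨⟨m, N, rfl⟩, hm⟩ := (IsLocalization.map_eq_zero_iff (Submonoid.powers q) A _).1 hfold
    refine eq_zero_of_content (fun _ : Unit => q ^ N) _ (fun P hP => ?_) (fun _ => hm)
    obtain ⟨x, hx⟩ := exists_value_notMem Q hmin P hP
    refine ⟨(), exists_coeff_notMem P _ (Sum.elim x x) ?_⟩
    show MvPolynomial.eval _ ((qPoly Q Sum.inl * qPoly Q Sum.inr) ^ N) ∉ P
    rw [map_pow, map_mul, eval_qPoly, eval_qPoly, Sum.elim_comp_inl, Sum.elim_comp_inr]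
    exact fun hmem => hx ((hP.isPrime.mem_or_mem (hP.isPrime.mem_of_pow_mem N hmem)).elim id id)

end Univ

theorem exists_scalar_of_commute (hn : 3 ≤ n) {Q : QuadraticForm R (Fin n → R)} (hmin : MinorsUnit Q)
    (g : (Fin n → R) ≃ₗ[R] (Fin n → R)) (hg : g ∈ QuadGrp.O Q)
    (hcomm : ∀ (A : Type u) [CommRing A] [Algebra R A] (v w : A ⊗[R] (Fin n → R))
      (hv : IsUnit (QuadGrp.baseChangeForm A Q v)) (hw : IsUnit (QuadGrp.baseChangeForm A Q w)),
        g.baseChange R A (Fin n → R) (Fin n → R) * (refl _ v hv * refl _ w hw) =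
          (refl _ v hv * refl _ w hw) * g.baseChange R A (Fin n → R) (Fin n → R)) :
    ∃ c : R, c * c = 1 ∧ ∀ v, g v = c • v := by
  classical
  let G : Fin n → Fin n → R := fun k a => g (Pi.basisFun R (Fin n) a) k
  have key : ∀ (x y : Fin n → R) k l p,
      det3 k l p (fun s => ∑ a, x a * G s a) x y = 0 := by
    intro x y k l p
    have := congrArg (MvPolynomial.eval (Sum.elim x y)) (det3_poly_eq_zero hmin g hcomm k l p)
    rw [map_det3, map_zero] at this
    convert this using 2
    · funext s; simp [gPoly, G]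
    · funext s; simp
    · funext s; simp
  have third : ∀ a b : Fin n, ∃ c, c ≠ a ∧ c ≠ b := by
    intro a b
    obtain ⟨c, hc⟩ : (Finset.univ \ {a, b} : Finset (Fin n)).Nonempty := by
      rw [← Finset.card_pos, Finset.card_sdiff_of_subset (Finset.subset_univ _), Finset.card_univ, Fintype.card_fin]
      have := Finset.card_le_two (a := a) (b := b)
      omega
    simp at hc
    exact ⟨c, hc.1, hc.2⟩
  have hoff : ∀ k a, k ≠ a → G k a = 0 := by
    intro k a hka
    obtain ⟨b, hbk, hba⟩ := third k a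
    have := key (Pi.single a 1) (Pi.single b 1) k a b
    simpa [det3, Pi.single_apply, hka, Ne.symm hka, hbk, Ne.symm hbk, hba, Ne.symm hba] using this
  have hdiag : ∀ a b, G a a = G b b := by
    intro a b
    rcases eq_or_ne a b with rfl | hab
    · rfl
    obtain ⟨c, hca, hcb⟩ := third a b
    have := key (Pi.single a 1 + Pi.single b 1) (Pi.single c 1) a b c
    simp [det3, Pi.single_apply, add_mul, Finset.sum_add_distrib, hab, Ne.symm hab, hca, Ne.symm hca, hcb,
      Ne.symm hcb, hoff] at this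
    exact sub_eq_zero.1 this
  set i0 : Fin n := ⟨0, by omega⟩
  refine ⟨G i0 i0, ?_, ?_⟩
  swap
  · intro v
    have : v = ∑ a, v a • Pi.basisFun R (Fin n) a := by
      funext s; simp [Pi.single_apply, Finset.sum_apply]
    funext s
    conv_lhs => rw [this, map_sum]
    simp only [map_smul, Finset.sum_apply, Pi.smul_apply, smul_eq_mul]
    rw [Finset.sum_eq_single s (fun t _ hts => by rw [show g _ s = G s t from rfl, hoff s t (Ne.symm hts), mul_zero])
      (by simp), show g _ s = G s s from rfl, hdiag s i0, mul_comm]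
  · by_contra hne
    let I : Ideal R :=
      { carrier := {r | (G i0 i0 * G i0 i0 - 1) * r = 0}
        add_mem' := fun {x y} hx hy => by
          show (G i0 i0 * G i0 i0 - 1) * (x + y) = 0
          rw [mul_add, show _ = (0 : R) from hx, show _ = (0 : R) from hy, add_zero]
        zero_mem' := mul_zero _
        smul_mem' := fun c x hx => by
          show (G i0 i0 * G i0 i0 - 1) * (c * x) = 0
          rw [mul_left_comm, show _ = (0 : R) from hx, mul_zero] }
    have hI : I ≠ ⊤ := fun e => hne (by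
      have : (G i0 i0 * G i0 i0 - 1) * 1 = 0 := (e ▸ Submodule.mem_top : (1 : R) ∈ I)
      linear_combination this)
    obtain ⟨P, hP, hIP⟩ := Ideal.exists_le_maximal I hI
    obtain ⟨x, hx⟩ := exists_value_notMem Q hmin P hP
    refine hx (hIP ?_)
    show (G i0 i0 * G i0 i0 - 1) * Q x = 0
    have hgx : g x = G i0 i0 • x := by
      have : x = ∑ a, x a • Pi.basisFun R (Fin n) a := by
        funext s; simp [Pi.single_apply, Finset.sum_apply]
      funext s
      conv_lhs => rw [this, map_sum]
      simp only [map_smul, Finset.sum_apply, Pi.smul_apply, smul_eq_mul]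
      rw [Finset.sum_eq_single s (fun t _ hts => by rw [show g _ s = G s t from rfl, hoff s t (Ne.symm hts), mul_zero])
        (by simp), show g _ s = G s s from rfl, hdiag s i0, mul_comm]
    have h := hg x
    rw [hgx, QuadraticMap.map_smul, smul_eq_mul] at h
    linear_combination h

section Nondeg

theorem minorsUnit_of_isRegular (hn : 2 ≤ n) (hQ : QuadGrp.IsRegular Q) : MinorsUnit Q := by
  classical
  intro P hP
  by_contra hc
  push Not at hc
  let b := Pi.basisFun R (Fin n)
  have hdet : IsUnit (polarMat b Q).det := by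
    have he : LinearMap.toMatrix b b.dualBasis (LinearEquiv.ofBijective Q.polarBilin hQ).toLinearMap =
        (polarMat b Q).transpose := by
      refine Matrix.ext fun i j => ?_
      rw [LinearMap.toMatrix_apply, Matrix.transpose_apply, polarMat, Matrix.of_apply, Module.Basis.dualBasis_repr]
      rfl
    have := LinearEquiv.isUnit_det (LinearEquiv.ofBijective Q.polarBilin hQ) b b.dualBasis
    rwa [he, Matrix.det_transpose] at this
  refine hP.ne_top (Ideal.eq_top_of_isUnit_mem _ ?_ hdet)
  rw [← Ideal.Quotient.eq_zero_iff_mem, RingHom.map_det]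
  haveI := hP
  letI := Ideal.Quotient.field P
  set S := (Ideal.Quotient.mk P).mapMatrix (polarMat b Q) with hS
  have hmin : ∀ a c i j, S a i * S c j - S a j * S c i = 0 := by
    intro a c i j
    simp only [hS, RingHom.mapMatrix_apply, Matrix.map_apply, ← map_mul, ← map_sub]
    exact Ideal.Quotient.eq_zero_iff_mem.2 (hc i j a c)
  rw [← Matrix.exists_mulVec_eq_zero_iff]
  let o : Fin n := ⟨0, by omega⟩
  let l : Fin n := ⟨1, by omega⟩
  by_cases h0 : ∀ a, S a o = 0
  · exact ⟨Pi.single o 1, by simp, funext fun a => by simp [h0]⟩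
  · push Not at h0
    obtain ⟨a, ha⟩ := h0
    refine ⟨S a o • Pi.single l 1 - S a l • Pi.single o 1, fun h => ha ?_, funext fun c => ?_⟩
    · have := congrFun h l
      simpa [o, l, Fin.ext_iff] using this
    · simp only [Matrix.mulVec_sub, Matrix.mulVec_smul, Matrix.mulVec_single_one, Pi.sub_apply, Pi.smul_apply,
        smul_eq_mul, Matrix.col_apply, Pi.zero_apply]
      linear_combination hmin a c o l

theorem minorsUnit_of_semiregular (m : ℕ) (hm : 1 ≤ m) (Q : QuadraticForm R (Fin (2 * m + 1) → R))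
    (hQ : QuadGrp.IsSemiregular (Pi.basisFun R (Fin (2 * m + 1))) (LinearEquiv.refl R R) Q) : MinorsUnit Q := by
  classical
  intro P hP
  by_contra hc
  push Not at hc
  let b := Pi.basisFun R (Fin (2 * m + 1))
  haveI := hP
  let K := R ⧸ P
  letI : Field K := Ideal.Quotient.field P
  let QK := QuadGrp.baseChangeForm K Q
  let bK := b.baseChange K
  have hs : Specialises (algebraMap R K) bK QK b Q := by
    intro x
    have hx : ∑ i, algebraMap R K (x i) • bK i = (1 : K) ⊗ₜ[R] (∑ i, x i • b i) := by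
      rw [TensorProduct.tmul_sum]
      refine Finset.sum_congr rfl fun i _ => ?_
      rw [Module.Basis.baseChange_apply, TensorProduct.smul_tmul', TensorProduct.tmul_smul,
        TensorProduct.smul_tmul', algebraMap_smul]
    rw [hx]
    simp [QK, QuadGrp.baseChangeForm, QuadGrp.baseChange_tmul, Algebra.smul_def]
  have hne : QuadGrp.halfDisc bK (LinearEquiv.refl K K) QK ≠ 0 := by
    rw [← hs.map_halfDisc]
    exact (hQ.map (algebraMap R K)).ne_zero
  have hnd := (Groth.Agent.S17015.halfDisc_ne_zero_iff m bK QK).1 hne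
  haveI := Module.Finite.of_basis bK
  have hrank : Module.finrank K (LinearMap.ker QK.polarBilin) ≤ 1 :=
    Module.finrank_le_of_rank_le (by exact_mod_cast hnd.rank_rad_polar_le)
  set S := polarMat bK QK with hS
  have hmin : ∀ a c i j, S a i * S c j - S a j * S c i = 0 := by
    intro a c i j
    have hP' : ∀ s t, S s t = algebraMap R K (polarMat b Q s t) := fun s t => hs.map_polar _ s t |>.symm
    rw [hP', hP', hP', hP', ← map_mul, ← map_mul, ← map_sub]
    exact Ideal.Quotient.eq_zero_iff_mem.2 (hc i j a c)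
  have hker : ∀ x : (Fin (2 * m + 1) → K), S *ᵥ x = 0 → bK.equivFun.symm x ∈ LinearMap.ker QK.polarBilin := by
    intro x hx
    rw [LinearMap.mem_ker]
    refine bK.ext fun i => ?_
    rw [QuadraticMap.polarBilin_apply_apply, QuadraticMap.polar_comm, Groth.Agent.S17015.polar_sum bK,
      show (⇑(bK.repr (bK.equivFun.symm x))) = x from bK.equivFun.apply_symm_apply x, hx]
    rfl
  have two : ∀ x y : Fin (2 * m + 1) → K, S *ᵥ x = 0 → S *ᵥ y = 0 → LinearIndependent K ![x, y] → False := by
    intro x y hx hy hli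
    let xy : Fin 2 → LinearMap.ker QK.polarBilin := ![⟨_, hker x hx⟩, ⟨_, hker y hy⟩]
    have h2 : LinearIndependent K xy := by
      refine LinearIndependent.of_comp (bK.equivFun.toLinearMap.comp (LinearMap.ker QK.polarBilin).subtype) ?_
      convert hli using 1
      funext t
      fin_cases t
      · exact bK.equivFun.apply_symm_apply x
      · exact bK.equivFun.apply_symm_apply y
    have := h2.fintype_card_le_finrank
    simp at this
    omega
  let o : Fin (2 * m + 1) := ⟨0, by omega⟩
  let l : Fin (2 * m + 1) := ⟨1, by omega⟩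
  let p : Fin (2 * m + 1) := ⟨2, by omega⟩
  by_cases h0 : ∀ i j, S i j = 0
  · refine two (Pi.single o 1) (Pi.single l 1) (funext fun a => by simp [h0]) (funext fun a => by simp [h0]) ?_
    refine LinearIndependent.pair_iff.2 fun s t h => ⟨?_, ?_⟩
    · simpa [o, l, Fin.ext_iff] using congrFun h o
    · simpa [o, l, Fin.ext_iff] using congrFun h l
  · push Not at h0
    obtain ⟨i, a, hia⟩ := h0
    obtain ⟨c, d, hca, hda, hcd⟩ : ∃ c d : Fin (2 * m + 1), c ≠ a ∧ d ≠ a ∧ c ≠ d := by
      rcases eq_or_ne a o with rfl | hao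
      · exact ⟨l, p, by simp [o, l, Fin.ext_iff], by simp [o, p, Fin.ext_iff], by simp [l, p, Fin.ext_iff]⟩
      rcases eq_or_ne a l with rfl | hal
      · exact ⟨o, p, Ne.symm hao, by simp [l, p, Fin.ext_iff], by simp [o, p, Fin.ext_iff]⟩
      exact ⟨o, l, Ne.symm hao, Ne.symm hal, by simp [o, l, Fin.ext_iff]⟩
    have hv : ∀ c, S *ᵥ (S i a • Pi.single c 1 - S i c • Pi.single a 1) = 0 := fun c => funext fun j => by
      simp only [Matrix.mulVec_sub, Matrix.mulVec_smul, Matrix.mulVec_single_one, Pi.sub_apply, Pi.smul_apply,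
        smul_eq_mul, Matrix.col_apply, Pi.zero_apply]
      linear_combination hmin i j a c
    refine two _ _ (hv c) (hv d) (LinearIndependent.pair_iff.2 fun s t h => ⟨?_, ?_⟩)
    · simpa [hca, hcd, Ne.symm hcd, hia] using congrFun h c
    · simpa [hda, hcd, Ne.symm hcd, hia] using congrFun h d

theorem minorsUnit_of_isNondeg (hn : 3 ≤ n) (hQ : QuadGrp.IsNondeg (Pi.basisFun R (Fin n)) (LinearEquiv.refl R R) Q) :
    MinorsUnit Q := by
  rcases Nat.even_or_odd' n with ⟨m, rfl | rfl⟩
  · exact minorsUnit_of_isRegular Q (by omega) (hQ.1 ⟨m, two_mul m⟩)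
  · exact minorsUnit_of_semiregular m (by omega) Q (hQ.2 ⟨m, rfl⟩)

end Nondeg

theorem mem_O_baseChange {A : Type u} [CommRing A] [Algebra R A] (h : (A ⊗[R] (Fin n → R)) ≃ₗ[A] (A ⊗[R] (Fin n → R))) :
    h ∈ QuadGrp.O (QuadGrp.baseChange A Q) ↔ h ∈ QuadGrp.O (QuadGrp.baseChangeForm A Q) := by
  refine forall_congr' fun v => ?_
  rw [QuadGrp.baseChangeForm, LinearMap.compQuadraticMap_apply, LinearMap.compQuadraticMap_apply]
  exact (AlgebraTensorModule.rid R A A).injective.eq_iff.symm

theorem commute_of_scalar {A : Type u} [CommRing A] [Algebra R A] (g : (Fin n → R) ≃ₗ[R] (Fin n → R)) (c : R)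
    (hc : ∀ v, g v = c • v) (h : (A ⊗[R] (Fin n → R)) ≃ₗ[A] (A ⊗[R] (Fin n → R))) :
    g.baseChange R A (Fin n → R) (Fin n → R) * h = h * g.baseChange R A (Fin n → R) (Fin n → R) := by
  have hb : ∀ x, g.baseChange R A (Fin n → R) (Fin n → R) x = algebraMap R A c • x := by
    intro x
    induction x using TensorProduct.induction_on with
    | zero => simp
    | tmul a m => rw [LinearEquiv.baseChange_tmul, hc, TensorProduct.tmul_smul, algebraMap_smul]
    | add x y hx hy => rw [map_add, hx, hy, smul_add]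
  refine LinearEquiv.ext fun x => ?_
  rw [LinearEquiv.mul_apply, LinearEquiv.mul_apply, hb, hb, map_smul]

end Groth.L15.QG
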