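import Groth.Agent.L15.QG.Local
import Mathlib.GroupTheory.Index
import Mathlib.RingTheory.LocalRing.RingHom.Basic
import Mathlib.RingTheory.Flat.Equalizer
import Mathlib.RingTheory.Spectrum.Prime.Topology

/-! Orthogonal groups in even rank: Dickson invariant, determinant, inner isometries. -/

set_option autoImplicit false

namespace Groth.L15.QG

open TensorProduct CliffordAlgebra

universe u v

variable {R : Type u} [CommRing R] {M : Type v} [AddCommGroup M] [Module R M]
variable {Q : QuadraticForm R M}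

/-- The Clifford automorphism of an isometry. -/
noncomputable abbrev cl {g : M ≃ₗ[R] M} (hg : g ∈ QuadGrp.O Q) : CliffordAlgebra Q →ₐ[R] CliffordAlgebra Q :=
  CliffordAlgebra.map (QuadGrp.isometryOfMem Q g hg)

theorem cl_congr_mem {g h : M ≃ₗ[R] M} (hg : g ∈ QuadGrp.O Q) (hh : h ∈ QuadGrp.O Q) (e : g = h)
    (x : CliffordAlgebra Q) : cl hg x = cl hh x := by subst e; rfl

variable [Module.Free R M] [Module.Finite R M]

theorem isDicksonTrivial_iff_of_zed {z : CliffordAlgebra Q} (hz : IsZed Q z) (hQ : QuadGrp.IsRegular Q) {v₀ : M}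
    (hv₀ : IsUnit (Q v₀)) {g : M ≃ₗ[R] M} (hg : g ∈ QuadGrp.O Q) :
    QuadGrp.IsDicksonTrivial Q g hg ↔ cl hg z = z := by
  constructor
  · intro h
    refine h ⟨z, hz.even⟩ (Subalgebra.mem_center_iff.2 fun y => Subtype.ext ?_)
    exact hz.commute_even y.2
  · intro h x hx
    obtain ⟨a, c, hac⟩ := hz.exists_of_central hQ hv₀ x.2 fun y hy =>
      congrArg Subtype.val (Subalgebra.mem_center_iff.1 hx ⟨y, hy⟩)
    show cl hg (x : CliffordAlgebra Q) = x
    rw [hac, map_add, map_smul, AlgHom.commutes, h]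

section LocalRing

variable [IsLocalRing R]

theorem exists_zed_of_regular {m : ℕ} (hM : Module.finrank R M = 2 * m) (hQ : QuadGrp.IsRegular Q) :
    ∃ z, IsZed Q z ∧ star (del z) = ((-1 : R) ^ m) • del z := by
  obtain ⟨F, hF⟩ := exists_evenFrame m Q hM hQ
  exact F.exists_zed hF

/-- The dichotomy: `(g z, det g) = (z, 1)` or `(1 - z, -1)`. -/
theorem zed_det_dichotomy {m : ℕ} (hM : Module.finrank R M = 2 * m) (hQ : QuadGrp.IsRegular Q)
    {z : CliffordAlgebra Q} (hz : IsZed Q z) {g : M ≃ₗ[R] M} (hg : g ∈ QuadGrp.O Q) :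
    (cl hg z = z ∧ LinearMap.det g.toLinearMap = 1) ∨ (cl hg z = 1 - z ∧ LinearMap.det g.toLinearMap = -1) := by
  obtain ⟨F, hF⟩ := exists_evenFrame m Q hM hQ
  obtain ⟨l, hl⟩ := (F.baseChange (Rt R)).exists_eq_reflProd (fiveUnits_Rt R) (hF.baseChange (Rt R))
    (baseChange_mem_O (Rt R) hg)
  have hdet := det_baseChange_equiv (Rt R) g
  rw [hl, det_reflProd] at hdet
  have hzS := isZed_toC (A := Rt R) hz
  have hlO := reflProd_mem_O (R := Rt R) (M := Rt R ⊗[R] M) l
  have hmap := hzS.map_reflProd l hlO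
  rw [← cl_congr_mem (baseChange_mem_O (Rt R) hg) hlO hl, cl, map_toC (Rt R) hg] at hmap
  have hinj := toC_injective (Rt R) Q (injective_Rt R)
  by_cases he : Even l.length
  · rw [if_pos he] at hmap
    exact Or.inl ⟨hinj hmap, injective_Rt R (by rw [map_one, ← hdet]; exact Even.neg_one_pow (α := Rt R) he)⟩
  · rw [if_neg he] at hmap
    refine Or.inr ⟨hinj ?_, injective_Rt R (by
      rw [map_neg, map_one, ← hdet]; exact Odd.neg_one_pow (α := Rt R) (Nat.not_even_iff_odd.1 he))⟩
    rw [map_sub, map_one]; exact hmap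

theorem det_of_fix_zed {m : ℕ} (hM : Module.finrank R M = 2 * m) (hQ : QuadGrp.IsRegular Q)
    {z : CliffordAlgebra Q} (hz : IsZed Q z) {g : M ≃ₗ[R] M} (hg : g ∈ QuadGrp.O Q) (h : cl hg z = z) :
    LinearMap.det g.toLinearMap = 1 := by
  rcases zed_det_dichotomy hM hQ hz hg with ⟨-, h1⟩ | ⟨h1, -⟩
  · exact h1
  · exact absurd (h.symm.trans h1) hz.ne_one_sub

end LocalRing

section Global

variable (P : Ideal R) [P.IsPrime]

local notation "RP" => Localization.AtPrime P

theorem finrank_RP {m : ℕ} [Nontrivial R] (hM : Module.finrank R M = 2 * m) :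
    Module.finrank RP (RP ⊗[R] M) = 2 * m := by
  rw [Module.finrank_baseChange, hM]

include P in
theorem nontrivial_of_prime : Nontrivial R := by
  refine ⟨⟨0, 1, fun h => ?_⟩⟩
  exact Ideal.IsPrime.ne_top ‹_› (Ideal.eq_top_of_isUnit_mem P (h ▸ P.zero_mem : (1 : R) ∈ P) isUnit_one)

/-- A Dickson trivial isometry stays so in localisations. -/
theorem fix_zed_of_dickson {g : M ≃ₗ[R] M} {hg : g ∈ QuadGrp.O Q} (hD : QuadGrp.IsDicksonTrivial Q g hg)
    {z : CliffordAlgebra (QuadGrp.baseChangeForm RP Q)} (hz : IsZed _ z) :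
    cl (baseChange_mem_O RP hg) z = z := by
  obtain ⟨s, hs, x, hxe, hxc, hx⟩ := exists_central_lift (A := RP) P.primeCompl hz.even
    (fun w hw => hz.commute_even hw)
  have hgx : cl hg x = x := hD ⟨x, hxe⟩ (Subalgebra.mem_center_iff.2 fun y => Subtype.ext (hxc y y.2))
  have h := congrArg (cl (baseChange_mem_O RP hg)) hx
  rw [cl, map_toC _ hg, show CliffordAlgebra.map (QuadGrp.isometryOfMem Q g hg) x = x from hgx, hx, map_smul] at h
  exact ((IsLocalization.map_units RP ⟨s, hs⟩).smul_left_cancel).1 h.symm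

end Global

theorem det_eq_one_of_dickson {m : ℕ} (hM : Module.finrank R M = 2 * m) (hQ : QuadGrp.IsRegular Q) {g : M ≃ₗ[R] M}
    {hg : g ∈ QuadGrp.O Q} (hD : QuadGrp.IsDicksonTrivial Q g hg) : LinearMap.det g.toLinearMap = 1 := by
  refine eq_of_forall_algebraMap fun P _ => ?_
  haveI := nontrivial_of_prime P
  rw [map_one, ← det_baseChange_equiv]
  obtain ⟨z, hz, -⟩ := exists_zed_of_regular (finrank_RP P hM) (isRegular_baseChange _ hQ)
  exact det_of_fix_zed (finrank_RP P hM) (isRegular_baseChange _ hQ) hz _ (fix_zed_of_dickson P hD hz)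

/-- If `g` fixes every local `z` then it is Dickson trivial. -/
theorem dickson_of_forall_fix {m : ℕ} (hm : 1 ≤ m) (hM : Module.finrank R M = 2 * m) (hQ : QuadGrp.IsRegular Q)
    {g : M ≃ₗ[R] M} (hg : g ∈ QuadGrp.O Q)
    (h : ∀ P : Ideal R, ∀ [P.IsMaximal], ∀ z : CliffordAlgebra (QuadGrp.baseChangeForm (Localization.AtPrime P) Q),
      IsZed _ z → cl (baseChange_mem_O (Localization.AtPrime P) hg) z = z) :
    QuadGrp.IsDicksonTrivial Q g hg := by
  intro x hx
  refine eq_of_forall_localization fun P _ => ?_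
  haveI := nontrivial_of_prime P
  obtain ⟨F, hF⟩ := exists_evenFrame m _ (finrank_RP P hM) (isRegular_baseChange (Localization.AtPrime P) hQ)
  obtain ⟨z, hz, -⟩ := F.exists_zed hF
  obtain ⟨a, c, hac⟩ := hz.exists_of_central (isRegular_baseChange _ hQ) (F.unit_e ⟨0, hm⟩)
    (toC_mem_evenOdd (Localization.AtPrime P) Q x.2) fun y hy => toC_mem_central
      (fun w hw => congrArg Subtype.val (Subalgebra.mem_center_iff.1 hx ⟨w, hw⟩)) hy
  rw [← map_toC (Localization.AtPrime P) hg, hac]
  show cl _ _ = _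
  rw [map_add, AlgHom.commutes, map_smul, h P z hz]

theorem dickson_of_det [Invertible (2 : R)] {m : ℕ} (hm : 1 ≤ m) (hM : Module.finrank R M = 2 * m)
    (hQ : QuadGrp.IsRegular Q) {g : M ≃ₗ[R] M} (hg : g ∈ QuadGrp.O Q) (hd : LinearMap.det g.toLinearMap = 1) :
    QuadGrp.IsDicksonTrivial Q g hg := by
  refine dickson_of_forall_fix hm hM hQ hg fun P _ z hz => ?_
  haveI := nontrivial_of_prime P
  rcases zed_det_dichotomy (finrank_RP P hM) (isRegular_baseChange _ hQ) hz (baseChange_mem_O _ hg) with ⟨h, -⟩ | ⟨-, h⟩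
  · exact h
  · exfalso
    rw [det_baseChange_equiv, hd, map_one] at h
    have h2 : IsUnit (2 : Localization.AtPrime P) := by
      rw [← map_ofNat (algebraMap R (Localization.AtPrime P)) 2]
      exact (isUnit_of_invertible (2 : R)).map _
    exact not_isUnit_zero (by rwa [show (2 : Localization.AtPrime P) = 0 by linear_combination h] at h2)

theorem det_sq_of_regular {m : ℕ} (hM : Module.finrank R M = 2 * m) (hQ : QuadGrp.IsRegular Q) {g : M ≃ₗ[R] M}
    (hg : g ∈ QuadGrp.O Q) (h2 : (2 : R) = 0) : LinearMap.det g.toLinearMap = 1 := by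
  refine eq_of_forall_algebraMap fun P _ => ?_
  haveI := nontrivial_of_prime P
  rw [map_one, ← det_baseChange_equiv]
  obtain ⟨z, hz, -⟩ := exists_zed_of_regular (finrank_RP P hM) (isRegular_baseChange _ hQ)
  rcases zed_det_dichotomy (finrank_RP P hM) (isRegular_baseChange _ hQ) hz (baseChange_mem_O _ hg) with ⟨-, h⟩ | ⟨-, h⟩
  · exact h
  · have h0 : (2 : Localization.AtPrime P) = 0 := by
      rw [← map_ofNat (algebraMap R (Localization.AtPrime P)) 2, h2, map_zero]
    rw [h]; linear_combination -h0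

section Connected

/-- An element with unit scalar square stays nonzero nearby. -/
theorem nonzero_nearby (P : Ideal R) [P.IsPrime] {w : CliffordAlgebra Q} {d : Localization.AtPrime P}
    (hd : IsUnit d) (h : toC (Localization.AtPrime P) Q w * toC (Localization.AtPrime P) Q w = algebraMap _ _ d) :
    ∃ f ∉ P, ∀ (q : Ideal R) [q.IsPrime], f ∉ q → toC (Localization.AtPrime q) Q w ≠ 0 := by
  obtain ⟨⟨r, ⟨t, ht⟩⟩, hrt⟩ := IsLocalization.surj P.primeCompl d
  have hr : r ∉ P := by
    have hu : IsUnit (algebraMap R (Localization.AtPrime P) r) :=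
      hrt ▸ hd.mul (IsLocalization.map_units _ ⟨t, ht⟩)
    exact (IsLocalization.AtPrime.isUnit_to_map_iff _ P r).1 hu
  obtain ⟨s, hs, hs0⟩ := exists_smul_eq_zero (A := Localization.AtPrime P) P.primeCompl
    (x := t • (w * w) - algebraMap R _ r) (by
      rw [map_sub, toC_smul, map_mul, h, AlgHom.commutes, Algebra.smul_def, ← map_mul,
        IsScalarTower.algebraMap_apply R (Localization.AtPrime P) (CliffordAlgebra _) r, mul_comm, hrt, sub_self])
  refine ⟨r * s, fun hm => ((Ideal.IsPrime.mem_or_mem ‹_› hm).elim hr hs), fun q _ hq h0 => ?_⟩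
  have h1 := congrArg (toC (Localization.AtPrime q) Q) hs0
  rw [toC_smul, map_sub, toC_smul, map_mul, h0, mul_zero, smul_zero, zero_sub, map_zero, smul_neg, neg_eq_zero,
    AlgHom.commutes, IsScalarTower.algebraMap_apply R (Localization.AtPrime q) (CliffordAlgebra _) r, Algebra.smul_def,
    ← map_mul (algebraMap (Localization.AtPrime q) _), ← map_mul (algebraMap R _)] at h1
  have h2 := algebraMap_injective (QuadGrp.baseChangeForm (Localization.AtPrime q) Q) (h1.trans (map_zero _).symm)
  have hu : IsUnit (algebraMap R (Localization.AtPrime q) (s * r)) :=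
    (IsLocalization.AtPrime.isUnit_to_map_iff _ q _).2 (fun hm => hq (by rwa [mul_comm]))
  exact hu.ne_zero h2

/-- The fixed/moved status of the local `z` is open. -/
theorem status_open {m : ℕ} (hm : 1 ≤ m) (hM : Module.finrank R M = 2 * m) (hQ : QuadGrp.IsRegular Q)
    {g : M ≃ₗ[R] M} (hg : g ∈ QuadGrp.O Q) (P : Ideal R) [P.IsPrime] :
    (LinearMap.det (g.baseChange R (Localization.AtPrime P) M M).toLinearMap = 1 ∧
      ∀ z, IsZed _ z → cl (baseChange_mem_O (Localization.AtPrime P) hg) z = z) ∧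
      (∃ f ∉ P, ∀ (q : Ideal R) [q.IsPrime], f ∉ q →
        ∀ z, IsZed _ z → cl (baseChange_mem_O (Localization.AtPrime q) hg) z = z) ∨
    (LinearMap.det (g.baseChange R (Localization.AtPrime P) M M).toLinearMap = -1 ∧
      ∀ z, IsZed _ z → cl (baseChange_mem_O (Localization.AtPrime P) hg) z = 1 - z) ∧
      (∃ f ∉ P, ∀ (q : Ideal R) [q.IsPrime], f ∉ q →
        ∀ z, IsZed _ z → cl (baseChange_mem_O (Localization.AtPrime q) hg) z = 1 - z) := by
  haveI := nontrivial_of_prime P
  let S := Localization.AtPrime P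
  obtain ⟨F, hF⟩ := exists_evenFrame m _ (finrank_RP P hM) (isRegular_baseChange S hQ)
  obtain ⟨z, hz, -⟩ := F.exists_zed hF
  obtain ⟨s, hs, x, hxe, hxc, hx⟩ := exists_central_lift (A := S) P.primeCompl hz.even (fun w hw => hz.commute_even hw)
  obtain ⟨c, hc, hu⟩ := hz.sq
  have hsu : IsUnit (algebraMap R S s) := IsLocalization.map_units S ⟨s, hs⟩
  have hdd : del z * del z = algebraMap S _ (4 * c + 1) := by
    rw [show del z * del z = 4 * (z * z) - 4 * z + 1 by simp only [del]; noncomm_ring, hc, map_add, map_mul,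
      map_ofNat, map_one]
    noncomm_ring
  -- at nearby primes the image of `x` is `a + c z'` and moves accordingly
  have near : ∀ (q : Ideal R) [q.IsPrime] (z' : CliffordAlgebra (QuadGrp.baseChangeForm (Localization.AtPrime q) Q)),
      IsZed _ z' → ∃ a c' : Localization.AtPrime q, toC (Localization.AtPrime q) Q x = algebraMap _ _ a + c' • z' := by
    intro q _ z' hz'
    haveI := nontrivial_of_prime q
    obtain ⟨F', hF'⟩ := exists_evenFrame m _ (finrank_RP q hM) (isRegular_baseChange (Localization.AtPrime q) hQ)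
    exact hz'.exists_of_central (isRegular_baseChange _ hQ) (F'.unit_e ⟨0, hm⟩) (toC_mem_evenOdd _ Q hxe)
      (fun y hy => toC_mem_central hxc hy)
  have dich := zed_det_dichotomy (finrank_RP P hM) (isRegular_baseChange S hQ) hz (baseChange_mem_O S hg)
  have huniq : ∀ z', IsZed _ z' →
      (cl (baseChange_mem_O S hg) z = z → cl (baseChange_mem_O S hg) z' = z') ∧
      (cl (baseChange_mem_O S hg) z = 1 - z → cl (baseChange_mem_O S hg) z' = 1 - z') := by
    intro z' hz'
    rcases zed_det_dichotomy (finrank_RP P hM) (isRegular_baseChange S hQ) hz' (baseChange_mem_O S hg) with ⟨h', -⟩ | ⟨h', -⟩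
    · refine ⟨fun _ => h', fun h => absurd ?_ hz.ne_one_sub⟩
      obtain ⟨a, b, hab⟩ := hz'.exists_of_central (isRegular_baseChange _ hQ) (F.unit_e ⟨0, hm⟩) hz.even
        (fun y hy => hz.commute_even hy)
      have : cl (baseChange_mem_O S hg) z = z := by rw [hab, map_add, map_smul, AlgHom.commutes, h']
      exact this.symm.trans h
    · refine ⟨fun h => absurd ?_ hz'.ne_one_sub, fun _ => h'⟩
      obtain ⟨a, b, hab⟩ := hz.exists_of_central (isRegular_baseChange _ hQ) (F.unit_e ⟨0, hm⟩) hz'.even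
        (fun y hy => hz'.commute_even hy)
      have : cl (baseChange_mem_O S hg) z' = z' := by rw [hab, map_add, map_smul, AlgHom.commutes, h]
      exact this.symm.trans h'
  rcases dich with ⟨hz1, hd1⟩ | ⟨hz1, hd1⟩
  · left
    refine ⟨⟨hd1, fun z' hz' => (huniq z' hz').1 hz1⟩, ?_⟩
    -- a witness that `x` is not scalar
    let v₀ := F.e ⟨0, hm⟩
    obtain ⟨⟨r₀, ⟨t₀, ht₀⟩⟩, hrt₀⟩ := IsLocalization.surj P.primeCompl (1 : S)
    obtain ⟨v, hv⟩ : ∃ v : M, IsUnit (algebraMap R S (Q v)) := by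
      by_contra hcon
      push Not at hcon
      have hall : ∀ v, Q v ∈ P := fun v => by
        by_contra hv; exact hcon v ((IsLocalization.AtPrime.isUnit_to_map_iff S P _).2 hv)
      let b := Module.Free.chooseBasis R M
      haveI : Nontrivial M := Module.nontrivial_of_finrank_pos (R := R) (by omega)
      obtain ⟨i⟩ := b.index_nonempty
      obtain ⟨y, hy⟩ := hQ.2 (b.coord i)
      have h1 : QuadraticMap.polar Q y (b i) = 1 := by
        rw [← QuadraticMap.polarBilin_apply_apply, hy, Module.Basis.coord_apply, b.repr_self, Finsupp.single_eq_same]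
      exact Ideal.IsPrime.ne_top ‹_› (Ideal.eq_top_of_isUnit_mem _
        (show (1 : R) ∈ P by rw [← h1]; exact P.sub_mem (P.sub_mem (hall _) (hall _)) (hall _)) isUnit_one)
    have hw : toC S Q (ι Q v * x - x * ι Q v) * toC S Q (ι Q v * x - x * ι Q v) =
        algebraMap S _ (-(algebraMap R S s * algebraMap R S s * (4 * c + 1) * algebraMap R S (Q v))) := by
      have h1 : toC S Q (ι Q v * x - x * ι Q v) =
          algebraMap R S s • (-(del z * ι (QuadGrp.baseChangeForm S Q) ((1 : S) ⊗ₜ[R] v))) := by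
        rw [map_sub, map_mul, map_mul (toC S Q) x, hx, toC_ι, mul_smul_comm, smul_mul_assoc, hz.anti, ← smul_sub]
        congr 1
        simp only [del, sub_mul, two_mul, add_mul, one_mul]
        abel
      rw [h1, smul_mul_smul_comm, neg_mul_neg,
        show del z * ι (QuadGrp.baseChangeForm S Q) ((1 : S) ⊗ₜ[R] v) * (del z * ι (QuadGrp.baseChangeForm S Q) ((1 : S) ⊗ₜ[R] v)) =
          del z * (ι (QuadGrp.baseChangeForm S Q) ((1 : S) ⊗ₜ[R] v) * del z) * ι (QuadGrp.baseChangeForm S Q) ((1 : S) ⊗ₜ[R] v)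
          by noncomm_ring, hz.del_mul_ι,
        show del z * -(del z * ι (QuadGrp.baseChangeForm S Q) ((1 : S) ⊗ₜ[R] v)) * ι (QuadGrp.baseChangeForm S Q) ((1 : S) ⊗ₜ[R] v) =
          -((del z * del z) * (ι (QuadGrp.baseChangeForm S Q) ((1 : S) ⊗ₜ[R] v) * ι (QuadGrp.baseChangeForm S Q) ((1 : S) ⊗ₜ[R] v)))
          by noncomm_ring, hdd, ι_sq_scalar, form_one_tmul, ← map_mul (algebraMap S _), ← map_neg, Algebra.smul_def,
        ← map_mul (algebraMap S _)]
      congr 1; ring
    obtain ⟨f₁, hf₁, hne⟩ := nonzero_nearby P ((((hsu.mul hsu).mul hu).mul hv).neg) hw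
    obtain ⟨t, ht, ht0⟩ := exists_smul_eq_zero (A := S) P.primeCompl (x := cl hg x - x) (by
      rw [map_sub, ← map_toC S hg, hx]
      show cl _ _ - _ = _
      rw [map_smul, hz1, sub_self])
    refine ⟨f₁ * t, fun hm' => (Ideal.IsPrime.mem_or_mem ‹_› hm').elim hf₁ ht, fun q _ hq z' hz' => ?_⟩
    haveI := nontrivial_of_prime q
    have hxq : cl (baseChange_mem_O (Localization.AtPrime q) hg) (toC _ Q x) = toC (Localization.AtPrime q) Q x := by
      have h1 := congrArg (toC (Localization.AtPrime q) Q) ht0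
      rw [toC_smul, map_zero, map_sub] at h1
      have hu' : IsUnit (algebraMap R (Localization.AtPrime q) t) :=
        (IsLocalization.AtPrime.isUnit_to_map_iff _ q t).2 (fun h => hq (Ideal.mul_mem_left _ _ h))
      rw [hu'.smul_eq_zero, sub_eq_zero] at h1
      rw [cl, map_toC]; exact h1
    rcases zed_det_dichotomy (finrank_RP q hM) (isRegular_baseChange _ hQ) hz' (baseChange_mem_O _ hg) with ⟨h', -⟩ | ⟨h', -⟩
    · exact h'
    · exfalso
      obtain ⟨a, c', hac⟩ := near q z' hz'
      rw [hac, map_add, AlgHom.commutes, map_smul, h', add_right_inj, smul_sub, sub_eq_iff_eq_add, ← two_smul (Localization.AtPrime q) (c' • z')] at hxq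
      refine hne q (fun h => hq (Ideal.mul_mem_right _ _ h)) ?_
      rw [map_sub, map_mul, map_mul (toC _ Q) x, hac, toC_ι, mul_add, add_mul, Algebra.commutes, mul_smul_comm,
        smul_mul_assoc, hz'.anti, add_sub_add_left_eq_sub]
      have h0 : c' • (1 : CliffordAlgebra _) = (2 : Localization.AtPrime q) • (c' • z') := hxq
      calc c' • ((1 - z') * ι _ ((1 : Localization.AtPrime q) ⊗ₜ[R] v)) - c' • (z' * ι _ ((1 : Localization.AtPrime q) ⊗ₜ[R] v))
          = (c' • (1 : CliffordAlgebra _) - (2 : Localization.AtPrime q) • (c' • z')) * ι _ ((1 : Localization.AtPrime q) ⊗ₜ[R] v) := by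
            simp only [sub_mul, one_mul, smul_mul_assoc, smul_sub, two_smul, add_mul]; abel
        _ = 0 := by rw [h0, sub_self, zero_mul]
  · right
    refine ⟨⟨hd1, fun z' hz' => (huniq z' hz').2 hz1⟩, ?_⟩
    have hw : toC S Q (cl hg x - x) * toC S Q (cl hg x - x) =
        algebraMap S _ (algebraMap R S s * algebraMap R S s * (4 * c + 1)) := by
      have h1 : toC S Q (cl hg x - x) = algebraMap R S s • (-del z) := by
        rw [map_sub, ← map_toC S hg, hx]
        show cl _ _ - _ = _
        rw [map_smul, hz1, ← smul_sub]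
        congr 1
        simp only [del, two_mul]
        abel
      rw [h1, smul_mul_smul_comm, neg_mul_neg, hdd, Algebra.smul_def, ← map_mul]
    obtain ⟨f₁, hf₁, hne⟩ := nonzero_nearby P ((hsu.mul hsu).mul hu) hw
    refine ⟨f₁, hf₁, fun q _ hq z' hz' => ?_⟩
    haveI := nontrivial_of_prime q
    rcases zed_det_dichotomy (finrank_RP q hM) (isRegular_baseChange _ hQ) hz' (baseChange_mem_O _ hg) with ⟨h', -⟩ | ⟨h', -⟩
    · exfalso
      obtain ⟨a, c', hac⟩ := near q z' hz'
      refine hne q hq ?_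
      rw [map_sub, ← map_toC _ hg, hac]
      show cl _ _ - _ = _
      rw [map_add, AlgHom.commutes, map_smul, h', sub_self]
    · exact h'

theorem det_eq_neg_one_of_not_dickson [ConnectedSpace (PrimeSpectrum R)] {m : ℕ} (hm : 1 ≤ m)
    (hM : Module.finrank R M = 2 * m) (hQ : QuadGrp.IsRegular Q) {g : M ≃ₗ[R] M} (hg : g ∈ QuadGrp.O Q)
    (hD : ¬ QuadGrp.IsDicksonTrivial Q g hg) : LinearMap.det g.toLinearMap = -1 := by
  let Fix (p : PrimeSpectrum R) : Prop :=
    ∀ z, IsZed _ z → cl (baseChange_mem_O (Localization.AtPrime p.asIdeal) hg) z = z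
  let Mov (p : PrimeSpectrum R) : Prop :=
    ∀ z, IsZed _ z → cl (baseChange_mem_O (Localization.AtPrime p.asIdeal) hg) z = 1 - z
  have hnot : ∀ p, Fix p → ¬ Mov p := fun p h1 h2 => by
    haveI := nontrivial_of_prime p.asIdeal
    obtain ⟨z, hz, -⟩ := exists_zed_of_regular (finrank_RP p.asIdeal hM) (isRegular_baseChange _ hQ)
    exact hz.ne_one_sub ((h1 z hz).symm.trans (h2 z hz))
  have hor : ∀ p, Fix p ∨ Mov p := fun p => (status_open hm hM hQ hg p.asIdeal).imp (fun h => h.1.2) (fun h => h.1.2)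
  have hopenF : IsOpen {p | Fix p} := by
    refine isOpen_iff_forall_mem_open.2 fun p hp => ?_
    rcases status_open hm hM hQ hg p.asIdeal with ⟨-, f, hf, hall⟩ | ⟨⟨-, h⟩, -⟩
    · exact ⟨PrimeSpectrum.basicOpen f, fun q hq => hall q.asIdeal hq, (PrimeSpectrum.basicOpen f).isOpen, hf⟩
    · exact absurd h (hnot p hp)
  have hopenM : IsOpen {p | Mov p} := by
    refine isOpen_iff_forall_mem_open.2 fun p hp => ?_
    rcases status_open hm hM hQ hg p.asIdeal with ⟨⟨-, h⟩, -⟩ | ⟨-, f, hf, hall⟩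
    · exact absurd hp (hnot p h)
    · exact ⟨PrimeSpectrum.basicOpen f, fun q hq => hall q.asIdeal hq, (PrimeSpectrum.basicOpen f).isOpen, hf⟩
  have hclosed : IsClosed {p | Fix p} := by
    rw [← isOpen_compl_iff]
    convert hopenM using 1
    ext p
    exact ⟨fun h => (hor p).resolve_left h, fun h h' => hnot p h' h⟩
  rcases isClopen_iff.1 (⟨hclosed, hopenF⟩ : IsClopen {p | Fix p}) with he | hu
  · refine eq_of_forall_algebraMap fun P _ => ?_
    rw [map_neg, map_one, ← det_baseChange_equiv]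
    rcases status_open hm hM hQ hg P with ⟨⟨-, h⟩, -⟩ | ⟨⟨h, -⟩, -⟩
    · exact absurd (show (⟨P, inferInstance⟩ : PrimeSpectrum R) ∈ {p | Fix p} from h) (by rw [he]; exact id)
    · exact h
  · exact absurd (dickson_of_forall_fix hm hM hQ hg fun P _ z hz =>
      (Set.eq_univ_iff_forall.1 hu ⟨P, inferInstance⟩) z hz) hD

end Connected

theorem index_SOeven [IsLocalRing R] {m : ℕ} (hm : 1 ≤ m) (hM : Module.finrank R M = 2 * m)
    (hQ : QuadGrp.IsRegular Q) : ((QuadGrp.SOeven Q).subgroupOf (QuadGrp.O Q)).index = 2 := by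
  obtain ⟨F, hF⟩ := exists_evenFrame m Q hM hQ
  obtain ⟨z, hz, -⟩ := F.exists_zed hF
  let v₀ := F.e ⟨0, hm⟩
  have hv₀ : IsUnit (Q v₀) := F.unit_e _
  have hmem : ∀ g : QuadGrp.O Q, g ∈ (QuadGrp.SOeven Q).subgroupOf (QuadGrp.O Q) ↔ cl g.2 z = z := fun g => by
    rw [Subgroup.mem_subgroupOf]
    exact ⟨fun ⟨h, hD⟩ => (isDicksonTrivial_iff_of_zed hz hQ hv₀ h).1 hD,
      fun h => ⟨g.2, (isDicksonTrivial_iff_of_zed hz hQ hv₀ g.2).2 h⟩⟩
  rw [Subgroup.index_eq_two_iff]
  refine ⟨⟨refl Q v₀ hv₀, refl_mem_O Q v₀ hv₀⟩, fun b => ?_⟩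
  have hba : cl (b * (⟨refl Q v₀ hv₀, refl_mem_O Q v₀ hv₀⟩ : QuadGrp.O Q)).2 z = 1 - cl b.2 z := by
    refine (map_mul_isometry b.2 (refl_mem_O Q v₀ hv₀) _ z).trans ?_
    rw [hz.map_refl, map_sub, map_one]
  rw [xor_iff_iff_not, hmem, hmem, hba]
  rcases zed_det_dichotomy hM hQ hz b.2 with ⟨h, -⟩ | ⟨h, -⟩
  · rw [h]; exact iff_of_false (fun h' => hz.ne_one_sub h'.symm) (not_not_intro rfl)
  · rw [h, sub_sub_cancel]; exact iff_of_true rfl (fun h' => hz.ne_one_sub h'.symm)

section GPin

omit [Module.Finite R M] in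
/-- An element of `GPin'` acts through an isometry. -/
theorem exists_isometry_of_mem_GPin' {u : (CliffordAlgebra Q)ˣ} (hu : u ∈ QuadGrp.GPin' Q) :
    ∃ g : M ≃ₗ[R] M, g ∈ QuadGrp.O Q ∧ ∀ v, (u : CliffordAlgebra Q) * ι Q v * ↑u⁻¹ = ι Q (g v) := by
  rw [QuadGrp.mem_GPin'] at hu
  let Φ : CliffordAlgebra Q ≃ₗ[R] CliffordAlgebra Q :=
    { toFun := fun x => (u : CliffordAlgebra Q) * x * ↑u⁻¹
      map_add' := fun a b => by rw [mul_add, add_mul]
      map_smul' := fun r a => by rw [mul_smul_comm, smul_mul_assoc]; rfl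
      invFun := fun x => (↑u⁻¹ : CliffordAlgebra Q) * x * u
      left_inv := fun x => by simp [mul_assoc]
      right_inv := fun x => by simp [mul_assoc] }
  have hmap : (LinearMap.range (ι Q)).map Φ.toLinearMap = LinearMap.range (ι Q) := by
    conv_rhs => rw [← hu]
    ext x
    simp only [Submodule.mem_map, Submodule.mem_smul_pointwise_iff_exists]
    refine exists_congr fun y => and_congr_right fun _ => ?_
    rw [ConjAct.units_smul_def]
    rfl
  let e := LinearEquiv.ofInjective (ι Q) (ι_injective Q)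
  let g : M ≃ₗ[R] M := e.trans ((Φ.submoduleMap _).trans ((LinearEquiv.ofEq _ _ hmap).trans e.symm))
  have hg : ∀ v, (u : CliffordAlgebra Q) * ι Q v * ↑u⁻¹ = ι Q (g v) := fun v => by
    have : ι Q (g v) = ((e (g v) : LinearMap.range (ι Q)) : CliffordAlgebra Q) := rfl
    rw [this]
    simp only [g, LinearEquiv.trans_apply, LinearEquiv.apply_symm_apply, LinearEquiv.coe_ofEq_apply]
    rfl
  refine ⟨g, fun v => ?_, hg⟩
  apply algebraMap_injective Q
  rw [← ι_sq_scalar, ← hg,
    show (u : CliffordAlgebra Q) * ι Q v * ↑u⁻¹ * ((u : CliffordAlgebra Q) * ι Q v * ↑u⁻¹) =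
      (u : CliffordAlgebra Q) * (ι Q v * ι Q v) * ↑u⁻¹ by
      simp [mul_assoc]; rw [← mul_assoc, ι_sq_scalar],
    ι_sq_scalar, ← Algebra.commutes, mul_assoc, Units.mul_inv, mul_one]

omit [Module.Finite R M] in
theorem mem_GPin'_of_conj {u : (CliffordAlgebra Q)ˣ} (g : M ≃ₗ[R] M)
    (hg : ∀ v, (u : CliffordAlgebra Q) * ι Q v * ↑u⁻¹ = ι Q (g v)) : u ∈ QuadGrp.GPin' Q := by
  rw [QuadGrp.mem_GPin']
  ext x
  simp only [Submodule.mem_smul_pointwise_iff_exists, LinearMap.mem_range]
  constructor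
  · rintro ⟨_, ⟨v, rfl⟩, rfl⟩
    refine ⟨g v, ?_⟩
    rw [ConjAct.units_smul_def, ← hg v]
    rfl
  · rintro ⟨v, rfl⟩
    refine ⟨ι Q (g.symm v), ⟨g.symm v, rfl⟩, ?_⟩
    rw [ConjAct.units_smul_def, show (ConjAct.ofConjAct (ConjAct.toConjAct u)) = u from rfl, hg,
      LinearEquiv.apply_symm_apply]

/-- In even rank an element commuting with all vectors is a scalar. -/
theorem IsZed.scalar_of_commute {z : CliffordAlgebra Q} (hz : IsZed Q z) (hQ : QuadGrp.IsRegular Q)
    {x : CliffordAlgebra Q} (h : ∀ v, ι Q v * x = x * ι Q v) : x ∈ (algebraMap R (CliffordAlgebra Q)).range := by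
  obtain ⟨a, ha, c, hc, rfl⟩ := exists_even_odd Q x
  have hp : ∀ v, ι Q v * a = a * ι Q v ∧ ι Q v * c = c * ι Q v := fun v => by
    have h1 := SetLike.mul_mem_graded (ι_mem_evenOdd_one Q v) ha
    have h2 := SetLike.mul_mem_graded ha (ι_mem_evenOdd_one Q v)
    have h3 := SetLike.mul_mem_graded (ι_mem_evenOdd_one Q v) hc
    have h4 := SetLike.mul_mem_graded hc (ι_mem_evenOdd_one Q v)
    rw [add_zero] at h1
    rw [zero_add] at h2
    rw [show (1 : ZMod 2) + 1 = 0 from rfl] at h3 h4
    have := parts_unique Q h3 h4 h1 h2 (by rw [add_comm (ι Q v * c), ← mul_add, h v, add_mul, add_comm])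
    exact ⟨this.2, this.1⟩
  have hc0 : c = 0 := by
    -- `c` commutes with `z`, and odd elements conjugate `z` to `1 - z`
    have hodd : ∀ y ∈ evenOdd Q 1, y * z = (1 - z) * y := by
      intro y hy
      induction y, hy using CliffordAlgebra.odd_induction with
      | ι v => exact hz.anti v
      | add a b _ _ iha ihb => rw [add_mul, mul_add, iha, ihb]
      | ι_mul_ι_mul m₁ m₂ w _ ih =>
        have hvv : ι Q m₁ * ι Q m₂ * (1 - z) = (1 - z) * (ι Q m₁ * ι Q m₂) := by
          rw [mul_sub, sub_mul, mul_one, one_mul, hz.commute_even (ι_mul_ι_mem_evenOdd_zero Q m₁ m₂)]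
        rw [mul_assoc, ih, ← mul_assoc, hvv, mul_assoc]
    have hcommC : ∀ y : CliffordAlgebra Q, y * c = c * y := by
      intro y
      induction y using CliffordAlgebra.induction with
      | algebraMap r => exact Algebra.commutes r c
      | ι v => exact (hp v).2
      | mul a b ha hb => rw [mul_assoc, hb, ← mul_assoc, ha, mul_assoc]
      | add a b ha hb => rw [add_mul, mul_add, ha, hb]
    have h1 : c * z = (1 - z) * c := hodd c hc
    rw [← hcommC] at h1
    refine hz.isUnit_del.mul_right_injective ?_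
    show del z * c = del z * 0
    rw [mul_zero]
    simp only [del, sub_mul, two_mul, add_mul, one_mul]
    rw [sub_mul, one_mul] at h1
    nth_rewrite 1 [h1]
    abel
  obtain ⟨r, hr⟩ := scalar_of_supercommute hQ (x := a) fun v => by rw [involute_eq_of_mem_even ha]; exact (hp v).1
  exact ⟨r, by rw [hr, hc0, add_zero]⟩

theorem gpin'_le_LH {m : ℕ} (hM : Module.finrank R M = 2 * m) (hQ : QuadGrp.IsRegular Q)
    {u : (CliffordAlgebra Q)ˣ} (hu : u ∈ QuadGrp.GPin' Q) : QuadGrp.IsLocHomog Q (u : CliffordAlgebra Q) := by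
  obtain ⟨g, hgO, hg⟩ := exists_isometry_of_mem_GPin' hu
  obtain ⟨u0, hu0, u1, hu1, hsum⟩ := exists_even_odd Q (u : CliffordAlgebra Q)
  have huv : ∀ v, (u : CliffordAlgebra Q) * ι Q v = ι Q (g v) * u := fun v => by rw [← hg]; simp [mul_assoc]
  have hu0v : ∀ v, u0 * ι Q v = ι Q (g v) * u0 := fun v => by
    have h1 := SetLike.mul_mem_graded hu0 (ι_mem_evenOdd_one Q v)
    have h2 := SetLike.mul_mem_graded (ι_mem_evenOdd_one Q (g v)) hu0
    have h3 := SetLike.mul_mem_graded hu1 (ι_mem_evenOdd_one Q v)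
    have h4 := SetLike.mul_mem_graded (ι_mem_evenOdd_one Q (g v)) hu1
    rw [zero_add] at h1
    rw [add_zero] at h2
    rw [show (1 : ZMod 2) + 1 = 0 from rfl] at h3 h4
    have := huv v
    rw [hsum, add_mul, mul_add, add_comm, add_comm (ι Q (g v) * u0)] at this
    exact (parts_unique Q h3 h4 h1 h2 this).2
  have hy : ∀ v, ι Q v * ((↑u⁻¹ : CliffordAlgebra Q) * u0) = (↑u⁻¹ : CliffordAlgebra Q) * u0 * ι Q v := fun v => by
    rw [mul_assoc, hu0v, ← mul_assoc, ← mul_assoc, show (↑u⁻¹ : CliffordAlgebra Q) * ι Q (g v) = ι Q v * ↑u⁻¹ by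
      rw [← hg]; simp [← mul_assoc]]
  obtain ⟨e, he⟩ : (↑u⁻¹ : CliffordAlgebra Q) * u0 ∈ (algebraMap R (CliffordAlgebra Q)).range := by
    refine mem_range_of_forall_localization fun P _ => ?_
    haveI := nontrivial_of_prime P
    obtain ⟨z, hz, -⟩ := exists_zed_of_regular (finrank_RP P hM) (isRegular_baseChange (Localization.AtPrime P) hQ)
    refine hz.scalar_of_commute (isRegular_baseChange _ hQ) fun v => ?_
    induction v using TensorProduct.induction_on with
    | zero => simp
    | tmul a n =>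
      rw [show a ⊗ₜ[R] n = a • ((1 : Localization.AtPrime P) ⊗ₜ[R] n) by rw [smul_tmul', smul_eq_mul, mul_one],
        map_smul, smul_mul_assoc, mul_smul_comm, ← toC_ι, ← map_mul, ← map_mul (toC _ Q), hy]
    | add a b ha hb => rw [map_add, add_mul, mul_add, ha, hb]
  have h0 : u0 = e • (u : CliffordAlgebra Q) := by
    rw [Algebra.smul_def, Algebra.commutes, he]; simp
  have h1 : u1 = (1 - e) • (u : CliffordAlgebra Q) := by
    rw [sub_smul, one_smul, ← h0, hsum]; abel
  refine ⟨e, ?_, h0 ▸ hu0, h1 ▸ hu1⟩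
  -- uniqueness of parts gives `e u₁ = 0`
  have h01 : e • u1 = 0 := by
    have hx : e • u0 + e • u1 = u0 + 0 := by rw [← smul_add, ← hsum, ← h0, add_zero]
    exact (parts_unique Q (Submodule.smul_mem _ _ hu0) hu0 (Submodule.smul_mem _ _ hu1) (Submodule.zero_mem _) hx).2
  rw [h1, smul_smul, Algebra.smul_def] at h01
  have h2 := algebraMap_injective Q ((u.isUnit.mul_left_eq_zero.1 h01).trans (map_zero _).symm)
  show e * e = e
  linear_combination -h2

end GPin

section Inner

variable {v₀ : M}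

/-- The Clifford element of a product of reflections. -/
noncomputable def reflElt (l : List {v : M // IsUnit (Q v)}) : CliffordAlgebra Q := (l.map fun v => ι Q v.1).prod

omit [Module.Free R M] [Module.Finite R M] in
theorem isUnit_reflElt (l : List {v : M // IsUnit (Q v)}) : IsUnit (reflElt l) := by
  induction l with
  | nil => exact isUnit_one
  | cons v l ih => exact (isUnit_ι Q v.1 v.2).mul ih

omit [Module.Free R M] [Module.Finite R M] in
theorem reflProd_mul_elt (l : List {v : M // IsUnit (Q v)}) (x : M) :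
    ι Q (reflProd l x) * reflElt l = ((-1 : R) ^ l.length) • (reflElt l * ι Q x) := by
  induction l generalizing x with
  | nil => simp [reflElt]
  | cons v l ih =>
    show ι Q (refl Q v.1 v.2 (reflProd l x)) * (ι Q v.1 * reflElt l) = _
    rw [← mul_assoc, ι_refl_mul_ι, neg_mul, mul_assoc, ih, mul_smul_comm, ← mul_assoc, List.length_cons, pow_succ',
      neg_one_mul, neg_smul]
    rfl

omit [Module.Free R M] [Module.Finite R M] in
theorem reflElt_mem (l : List {v : M // IsUnit (Q v)}) : reflElt l ∈ evenOdd Q (l.length : ZMod 2) := by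
  induction l with
  | nil => simp only [List.length_nil, Nat.cast_zero]; exact SetLike.one_mem_graded (evenOdd Q)
  | cons v l ih =>
    show ι Q v.1 * reflElt l ∈ _
    rw [List.length_cons, Nat.cast_succ, add_comm]
    exact SetLike.mul_mem_graded (ι_mem_evenOdd_one Q v.1) ih

/-- Over local rings with five units isometries are inner. -/
theorem exists_inner_five [IsLocalRing R] (h5 : FiveUnits R) {m : ℕ} (F : PFrame Q m) (hF : F.IsEven)
    {z : CliffordAlgebra Q} (hz : IsZed Q z) {g : M ≃ₗ[R] M} (hg : g ∈ QuadGrp.O Q) :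
    ∃ u, IsUnit u ∧ (∀ v, u * ι Q v = ι Q (g v) * u) ∧ (cl hg z = z → u ∈ evenOdd Q 0) := by
  obtain ⟨l, rfl⟩ := F.exists_eq_reflProd h5 hF hg
  have hmap := hz.map_reflProd l hg
  by_cases he : Even l.length
  · refine ⟨reflElt l, isUnit_reflElt l, fun v => ?_, fun _ => ?_⟩
    · rw [reflProd_mul_elt, he.neg_one_pow, one_smul]
    · have := reflElt_mem l
      rwa [show ((l.length : ℕ) : ZMod 2) = 0 from (ZMod.natCast_eq_zero_iff_even).2 he] at this
  · refine ⟨reflElt l * del z, (isUnit_reflElt l).mul hz.isUnit_del, fun v => ?_, fun h => ?_⟩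
    · rw [← mul_assoc (ι Q _), reflProd_mul_elt, (Nat.not_even_iff_odd.1 he).neg_one_pow, neg_smul, one_smul, neg_mul,
        mul_assoc (reflElt l) (ι Q v), hz.del_mul_ι v, mul_neg, neg_neg, mul_assoc]
    · rw [if_neg he] at hmap
      exact absurd (h.symm.trans hmap) hz.ne_one_sub

set_option maxHeartbeats 1600000 in
theorem exists_inner [IsLocalRing R] {m : ℕ} (hM : Module.finrank R M = 2 * m) (hQ : QuadGrp.IsRegular Q)
    {g : M ≃ₗ[R] M} (hg : g ∈ QuadGrp.O Q) :
    ∃ u ∈ QuadGrp.GPin' Q, (∀ v, (u : CliffordAlgebra Q) * ι Q v * ↑u⁻¹ = ι Q (g v)) ∧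
      (QuadGrp.IsDicksonTrivial Q g hg → (u : CliffordAlgebra Q) ∈ evenOdd Q 0) := by
  classical
  haveI := (free_clifford Q).1
  haveI := (free_clifford Q).2
  let S := Rt R
  obtain ⟨F, hF⟩ := exists_evenFrame m Q hM hQ
  obtain ⟨z, hz, -⟩ := F.exists_zed hF
  obtain ⟨U, hU, hUv, hUe⟩ := exists_inner_five (fiveUnits_Rt R) (F.baseChange S) (hF.baseChange S)
    (isZed_toC (A := S) hz) (baseChange_mem_O S hg)
  let b := Module.Free.chooseBasis R M
  let Φ : CliffordAlgebra Q →ₗ[R] (Module.Free.ChooseBasisIndex R M → CliffordAlgebra Q) :=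
    LinearMap.pi fun i => LinearMap.mulRight R (ι Q (b i)) - LinearMap.mulLeft R (ι Q (g (b i)))
  obtain ⟨ξ, hξ⟩ := (baseChangeEquiv S Q).surjective U
  have hker : LinearMap.lTensor S Φ ξ = 0 := by
    refine (TensorProduct.piRight R R S (fun _ : Module.Free.ChooseBasisIndex R M => CliffordAlgebra Q)).injective ?_
    rw [map_zero]
    funext i
    refine (baseChangeEquiv S Q).injective ?_
    rw [Pi.zero_apply, map_zero]
    have hcomp : ∀ η : S ⊗[R] CliffordAlgebra Q,
        baseChangeEquiv S Q (TensorProduct.piRight R R S _ (LinearMap.lTensor S Φ η) i) =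
          baseChangeEquiv S Q η * ι (QuadGrp.baseChangeForm S Q) ((1 : S) ⊗ₜ[R] b i) -
            ι _ (g.baseChange R S M M ((1 : S) ⊗ₜ[R] b i)) * baseChangeEquiv S Q η := by
      intro η
      induction η using TensorProduct.induction_on with
      | zero => simp
      | tmul s x =>
        rw [LinearMap.lTensor_tmul, TensorProduct.piRight_apply, TensorProduct.piRightHom_tmul,
          LinearEquiv.baseChange_tmul, baseChangeEquiv_tmul, baseChangeEquiv_tmul]
        simp [Φ, toC_ι, smul_sub]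
      | add a c ha hc => simp only [map_add, Pi.add_apply, ha, hc, add_mul, mul_add]; abel
    rw [hcomp, hξ, hUv, sub_self]
  obtain ⟨η, hη⟩ := ((Module.Flat.lTensor_exact S (LinearMap.exact_subtype_ker_map Φ)) ξ).1 hker
  have hspan : U ∈ Submodule.span S ((fun x => toC S Q x) '' (LinearMap.ker Φ : Set (CliffordAlgebra Q))) := by
    rw [← hξ, ← hη]
    clear hη
    induction η using TensorProduct.induction_on with
    | zero => simp
    | tmul s x =>
      rw [LinearMap.lTensor_tmul, baseChangeEquiv_tmul]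
      exact Submodule.smul_mem _ _ (Submodule.subset_span ⟨_, x.2, rfl⟩)
    | add a c ha hc => rw [map_add, map_add]; exact Submodule.add_mem _ ha hc
  have hprop : ∀ x ∈ LinearMap.ker Φ, ∀ v, x * ι Q v = ι Q (g v) * x := by
    intro x hx
    have : (LinearMap.mulLeft R x).comp (ι Q) = (LinearMap.mulRight R x).comp ((ι Q).comp g.toLinearMap) :=
      b.ext fun i => sub_eq_zero.1 (congrFun hx i)
    exact fun v => LinearMap.congr_fun this v
  -- each element of the kernel is a scalar multiple of `U`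
  have hmult : ∀ x ∈ LinearMap.ker Φ, ∃ c : S, toC S Q x = c • U := by
    intro x hx
    obtain ⟨Uu, hUu⟩ := hU
    obtain ⟨c, hc⟩ := (isZed_toC (A := S) hz).scalar_of_commute (isRegular_baseChange S hQ)
      (x := (↑Uu⁻¹ : CliffordAlgebra (QuadGrp.baseChangeForm S Q)) * toC S Q x) fun v => by
        induction v using TensorProduct.induction_on with
        | zero => simp
        | tmul s n =>
          rw [show s ⊗ₜ[R] n = s • ((1 : S) ⊗ₜ[R] n) by rw [smul_tmul', smul_eq_mul, mul_one], map_smul,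
            smul_mul_assoc, mul_smul_comm]
          congr 1
          have h2 : toC S Q x * ι (QuadGrp.baseChangeForm S Q) ((1 : S) ⊗ₜ[R] n) = ι (QuadGrp.baseChangeForm S Q) ((1 : S) ⊗ₜ[R] g n) * toC S Q x := by
            rw [← toC_ι, ← toC_ι, ← map_mul, ← map_mul, hprop x hx]
          have h3 := hUv ((1 : S) ⊗ₜ[R] n)
          rw [LinearEquiv.baseChange_tmul, ← hUu] at h3
          have h4 : (↑Uu⁻¹ : CliffordAlgebra (QuadGrp.baseChangeForm S Q)) * ι (QuadGrp.baseChangeForm S Q) ((1 : S) ⊗ₜ[R] g n) =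
              ι (QuadGrp.baseChangeForm S Q) ((1 : S) ⊗ₜ[R] n) *
                (↑Uu⁻¹ : CliffordAlgebra (QuadGrp.baseChangeForm S Q)) := by
            rw [Units.inv_mul_eq_iff_eq_mul, ← mul_assoc, h3, mul_assoc, Units.mul_inv, mul_one]
          rw [mul_assoc _ (toC S Q x), h2]
          simp only [← mul_assoc]
          rw [h4]
        | add a c ha hc => rw [map_add, add_mul, mul_add, ha, hc]
    refine ⟨c, ?_⟩
    rw [Algebra.smul_def, Algebra.commutes, ← hUu, hc, Units.mul_inv_cancel_left]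
  haveI :=
    (algebraMap_injective (R := S) (M := S ⊗[R] M) (QuadGrp.baseChangeForm S Q)).nontrivial
  obtain ⟨x, hx, c, hc, hcu⟩ : ∃ x ∈ LinearMap.ker Φ, ∃ c : S, toC S Q x = c • U ∧ IsUnit c := by
    by_contra hcon
    push Not at hcon
    have hle : Submodule.span S ((fun x => toC S Q x) '' (LinearMap.ker Φ : Set (CliffordAlgebra Q))) ≤
        (IsLocalRing.maximalIdeal S) • Submodule.span S {U} := by
      rw [Submodule.span_le]
      rintro _ ⟨x, hx, rfl⟩
      obtain ⟨c, hc⟩ := hmult x hx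
      show toC S Q x ∈ _
      rw [hc]
      exact Submodule.smul_mem_smul (hcon x hx c hc) (Submodule.mem_span_singleton_self U)
    obtain ⟨r, hr, hrU⟩ := Submodule.mem_smul_span_singleton.1 (hle hspan)
    have h0 : (1 - r) • U = 0 := by rw [sub_smul, one_smul, hrU, sub_self]
    have : IsUnit (1 - r) := by
      rcases IsLocalRing.isUnit_or_isUnit_of_add_one (show r + (1 - r) = (1 : S) by ring) with h | h
      · exact absurd h hr
      · exact h
    exact hU.ne_zero (this.smul_eq_zero.1 h0)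
  have hxS : IsUnit (toC S Q x) := by
    rw [hc, Algebra.smul_def]; exact (hcu.map _).mul hU
  have hxu : IsUnit x := by
    have hsurj : Function.Surjective (LinearMap.mulLeft R x) := by
      have hbij : IsUnit (LinearMap.mulLeft S (toC S Q x)) :=
        (Module.End.isUnit_iff _).2 ⟨hxS.mul_right_injective, fun y => ⟨↑hxS.unit⁻¹ * y, by
          rw [LinearMap.mulLeft_apply, ← mul_assoc, hxS.mul_val_inv, one_mul]⟩⟩
      have hconj : LinearMap.mulLeft S (toC S Q x) =
          (baseChangeEquiv S Q).toLinearEquiv.conj ((LinearMap.mulLeft R x).baseChange S) := by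
        refine LinearMap.ext fun y => ?_
        obtain ⟨η, rfl⟩ := (baseChangeEquiv S Q).surjective y
        rw [LinearEquiv.conj_apply_apply]
        rw [show (baseChangeEquiv S Q).toLinearEquiv.symm (baseChangeEquiv S Q η) = η from
          (baseChangeEquiv S Q).symm_apply_apply η]
        show _ = baseChangeEquiv S Q _
        clear hη hker hspan
        induction η using TensorProduct.induction_on with
        | zero => simp
        | tmul s w =>
          rw [LinearMap.baseChange_tmul, LinearMap.mulLeft_apply, LinearMap.mulLeft_apply, baseChangeEquiv_tmul,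
            baseChangeEquiv_tmul, mul_smul_comm, map_mul]
        | add a d ha hd => rw [map_add, map_add, map_add, map_add, ha, hd]
      have hdet := (LinearMap.mulLeft S (toC S Q x)).isUnit_det hbij
      rw [hconj, LinearEquiv.conj_apply, LinearMap.comp_assoc, LinearMap.det_conj, LinearMap.det_baseChange] at hdet
      have := isUnit_of_map_Rt R hdet
      exact ((Module.End.isUnit_iff _).1 (((LinearMap.mulLeft R x).isUnit_iff_isUnit_det).2 this)).2
    obtain ⟨y, hy⟩ := hsurj 1
    rw [LinearMap.mulLeft_apply] at hy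
    refine ⟨⟨x, y, hy, ?_⟩, rfl⟩
    exact OrzechProperty.injective_of_surjective_endomorphism _ hsurj (by
      show x * (y * x) = x * 1
      rw [← mul_assoc, hy, one_mul, mul_one])
  obtain ⟨u, hu⟩ := hxu
  refine ⟨u, ?_, ?_, fun hD => ?_⟩
  · refine mem_GPin'_of_conj g fun v => ?_
    rw [hu, hprop x hx v, mul_assoc, ← hu, Units.mul_inv, mul_one]
  · intro v
    rw [hu, hprop x hx v, mul_assoc, ← hu, Units.mul_inv, mul_one]
  · rw [hu]
    refine mem_evenOdd_of_toC S Q (injective_Rt R) ?_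
    rw [hc]
    refine Submodule.smul_mem _ _ (hUe ?_)
    have hfix : CliffordAlgebra.map (QuadGrp.isometryOfMem Q g hg) z = z :=
      hD ⟨z, hz.even⟩ (Subalgebra.mem_center_iff.2 fun y => Subtype.ext (hz.commute_even y.2))
    exact (map_toC S hg z).trans (congrArg (toC S Q) hfix)

end Inner

end Groth.L15.QG
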