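import Groth.Agent.L15.QG.Even

/-! Orthogonal and Clifford groups in odd rank. -/

set_option autoImplicit false

namespace Groth.L15.QG

open TensorProduct CliffordAlgebra

universe u v

variable {R : Type u} [CommRing R] {M : Type v} [AddCommGroup M] [Module R M]
variable {Q : QuadraticForm R M} {m : ℕ}

theorem star_toC (A : Type*) [CommRing A] [Algebra R A] [Module.Free R M] (x : CliffordAlgebra Q) :
    star (toC A Q x) = toC A Q (star x) := by
  induction x using CliffordAlgebra.induction with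
  | algebraMap r =>
    rw [CliffordAlgebra.star_algebraMap, AlgHom.commutes,
      IsScalarTower.algebraMap_apply R A (CliffordAlgebra (QuadGrp.baseChangeForm A Q)) r, CliffordAlgebra.star_algebraMap]
  | ι v => rw [toC_ι, CliffordAlgebra.star_ι, CliffordAlgebra.star_ι, map_neg, toC_ι]
  | mul a b ha hb => rw [map_mul, star_mul, star_mul, map_mul, ha, hb]
  | add a b ha hb => rw [map_add, star_add, star_add, map_add, ha, hb]

theorem star_mem_even {x : CliffordAlgebra Q} (hx : x ∈ evenOdd Q 0) : star x ∈ evenOdd Q 0 := by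
  induction x, hx using CliffordAlgebra.even_induction with
  | algebraMap r => rw [CliffordAlgebra.star_algebraMap]; exact SetLike.algebraMap_mem_graded _ r
  | add a b _ _ ha hb => rw [star_add]; exact Submodule.add_mem _ ha hb
  | ι_mul_ι_mul m₁ m₂ w _ ih =>
    rw [star_mul, star_mul, CliffordAlgebra.star_ι, CliffordAlgebra.star_ι, neg_mul_neg]
    exact add_zero (0 : ZMod 2) ▸ SetLike.mul_mem_graded ih (ι_mul_ι_mem_evenOdd_zero Q m₂ m₁)

theorem parts_commute {x0 x1 : CliffordAlgebra Q} (h0 : x0 ∈ evenOdd Q 0) (h1 : x1 ∈ evenOdd Q 1) (v w : M)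
    (h : ι Q w * (x0 + x1) = (x0 + x1) * ι Q v) :
    ι Q w * x0 = x0 * ι Q v ∧ ι Q w * x1 = x1 * ι Q v := by
  have a1 := SetLike.mul_mem_graded (ι_mem_evenOdd_one Q w) h0
  have a2 := SetLike.mul_mem_graded h0 (ι_mem_evenOdd_one Q v)
  have a3 := SetLike.mul_mem_graded (ι_mem_evenOdd_one Q w) h1
  have a4 := SetLike.mul_mem_graded h1 (ι_mem_evenOdd_one Q v)
  rw [add_zero] at a1
  rw [zero_add] at a2
  rw [show (1 : ZMod 2) + 1 = 0 from rfl] at a3 a4
  have := parts_unique Q a3 a4 a1 a2 (by rw [add_comm (ι Q w * x1), ← mul_add, h, add_mul, add_comm])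
  exact ⟨this.2, this.1⟩

variable [Module.Free R M] [Module.Finite R M]

section Core

variable {F : PFrame Q m} {r : M}

/-- An element supercommuting with the planes lies in `R + R r`. -/
theorem PFrame.IsOdd.exists_of_supercommute (hF : F.IsOdd r) (b : Module.Basis (Fin (2 * m + 1)) R M)
    {x : CliffordAlgebra Q} (h : ∀ v ∈ F.vecs, ι Q v * x = involute x * ι Q v) :
    ∃ a c : R, x = algebraMap R _ a + c • ι Q r := by
  let bF := hF.basis b
  have hzero : ∀ w ∈ Submodule.span R F.vecs, contractLeft (Q := Q) (QuadraticMap.polarBilin Q w) x = 0 := by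
    intro w hw
    induction hw using Submodule.span_induction with
    | mem v hv => rw [← ι_mul_sub_involute_mul, h v hv, sub_self]
    | zero => simp
    | add a c _ _ ha hc => rw [map_add, map_add, LinearMap.add_apply, ha, hc, add_zero]
    | smul t a _ ha => rw [map_smul, map_smul, LinearMap.smul_apply, ha, smul_zero]
  have key := mem_span_one_ι_of_contract Q bF 0 x fun i hi => ?_
  · obtain ⟨a, c, hac⟩ := key
    refine ⟨a, c, ?_⟩
    have e0 : bF 0 = r := by rw [hF.basis_apply]; rfl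
    rwa [e0] at hac
  obtain ⟨i, rfl⟩ : ∃ j : Fin (2 * m), i = j.succ := ⟨i.pred hi, (Fin.succ_pred i hi).symm⟩
  -- the coordinate functional of a plane vector is `B(w, ·)` with `w` in the planes
  suffices hw : ∃ w ∈ Submodule.span R F.vecs, bF.coord i.succ = QuadraticMap.polarBilin Q w by
    obtain ⟨w, hw1, hw2⟩ := hw
    rw [hw2]; exact hzero w hw1
  have hval : ∀ k, bF k = F.oddVec r k := hF.basis_apply b
  have hcoord : ∀ k : Fin m ⊕ Fin m, ∀ d : Module.Dual R M,
      d r = 0 → (∀ k' : Fin m ⊕ Fin m, d (Sum.elim F.e F.f k') = if k' = k then 1 else 0) →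
      bF.coord (Fin.cast (two_mul m).symm (finSumFinEquiv k)).succ = d := by
    intro k d hdr hd
    refine bF.ext fun l => ?_
    rw [Module.Basis.coord_apply, bF.repr_self, hval l]
    cases l using Fin.cases with
    | zero =>
      rw [Finsupp.single_eq_of_ne (Fin.succ_ne_zero _)]
      simp only [PFrame.oddVec, Fin.cons_zero, hdr]
    | succ l =>
      simp only [PFrame.oddVec, Fin.cons_succ]
      rw [hd, Finsupp.single_apply]
      by_cases hl : finSumFinEquiv.symm (Fin.cast (two_mul m) l) = k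
      · subst hl
        simp [Fin.cast_cast]
      · rw [if_neg hl, if_neg]
        intro hne
        refine hl ?_
        rw [Fin.succ_inj] at hne
        rw [hne]; simp [Fin.cast_cast]
  obtain ⟨k, hk⟩ : ∃ k, i = Fin.cast (two_mul m).symm (finSumFinEquiv k) :=
    ⟨finSumFinEquiv.symm (Fin.cast (two_mul m) i), by simp⟩
  rw [hk]
  have horth : ∀ (j j' : Fin m), j ≠ j' →
      (F.e j' ∈ perp Q (F.e j) (F.f j)) ∧ (F.f j' ∈ perp Q (F.e j) (F.f j)) := fun j j' hne =>
    ⟨⟨F.orth_ee j j' hne, by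
      show QuadraticMap.polar Q (F.f j) (F.e j') = 0
      rw [QuadraticMap.polar_comm]; exact F.orth_ef j' j hne.symm⟩, ⟨F.orth_ef j j' hne, F.orth_ff j j' hne⟩⟩
  rcases k with j | j
  · let u := (↑(F.unit_disc j).unit⁻¹ : R)
    refine ⟨u • ((2 * Q (F.f j)) • F.e j - QuadraticMap.polar Q (F.e j) (F.f j) • F.f j), ?_, ?_⟩
    · exact Submodule.smul_mem _ _ (Submodule.sub_mem _
        (Submodule.smul_mem _ _ (Submodule.subset_span (Or.inl ⟨j, rfl⟩)))
        (Submodule.smul_mem _ _ (Submodule.subset_span (Or.inr ⟨j, rfl⟩))))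
    · have hco : co1 Q (F.e j) (F.f j) (F.unit_disc j) = QuadraticMap.polarBilin Q
          (u • ((2 * Q (F.f j)) • F.e j - QuadraticMap.polar Q (F.e j) (F.f j) • F.f j)) := by
        rw [map_smul, map_sub, map_smul, map_smul]; rfl
      rw [← hco]
      refine hcoord _ _ (co_perp Q _ _ _ ((mem_perp Q _ _).2 ⟨hF.orth_e j, hF.orth_f j⟩)).1 fun k' => ?_
      obtain ⟨a, -⟩ := co_plane Q (F.e j) (F.f j) (F.unit_disc j) 1 0
      obtain ⟨c, -⟩ := co_plane Q (F.e j) (F.f j) (F.unit_disc j) 0 1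
      rw [one_smul, zero_smul, add_zero] at a
      rw [one_smul, zero_smul, zero_add] at c
      rcases k' with j' | j'
      · rcases eq_or_ne j j' with rfl | hne
        · simpa using a
        · simpa [Ne.symm hne] using (co_perp Q _ _ _ (horth j j' hne).1).1
      · rcases eq_or_ne j j' with rfl | hne
        · simpa using c
        · simpa using (co_perp Q _ _ _ (horth j j' hne).2).1
  · let u := (↑(F.unit_disc j).unit⁻¹ : R)
    refine ⟨u • ((2 * Q (F.e j)) • F.f j - QuadraticMap.polar Q (F.e j) (F.f j) • F.e j), ?_, ?_⟩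
    · exact Submodule.smul_mem _ _ (Submodule.sub_mem _
        (Submodule.smul_mem _ _ (Submodule.subset_span (Or.inr ⟨j, rfl⟩)))
        (Submodule.smul_mem _ _ (Submodule.subset_span (Or.inl ⟨j, rfl⟩))))
    · have hco : co2 Q (F.e j) (F.f j) (F.unit_disc j) = QuadraticMap.polarBilin Q
          (u • ((2 * Q (F.e j)) • F.f j - QuadraticMap.polar Q (F.e j) (F.f j) • F.e j)) := by
        rw [map_smul, map_sub, map_smul, map_smul]; rfl
      rw [← hco]
      refine hcoord _ _ (co_perp Q _ _ _ ((mem_perp Q _ _).2 ⟨hF.orth_e j, hF.orth_f j⟩)).2 fun k' => ?_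
      obtain ⟨-, a⟩ := co_plane Q (F.e j) (F.f j) (F.unit_disc j) 1 0
      obtain ⟨-, c⟩ := co_plane Q (F.e j) (F.f j) (F.unit_disc j) 0 1
      rw [one_smul, zero_smul, add_zero] at a
      rw [one_smul, zero_smul, zero_add] at c
      rcases k' with j' | j'
      · rcases eq_or_ne j j' with rfl | hne
        · simpa using a
        · simpa using (co_perp Q _ _ _ (horth j j' hne).1).2
      · rcases eq_or_ne j j' with rfl | hne
        · simpa using c
        · simpa [Ne.symm hne] using (co_perp Q _ _ _ (horth j j' hne).2).2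

/-- An even element commuting with all vectors is a scalar. -/
theorem PFrame.IsOdd.scalar_of_even_commute (hF : F.IsOdd r) (b : Module.Basis (Fin (2 * m + 1)) R M)
    {x : CliffordAlgebra Q} (hx : x ∈ evenOdd Q 0) (h : ∀ v, ι Q v * x = x * ι Q v) :
    x ∈ (algebraMap R (CliffordAlgebra Q)).range := by
  obtain ⟨a, c, hac⟩ := hF.exists_of_supercommute b fun v _ => by rw [involute_eq_of_mem_even hx]; exact h v
  have h0 : c • ι Q r = 0 := by
    refine eq_zero_of_even_odd Q ?_ (Submodule.smul_mem _ _ (ι_mem_evenOdd_one Q r))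
    rw [show c • ι Q r = x - algebraMap R _ a by rw [hac]; abel]
    exact Submodule.sub_mem _ hx (SetLike.algebraMap_mem_graded _ a)
  exact ⟨a, by rw [hac, h0, add_zero]⟩

variable {w : CliffordAlgebra Q}

omit [Module.Free R M] [Module.Finite R M] in
theorem IsOmega.isUnit (hw : IsOmega Q m w) : IsUnit w := by
  obtain ⟨d, hd, hsq⟩ := hw.sq
  have hu : IsUnit (algebraMap R (CliffordAlgebra Q) d) := hd.map _
  rw [← hsq] at hu
  exact ((Commute.refl w).isUnit_mul_iff.1 hu).1

omit [Module.Free R M] [Module.Finite R M] in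
theorem IsOmega.commute_all (hw : IsOmega Q m w) (x : CliffordAlgebra Q) : x * w = w * x := by
  induction x using CliffordAlgebra.induction with
  | algebraMap t => exact Algebra.commutes t w
  | ι v => exact hw.comm v
  | mul a c ha hc => rw [mul_assoc, hc, ← mul_assoc, ha, mul_assoc]
  | add a c ha hc => rw [add_mul, mul_add, ha, hc]

/-- An odd element commuting with all vectors is a multiple of `ω`. -/
theorem PFrame.IsOdd.odd_central (hF : F.IsOdd r) (b : Module.Basis (Fin (2 * m + 1)) R M) (hw : IsOmega Q m w)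
    {x : CliffordAlgebra Q} (hx : x ∈ evenOdd Q 1) (h : ∀ v, ι Q v * x = x * ι Q v) : ∃ c : R, x = c • w := by
  have hxw : x * w ∈ evenOdd Q 0 := by
    have := SetLike.mul_mem_graded hx hw.odd
    rwa [show (1 : ZMod 2) + 1 = 0 from rfl] at this
  obtain ⟨a, ha⟩ := hF.scalar_of_even_commute b hxw fun v => by
    rw [← mul_assoc, h v, mul_assoc, hw.comm v, mul_assoc]
  obtain ⟨d, hd, hsq⟩ := hw.sq
  refine ⟨a * (↑hd.unit⁻¹ : R), hw.isUnit.mul_left_injective ?_⟩
  show x * w = (a * (↑hd.unit⁻¹ : R)) • w * w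
  rw [smul_mul_assoc, hsq, Algebra.smul_def, ← map_mul, mul_assoc, hd.val_inv_mul, mul_one, ← ha]

/-- The centre is `R + R ω`. -/
theorem PFrame.IsOdd.central_eq (hF : F.IsOdd r) (b : Module.Basis (Fin (2 * m + 1)) R M) (hw : IsOmega Q m w)
    {x : CliffordAlgebra Q} (h : ∀ v, ι Q v * x = x * ι Q v) : ∃ a c : R, x = algebraMap R _ a + c • w := by
  obtain ⟨x0, h0, x1, h1, rfl⟩ := exists_even_odd Q x
  have hp := fun v => parts_commute h0 h1 v v (h v)
  obtain ⟨a, ha⟩ := hF.scalar_of_even_commute b h0 fun v => (hp v).1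
  obtain ⟨c, hc⟩ := hF.odd_central b hw h1 fun v => (hp v).2
  exact ⟨a, c, by rw [ha, hc]⟩

theorem IsOmega.smul_eq_zero (hw : IsOmega Q m w) {c : R} (h : c • w = 0) : c = 0 := by
  have := congrArg (fun t => t * w) h
  obtain ⟨d, hd, hsq⟩ := hw.sq
  change c • w * w = 0 * w at this
  rw [smul_mul_assoc, hsq, zero_mul, Algebra.smul_def, ← map_mul] at this
  exact hd.mul_left_eq_zero.1 (algebraMap_injective Q (this.trans (map_zero _).symm))

omit [Module.Free R M] [Module.Finite R M] in
theorem map_refl_omega (hw : IsOmega Q m w) (v : M) (hv : IsUnit (Q v)) (hg : refl Q v hv ∈ QuadGrp.O Q) :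
    cl hg w = -w := by
  refine (isUnit_ι Q v hv).mul_left_injective ?_
  show _ * ι Q v = _ * ι Q v
  rw [cl, map_refl_mul_ι, involute_eq_of_mem_odd hw.odd, mul_neg, hw.comm, neg_mul]

omit [Module.Free R M] [Module.Finite R M] in
theorem map_reflProd_omega (hw : IsOmega Q m w) :
    ∀ (l : List {v : M // IsUnit (Q v)}) (hg : reflProd l ∈ QuadGrp.O Q),
      cl hg w = ((-1 : R) ^ l.length) • w := by
  intro l
  induction l with
  | nil => intro hg; rw [List.length_nil, pow_zero, one_smul]; exact map_one_isometry hg w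
  | cons v l ih =>
    intro hg
    refine (map_mul_isometry (refl_mem_O Q v.1 v.2) (reflProd_mem_O l) hg w).trans ?_
    rw [show CliffordAlgebra.map (QuadGrp.isometryOfMem Q (reflProd l) (reflProd_mem_O l)) w = _ from ih _,
      map_smul, show CliffordAlgebra.map (QuadGrp.isometryOfMem Q (refl Q v.1 v.2) (refl_mem_O Q v.1 v.2)) w = _ from
        map_refl_omega hw v.1 v.2 _, List.length_cons, pow_succ', neg_one_mul, neg_smul, smul_neg]

end Core

theorem isOmega_toC (A : Type u) [CommRing A] [Algebra R A] {w : CliffordAlgebra Q} (hw : IsOmega Q m w) :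
    IsOmega (QuadGrp.baseChangeForm A Q) m (toC A Q w) := by
  refine ⟨toC_mem_evenOdd _ Q hw.odd, fun v => ?_, ?_, ?_⟩
  · induction v using TensorProduct.induction_on with
    | zero => simp
    | tmul s n =>
      rw [show s ⊗ₜ[R] n = s • ((1 : A) ⊗ₜ[R] n) by rw [smul_tmul', smul_eq_mul, mul_one], map_smul,
        smul_mul_assoc, mul_smul_comm, ← toC_ι, ← map_mul (toC _ Q), ← map_mul (toC _ Q), hw.comm]
    | add a c ha hc => rw [map_add, add_mul, mul_add, ha, hc]
  · obtain ⟨d, hd, hsq⟩ := hw.sq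
    refine ⟨algebraMap R A d, hd.map _, ?_⟩
    rw [← map_mul (toC A Q), hsq, AlgHom.commutes]
    exact IsScalarTower.algebraMap_apply R A (CliffordAlgebra (QuadGrp.baseChangeForm A Q)) d
  · rw [star_toC, hw.star_eq, toC_smul, map_pow, map_neg, map_one]

section LocalRing

variable [IsLocalRing R]

/-- Local data in odd rank. -/
theorem exists_oddData (b : Module.Basis (Fin (2 * m + 1)) R M)
    (hQ : QuadGrp.IsSemiregular b (LinearEquiv.refl R R) Q) :
    ∃ (F : PFrame Q m) (r : M) (z : CliffordAlgebra Q), F.IsOdd r ∧ IsOmega Q m (del z * ι Q r) ∧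
      (∀ G : CliffordAlgebra Q →ₐ[R] CliffordAlgebra Q, (∀ v ∈ F.vecs, G (ι Q v) = ι Q v) → G z = z) := by
  obtain ⟨F, r, hF⟩ := exists_oddFrame m b Q hQ
  obtain ⟨z, hw, -, -, -, hgen⟩ := hF.exists_omega
  exact ⟨F, r, z, hF, hw, hgen⟩

theorem cl_omega_five (h5 : FiveUnits R) (b : Module.Basis (Fin (2 * m + 1)) R M)
    (hQ : QuadGrp.IsSemiregular b (LinearEquiv.refl R R) Q) {w : CliffordAlgebra Q} (hw : IsOmega Q m w)
    {g : M ≃ₗ[R] M} (hg : g ∈ QuadGrp.O Q) : cl hg w = LinearMap.det g.toLinearMap • w := by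
  obtain ⟨F, r, z, hF, hw₀, hgen⟩ := exists_oddData b hQ
  obtain ⟨c, rfl⟩ : ∃ c : R, w = c • (del z * ι Q r) := hF.odd_central b hw₀ hw.odd hw.comm
  rw [map_smul, smul_comm]
  congr 1
  obtain ⟨l, a, -, hfix, hr⟩ := F.exists_eq_reflProd_odd h5 hF hg
  have hhO : reflProd l * g ∈ QuadGrp.O Q := (QuadGrp.O Q).mul_mem (reflProd_mem_O l) hg
  have hdet : LinearMap.det (reflProd l * g).toLinearMap = a :=
    det_of_fix hF b hfix hr
  have hh : cl hhO (del z * ι Q r) = a • (del z * ι Q r) := by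
    have hz : cl hhO z = z := hgen _ fun v hv => by
      rw [map_apply_ι, QuadGrp.isometryOfMem_apply]
      rcases hv with ⟨i, rfl⟩ | ⟨i, rfl⟩
      · rw [(hfix i).1]
      · rw [(hfix i).2]
    rw [map_mul, map_sub, map_mul, map_ofNat, map_one, hz]
    show del z * CliffordAlgebra.map (QuadGrp.isometryOfMem Q _ hhO) (ι Q r) = _
    rw [map_apply_ι, QuadGrp.isometryOfMem_apply, hr, map_smul, mul_smul_comm]
  rw [LinearEquiv.coe_toLinearMap_mul, map_mul, det_reflProd] at hdet
  have hgeq : g = reflProd l.reverse * (reflProd l * g) := by rw [← mul_assoc, reflProd_reverse_mul, one_mul]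
  rw [cl_congr_mem hg ((QuadGrp.O Q).mul_mem (reflProd_mem_O _) hhO) hgeq]
  refine (map_mul_isometry (reflProd_mem_O _) hhO _ _).trans ?_
  rw [show CliffordAlgebra.map (QuadGrp.isometryOfMem Q _ hhO) (del z * ι Q r) = _ from hh, map_smul,
    show CliffordAlgebra.map (QuadGrp.isometryOfMem Q _ (reflProd_mem_O l.reverse)) (del z * ι Q r) = _ from
      map_reflProd_omega hw₀ _ _, smul_smul, List.length_reverse, ← hdet, mul_comm ((-1 : R) ^ l.length), mul_assoc,
    mul_comm (LinearMap.det g.toLinearMap), ← pow_add,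
    Even.neg_one_pow (α := R) ⟨l.length, rfl⟩, one_mul]

omit [IsLocalRing R] in
theorem cl_omega_of (A : Type u) [CommRing A] [Algebra R A] [IsLocalRing A] (h5 : FiveUnits A)
    (hinj : Function.Injective (algebraMap R A)) (b : Module.Basis (Fin (2 * m + 1)) R M)
    (hQ : QuadGrp.IsSemiregular b (LinearEquiv.refl R R) Q) {w : CliffordAlgebra Q} (hw : IsOmega Q m w)
    {g : M ≃ₗ[R] M} (hg : g ∈ QuadGrp.O Q) : cl hg w = LinearMap.det g.toLinearMap • w := by
  refine toC_injective A Q hinj ?_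
  have h := cl_omega_five h5 (b.baseChange A) (isSemiregular_baseChange A b hQ) (isOmega_toC A hw)
    (baseChange_mem_O A hg)
  rw [det_baseChange_equiv, ← toC_smul] at h
  exact (map_toC A hg w).symm.trans h

theorem cl_omega (b : Module.Basis (Fin (2 * m + 1)) R M)
    (hQ : QuadGrp.IsSemiregular b (LinearEquiv.refl R R) Q) {w : CliffordAlgebra Q} (hw : IsOmega Q m w)
    {g : M ≃ₗ[R] M} (hg : g ∈ QuadGrp.O Q) : cl hg w = LinearMap.det g.toLinearMap • w := by
  exact cl_omega_of (Rt R) (fiveUnits_Rt R) (injective_Rt R) b hQ hw hg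

end LocalRing

section GlobalOdd

theorem basis_RP (P : Ideal R) [P.IsPrime] (b : Module.Basis (Fin (2 * m + 1)) R M)
    (hQ : QuadGrp.IsSemiregular b (LinearEquiv.refl R R) Q) :
    ∃ (F : PFrame (QuadGrp.baseChangeForm (Localization.AtPrime P) Q) m) (r : Localization.AtPrime P ⊗[R] M)
      (w : CliffordAlgebra (QuadGrp.baseChangeForm (Localization.AtPrime P) Q)),
      F.IsOdd r ∧ IsOmega _ m w := by
  obtain ⟨F, r, z, hF, hw, -⟩ := exists_oddData (b.baseChange (Localization.AtPrime P))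
    (isSemiregular_baseChange _ b hQ)
  exact ⟨F, r, _, hF, hw⟩

omit [Module.Finite R M] in
theorem toC_commute (A : Type*) [CommRing A] [Algebra R A] {x : CliffordAlgebra Q}
    (h : ∀ v, ι Q v * x = x * ι Q v) (v : A ⊗[R] M) :
    ι (QuadGrp.baseChangeForm A Q) v * toC A Q x = toC A Q x * ι (QuadGrp.baseChangeForm A Q) v := by
  induction v using TensorProduct.induction_on with
  | zero => simp
  | tmul s n =>
    rw [show s ⊗ₜ[R] n = s • ((1 : A) ⊗ₜ[R] n) by rw [smul_tmul', smul_eq_mul, mul_one], map_smul, smul_mul_assoc,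
      mul_smul_comm, ← toC_ι, ← map_mul (toC _ Q), ← map_mul (toC _ Q), h]
  | add a c ha hc => rw [map_add, add_mul, mul_add, ha, hc]

theorem even_central_scalar (b : Module.Basis (Fin (2 * m + 1)) R M)
    (hQ : QuadGrp.IsSemiregular b (LinearEquiv.refl R R) Q) {x : CliffordAlgebra Q} (hx : x ∈ evenOdd Q 0)
    (h : ∀ v, ι Q v * x = x * ι Q v) : x ∈ (algebraMap R (CliffordAlgebra Q)).range := by
  refine mem_range_of_forall_localization fun P _ => ?_
  obtain ⟨F, r, w, hF, hw⟩ := basis_RP P b hQ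
  exact hF.scalar_of_even_commute (b.baseChange _) (toC_mem_evenOdd _ Q hx) (toC_commute _ h)

theorem star_odd_central (b : Module.Basis (Fin (2 * m + 1)) R M)
    (hQ : QuadGrp.IsSemiregular b (LinearEquiv.refl R R) Q) {x : CliffordAlgebra Q} (hx : x ∈ evenOdd Q 1)
    (h : ∀ v, ι Q v * x = x * ι Q v) : star x = ((-1 : R) ^ (m + 1)) • x := by
  refine eq_of_forall_localization fun P _ => ?_
  obtain ⟨F, r, w, hF, hw⟩ := basis_RP P b hQ
  obtain ⟨c, hc⟩ := hF.odd_central (b.baseChange _) hw (toC_mem_evenOdd _ Q hx) (toC_commute _ h)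
  rw [← star_toC, toC_smul, hc, CliffordAlgebra.star_smul, hw.star_eq, map_pow, map_neg, map_one, smul_comm]

omit [Module.Free R M] [Module.Finite R M] in
theorem cl_eq_conj {g : M ≃ₗ[R] M} (hg : g ∈ QuadGrp.O Q) (u : CliffordAlgebra Q)
    (h : ∀ v, ι Q (g v) * u = u * ι Q v) (x : CliffordAlgebra Q) : cl hg x * u = u * x :=
  map_mul_eq Q g hg u h x

theorem det_eq_one_local (A : Type u) [CommRing A] [Algebra R A] [IsLocalRing A]
    (b : Module.Basis (Fin (2 * m + 1)) R M)
    (hQ : QuadGrp.IsSemiregular b (LinearEquiv.refl R R) Q) {u : (CliffordAlgebra Q)ˣ} {g : M ≃ₗ[R] M}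
    (hg : g ∈ QuadGrp.O Q) (h : ∀ v, (u : CliffordAlgebra Q) * ι Q v * ↑u⁻¹ = ι Q (g v)) :
    LinearMap.det (g.baseChange R A M M).toLinearMap = 1 := by
  obtain ⟨F, r, z, hF, hw, -⟩ := exists_oddData (b.baseChange A) (isSemiregular_baseChange A b hQ)
  have h1 := cl_omega (b.baseChange A) (isSemiregular_baseChange A b hQ) hw (baseChange_mem_O A hg)
  have huv : ∀ v, ι (QuadGrp.baseChangeForm A Q) (g.baseChange R A M M v) * toC A Q u =
      toC A Q u * ι (QuadGrp.baseChangeForm A Q) v := by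
    intro v
    induction v using TensorProduct.induction_on with
    | zero => simp
    | tmul s n =>
      rw [LinearEquiv.baseChange_tmul,
        show s ⊗ₜ[R] g n = s • ((1 : A) ⊗ₜ[R] g n) by rw [smul_tmul', smul_eq_mul, mul_one],
        show s ⊗ₜ[R] n = s • ((1 : A) ⊗ₜ[R] n) by rw [smul_tmul', smul_eq_mul, mul_one],
        map_smul, map_smul, smul_mul_assoc, mul_smul_comm, ← toC_ι, ← toC_ι, ← map_mul (toC A Q), ← map_mul (toC A Q),
        ← h, mul_assoc, Units.inv_mul, mul_one]
    | add a c ha hc => rw [map_add, map_add, map_add, add_mul, mul_add, ha, hc]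
  have hU : IsUnit (toC A Q u) := u.isUnit.map _
  have h2 : cl (baseChange_mem_O A hg) (del z * ι (QuadGrp.baseChangeForm A Q) r) =
      del z * ι (QuadGrp.baseChangeForm A Q) r :=
    hU.mul_left_injective ((cl_eq_conj (baseChange_mem_O A hg) _ huv _).trans (hw.commute_all _).symm.symm)
  rw [h2] at h1
  have h3 : (LinearMap.det (g.baseChange R A M M).toLinearMap - 1) • (del z * ι (QuadGrp.baseChangeForm A Q) r) = 0 := by
    rw [sub_smul, one_smul, ← h1, sub_self]
  exact sub_eq_zero.1 (hw.smul_eq_zero h3)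

theorem det_eq_one_of_gpin' (b : Module.Basis (Fin (2 * m + 1)) R M)
    (hQ : QuadGrp.IsSemiregular b (LinearEquiv.refl R R) Q) {u : (CliffordAlgebra Q)ˣ} {g : M ≃ₗ[R] M}
    (hg : g ∈ QuadGrp.O Q) (h : ∀ v, (u : CliffordAlgebra Q) * ι Q v * ↑u⁻¹ = ι Q (g v)) :
    LinearMap.det g.toLinearMap = 1 := by
  refine eq_of_forall_algebraMap fun P _ => ?_
  rw [map_one, ← det_baseChange_equiv]
  exact det_eq_one_local _ b hQ hg h

end GlobalOdd

section Descent

variable [IsLocalRing R]

theorem lTensor_exists_even {S : Type u} [CommRing S] [Algebra R S] (ξ : S ⊗[R] CliffordAlgebra Q)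
    (h : baseChangeEquiv S Q ξ ∈ evenOdd (QuadGrp.baseChangeForm S Q) 0) :
    ∃ η, LinearMap.lTensor S (evenOdd Q 0).subtype η = ξ := by
  classical
  have key : ∀ ξ : S ⊗[R] CliffordAlgebra Q, ∃ η0 η1, ξ = LinearMap.lTensor S (evenOdd Q 0).subtype η0 +
      LinearMap.lTensor S (evenOdd Q 1).subtype η1 := by
    intro ξ
    induction ξ using TensorProduct.induction_on with
    | zero => exact ⟨0, 0, by simp⟩
    | tmul s x =>
      obtain ⟨a, ha, c, hc, rfl⟩ := exists_even_odd Q x
      exact ⟨s ⊗ₜ ⟨a, ha⟩, s ⊗ₜ ⟨c, hc⟩, by simp [TensorProduct.tmul_add]⟩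
    | add x y hx hy =>
      obtain ⟨a, c, rfl⟩ := hx
      obtain ⟨a', c', rfl⟩ := hy
      exact ⟨a + a', c + c', by rw [map_add, map_add]; abel⟩
  obtain ⟨η0, η1, rfl⟩ := key ξ
  have hmem : ∀ (i : ZMod 2) (η : S ⊗[R] evenOdd Q i),
      baseChangeEquiv S Q (LinearMap.lTensor S (evenOdd Q i).subtype η) ∈
        evenOdd (QuadGrp.baseChangeForm S Q) i := by
    intro i η
    induction η using TensorProduct.induction_on with
    | zero => simp
    | tmul s x =>
      rw [LinearMap.lTensor_tmul, baseChangeEquiv_tmul]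
      exact Submodule.smul_mem _ _ (toC_mem_evenOdd S Q x.2)
    | add a c ha hc => rw [map_add, map_add]; exact Submodule.add_mem _ ha hc
  rw [map_add] at h
  have h1 := (parts_unique _ (hmem 0 η0) h (hmem 1 η1) (Submodule.zero_mem _) (add_zero _).symm).2
  rw [← map_zero (baseChangeEquiv S Q)] at h1
  exact ⟨η0, by rw [(baseChangeEquiv S Q).injective h1, add_zero]⟩

/-- Units descend from `R(t)`. -/
theorem isUnit_of_toC (x : CliffordAlgebra Q) (hxS : IsUnit (toC (Rt R) Q x)) : IsUnit x := by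
  haveI := (free_clifford Q).1
  haveI := (free_clifford Q).2
  have hsurj : Function.Surjective (LinearMap.mulLeft R x) := by
    have hbij : IsUnit (LinearMap.mulLeft (Rt R) (toC (Rt R) Q x)) :=
      (Module.End.isUnit_iff _).2 ⟨hxS.mul_right_injective, fun y => ⟨↑hxS.unit⁻¹ * y, by
        rw [LinearMap.mulLeft_apply, ← mul_assoc, hxS.mul_val_inv, one_mul]⟩⟩
    have hconj : LinearMap.mulLeft (Rt R) (toC (Rt R) Q x) =
        (baseChangeEquiv (Rt R) Q).toLinearEquiv.conj ((LinearMap.mulLeft R x).baseChange (Rt R)) := by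
      refine LinearMap.ext fun y => ?_
      obtain ⟨η, rfl⟩ := (baseChangeEquiv (Rt R) Q).surjective y
      rw [LinearEquiv.conj_apply_apply]
      rw [show (baseChangeEquiv (Rt R) Q).toLinearEquiv.symm (baseChangeEquiv (Rt R) Q η) = η from
        (baseChangeEquiv (Rt R) Q).symm_apply_apply η]
      show _ = baseChangeEquiv (Rt R) Q _
      induction η using TensorProduct.induction_on with
      | zero => simp
      | tmul s w =>
        rw [LinearMap.baseChange_tmul, LinearMap.mulLeft_apply, LinearMap.mulLeft_apply, baseChangeEquiv_tmul,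
          baseChangeEquiv_tmul, mul_smul_comm, map_mul]
      | add a d ha hd => rw [map_add, map_add, map_add, map_add, ha, hd]
    have hdet := (LinearMap.mulLeft (Rt R) (toC (Rt R) Q x)).isUnit_det hbij
    rw [hconj, LinearEquiv.conj_apply, LinearMap.comp_assoc, LinearMap.det_conj, LinearMap.det_baseChange] at hdet
    exact ((Module.End.isUnit_iff _).1
      (((LinearMap.mulLeft R x).isUnit_iff_isUnit_det).2 (isUnit_of_map_Rt R hdet))).2
  obtain ⟨y, hy⟩ := hsurj 1
  rw [LinearMap.mulLeft_apply] at hy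
  refine ⟨⟨x, y, hy, ?_⟩, rfl⟩
  exact OrzechProperty.injective_of_surjective_endomorphism _ hsurj (by
    show x * (y * x) = x * 1
    rw [← mul_assoc, hy, one_mul, mul_one])

/-- Descent of an even intertwiner from `R(t)`. -/
theorem exists_even_intertwiner {g : M ≃ₗ[R] M} {U : CliffordAlgebra (QuadGrp.baseChangeForm (Rt R) Q)}
    (hU : IsUnit U) (hUe : U ∈ evenOdd (QuadGrp.baseChangeForm (Rt R) Q) 0)
    (hUv : ∀ v, U * ι (QuadGrp.baseChangeForm (Rt R) Q) v =
      ι (QuadGrp.baseChangeForm (Rt R) Q) (g.baseChange R (Rt R) M M v) * U)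
    (hmult : ∀ x ∈ evenOdd Q 0, (∀ v, x * ι Q v = ι Q (g v) * x) → ∃ c : Rt R, toC (Rt R) Q x = c • U) :
    ∃ u : (CliffordAlgebra Q)ˣ, (u : CliffordAlgebra Q) ∈ evenOdd Q 0 ∧
      ∀ v, (u : CliffordAlgebra Q) * ι Q v = ι Q (g v) * u := by
  classical
  haveI := (free_clifford Q).1
  haveI := (free_clifford Q).2
  let b := Module.Free.chooseBasis R M
  let Φ : evenOdd Q 0 →ₗ[R] (Module.Free.ChooseBasisIndex R M → CliffordAlgebra Q) :=
    (LinearMap.pi fun i => LinearMap.mulRight R (ι Q (b i)) - LinearMap.mulLeft R (ι Q (g (b i)))).comp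
      (evenOdd Q 0).subtype
  obtain ⟨ξ, hξ⟩ := (baseChangeEquiv (Rt R) Q).surjective U
  obtain ⟨η, hη⟩ := lTensor_exists_even ξ (hξ ▸ hUe)
  have hcomp : ∀ (η : Rt R ⊗[R] evenOdd Q 0) i,
      baseChangeEquiv (Rt R) Q (TensorProduct.piRight R R (Rt R) _ (LinearMap.lTensor (Rt R) Φ η) i) =
        baseChangeEquiv (Rt R) Q (LinearMap.lTensor (Rt R) (evenOdd Q 0).subtype η) *
            ι (QuadGrp.baseChangeForm (Rt R) Q) ((1 : Rt R) ⊗ₜ[R] b i) -
          ι (QuadGrp.baseChangeForm (Rt R) Q) (g.baseChange R (Rt R) M M ((1 : Rt R) ⊗ₜ[R] b i)) *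
            baseChangeEquiv (Rt R) Q (LinearMap.lTensor (Rt R) (evenOdd Q 0).subtype η) := by
    intro η i
    induction η using TensorProduct.induction_on with
    | zero => simp
    | tmul s x =>
      rw [LinearMap.lTensor_tmul, LinearMap.lTensor_tmul, TensorProduct.piRight_apply, TensorProduct.piRightHom_tmul,
        LinearEquiv.baseChange_tmul, baseChangeEquiv_tmul, baseChangeEquiv_tmul]
      simp [Φ, toC_ι, smul_sub]
    | add a c ha hc => simp only [map_add, Pi.add_apply, ha, hc, add_mul, mul_add]; abel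
  have hker : LinearMap.lTensor (Rt R) Φ η = 0 := by
    refine (TensorProduct.piRight R R (Rt R)
      (fun _ : Module.Free.ChooseBasisIndex R M => CliffordAlgebra Q)).injective ?_
    rw [map_zero]
    funext i
    refine (baseChangeEquiv (Rt R) Q).injective ?_
    rw [Pi.zero_apply, map_zero, hcomp, hη, hξ, hUv, sub_self]
  obtain ⟨θ, hθ⟩ := ((Module.Flat.lTensor_exact (R := R) (Rt R) (N := LinearMap.ker Φ) (N' := evenOdd Q 0)
    (LinearMap.exact_subtype_ker_map Φ)) η).1 hker
  have hprop : ∀ x : LinearMap.ker Φ, ∀ v, (x.1 : CliffordAlgebra Q) * ι Q v = ι Q (g v) * x.1 := by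
    intro x
    have : (LinearMap.mulLeft R (x.1 : CliffordAlgebra Q)).comp (ι Q) =
        (LinearMap.mulRight R (x.1 : CliffordAlgebra Q)).comp ((ι Q).comp g.toLinearMap) :=
      b.ext fun i => sub_eq_zero.1 (congrFun x.2 i)
    exact fun v => LinearMap.congr_fun this v
  -- `U` is a combination of descended intertwiners
  have hsum : ∀ θ : Rt R ⊗[R] LinearMap.ker Φ, ∀ (_ : ∀ x : LinearMap.ker Φ, ∀ c : Rt R,
      toC (Rt R) Q (x.1 : CliffordAlgebra Q) = c • U → ¬ IsUnit c),
      ∃ s ∈ IsLocalRing.maximalIdeal (Rt R), baseChangeEquiv (Rt R) Q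
        (LinearMap.lTensor (Rt R) (evenOdd Q 0).subtype (LinearMap.lTensor (Rt R) (LinearMap.ker Φ).subtype θ)) = s • U := by
    intro θ hno
    induction θ using TensorProduct.induction_on with
    | zero => exact ⟨0, Submodule.zero_mem _, by simp⟩
    | tmul s x =>
      obtain ⟨c, hc⟩ := hmult _ x.1.2 (hprop x)
      refine ⟨s * c, Ideal.mul_mem_left _ _ (hno x c hc), ?_⟩
      rw [LinearMap.lTensor_tmul, LinearMap.lTensor_tmul, baseChangeEquiv_tmul, mul_smul]
      congr 1
    | add a c ha hc =>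
      obtain ⟨s, hs, ha⟩ := ha
      obtain ⟨t, ht, hc⟩ := hc
      exact ⟨s + t, Submodule.add_mem _ hs ht, by rw [map_add, map_add, map_add, ha, hc, add_smul]⟩
  obtain ⟨x, c, hc, hcu⟩ : ∃ (x : LinearMap.ker Φ) (c : Rt R),
      toC (Rt R) Q (x.1 : CliffordAlgebra Q) = c • U ∧ IsUnit c := by
    by_contra hcon
    push Not at hcon
    obtain ⟨s, hs, hsU⟩ := hsum θ hcon
    rw [hθ, hη, hξ] at hsU
    have h0 : (1 - s) • U = 0 := by rw [sub_smul, one_smul, ← hsU, sub_self]
    have h1 : IsUnit (1 - s) := by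
      rcases IsLocalRing.isUnit_or_isUnit_of_add_one (show s + (1 - s) = (1 : Rt R) by ring) with h | h
      · exact absurd h hs
      · exact h
    haveI := (algebraMap_injective (R := Rt R) (M := Rt R ⊗[R] M) (QuadGrp.baseChangeForm (Rt R) Q)).nontrivial
    exact hU.ne_zero (h1.smul_eq_zero.1 h0)
  have hxS : IsUnit (toC (Rt R) Q (x.1 : CliffordAlgebra Q)) := by
    rw [hc, Algebra.smul_def]; exact (hcu.map _).mul hU
  have hxu : IsUnit (x.1 : CliffordAlgebra Q) := isUnit_of_toC (x.1 : CliffordAlgebra Q) hxS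
  exact ⟨hxu.unit, x.1.2, hprop x⟩

end Descent

end Groth.L15.QG
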