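import Groth.Agent.L15.QG.Odd

/-! Clifford groups in odd rank: the statements. -/

set_option autoImplicit false

namespace Groth.L15.QG

open TensorProduct CliffordAlgebra

universe u v

variable {R : Type u} [CommRing R] {M : Type v} [AddCommGroup M] [Module R M]
variable {Q : QuadraticForm R M} {m : ℕ}

theorem mem_center_iff_forall_ι {x : CliffordAlgebra Q} :
    x ∈ Subalgebra.center R (CliffordAlgebra Q) ↔ ∀ v, ι Q v * x = x * ι Q v := by
  rw [Subalgebra.mem_center_iff]
  refine ⟨fun h v => h _, fun h y => ?_⟩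
  induction y using CliffordAlgebra.induction with
  | algebraMap t => exact Algebra.commutes t x
  | ι v => exact h v
  | mul a c ha hc => rw [mul_assoc, hc, ← mul_assoc, ha, mul_assoc]
  | add a c ha hc => rw [add_mul, mul_add, ha, hc]

theorem units_inv_even (u : (CliffordAlgebra Q)ˣ) (hu : (u : CliffordAlgebra Q) ∈ evenOdd Q 0) :
    (↑u⁻¹ : CliffordAlgebra Q) ∈ evenOdd Q 0 :=
  (QuadGrp.evenUnits Q).inv_mem (show u ∈ QuadGrp.evenUnits Q from hu)

theorem gspin_of_even (u : (CliffordAlgebra Q)ˣ) (hu : (u : CliffordAlgebra Q) ∈ evenOdd Q 0)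
    (hG : u ∈ QuadGrp.GPin' Q) : u ∈ QuadGrp.GSpin Q :=
  ⟨⟨hG, ⟨1, IsIdempotentElem.one, by rwa [one_smul], by rw [sub_self, zero_smul]; exact Submodule.zero_mem _⟩⟩, hu⟩

variable [Module.Free R M] [Module.Finite R M]

section LocalRing

variable [IsLocalRing R] (b : Module.Basis (Fin (2 * m + 1)) R M)
  (hQ : QuadGrp.IsSemiregular b (LinearEquiv.refl R R) Q)

include hQ in
theorem exists_central_generator :
    ∃ z : CliffordAlgebra Q, z ∈ Subalgebra.center R (CliffordAlgebra Q) ∧ z ∈ evenOdd Q 1 ∧ IsUnit z ∧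
      z * z ∈ (algebraMap R (CliffordAlgebra Q)).range ∧ LinearIndependent R ![(1 : CliffordAlgebra Q), z] ∧
      Subalgebra.toSubmodule (Subalgebra.center R (CliffordAlgebra Q)) = Submodule.span R {1, z} := by
  obtain ⟨F, r, z, hF, hw, -⟩ := exists_oddData b hQ
  set w := del z * ι Q r
  obtain ⟨d, hd, hsq⟩ := hw.sq
  refine ⟨w, mem_center_iff_forall_ι.2 hw.comm, hw.odd, hw.isUnit, ⟨d, hsq.symm⟩, ?_, ?_⟩
  · refine LinearIndependent.pair_iff.2 fun s t h => ?_
    have h1 := parts_unique Q (Submodule.smul_mem _ s (SetLike.one_mem_graded _)) (Submodule.zero_mem _)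
      (Submodule.smul_mem _ t hw.odd) (Submodule.zero_mem _) (h.trans (add_zero _).symm)
    refine ⟨?_, hw.smul_eq_zero h1.2⟩
    have := h1.1
    rw [Algebra.smul_def, mul_one] at this
    exact algebraMap_injective Q (this.trans (map_zero _).symm)
  · refine le_antisymm (fun x hx => ?_) ?_
    · obtain ⟨a, c, hac⟩ := hF.central_eq b hw (mem_center_iff_forall_ι.1 hx)
      rw [hac, Algebra.algebraMap_eq_smul_one]
      exact Submodule.mem_span_pair.2 ⟨a, c, rfl⟩
    · rw [Submodule.span_le]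
      rintro _ (rfl | rfl)
      · exact (Subalgebra.center R _).one_mem
      · exact mem_center_iff_forall_ι.2 hw.comm

include hQ in
theorem exists_even_elt_five (h5 : FiveUnits R) {g : M ≃ₗ[R] M} (hg : g ∈ QuadGrp.O Q)
    (hdet : LinearMap.det g.toLinearMap = 1) :
    ∃ u, IsUnit u ∧ u ∈ evenOdd Q 0 ∧ ∀ v, u * ι Q v = ι Q (g v) * u := by
  obtain ⟨F, r, z, hF, -, -⟩ := exists_oddData b hQ
  obtain ⟨l, a, -, hfix, hr⟩ := F.exists_eq_reflProd_odd h5 hF hg
  have hd : LinearMap.det (reflProd l * g).toLinearMap = a := det_of_fix hF b hfix hr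
  rw [LinearEquiv.coe_toLinearMap_mul, map_mul, det_reflProd, hdet, mul_one] at hd
  -- rewrite `g` as a product of an even number of reflections
  suffices hl : ∃ l' : List {v : M // IsUnit (Q v)}, Even l'.length ∧ g = reflProd l' by
    obtain ⟨l', he, rfl⟩ := hl
    refine ⟨reflElt l', isUnit_reflElt l', ?_, fun v => ?_⟩
    · have := reflElt_mem l'
      rwa [show ((l'.length : ℕ) : ZMod 2) = 0 from (ZMod.natCast_eq_zero_iff_even).2 he] at this
    · rw [reflProd_mul_elt, he.neg_one_pow, one_smul]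
  have hgeq : g = reflProd l.reverse * (reflProd l * g) := by rw [← mul_assoc, reflProd_reverse_mul, one_mul]
  by_cases he : Even l.length
  · refine ⟨l.reverse, by rwa [List.length_reverse], ?_⟩
    rw [he.neg_one_pow] at hd
    have h1 : reflProd l * g = 1 := by
      refine LinearEquiv.toLinearMap_injective (LinearMap.ext_on hF.span ?_)
      rintro _ (rfl | ⟨i, rfl⟩ | ⟨i, rfl⟩)
      · exact hr.trans (by rw [← hd, one_smul]; rfl)
      · exact (hfix i).1
      · exact (hfix i).2
    rw [h1, mul_one] at hgeq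
    exact hgeq
  · have ho := Nat.not_even_iff_odd.1 he
    refine ⟨l.reverse ++ [⟨r, hF.unit_r⟩], ?_, ?_⟩
    · rw [List.length_append, List.length_reverse, List.length_singleton]
      exact ho.add_one
    rw [ho.neg_one_pow] at hd
    have h1 : reflProd l * g = refl Q r hF.unit_r := by
      refine LinearEquiv.toLinearMap_injective (LinearMap.ext_on hF.span ?_)
      rintro _ (rfl | ⟨i, rfl⟩ | ⟨i, rfl⟩)
      · refine hr.trans ?_
        show a • _ = refl Q _ hF.unit_r _
        rw [← hd, refl_apply, QuadraticMap.polar_self, nsmul_eq_mul, Nat.cast_ofNat, ← mul_assoc,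
          mul_comm _ (2 : R), mul_assoc, hF.unit_r.val_inv_mul, mul_one]
        module
      · refine (hfix i).1.trans (refl_fix _ ?_).symm
        rw [QuadraticMap.polar_comm]; exact hF.orth_e i
      · refine (hfix i).2.trans (refl_fix _ ?_).symm
        rw [QuadraticMap.polar_comm]; exact hF.orth_f i
    rw [reflProd_append, reflProd_cons, reflProd_nil, mul_one, ← h1]
    exact hgeq

omit [IsLocalRing R] in
include hQ in
theorem mult_of_intertwines (A : Type u) [CommRing A] [Algebra R A] [IsLocalRing A] {g : M ≃ₗ[R] M}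
    {U : CliffordAlgebra (QuadGrp.baseChangeForm A Q)} (hU : IsUnit U)
    (hUe : U ∈ evenOdd (QuadGrp.baseChangeForm A Q) 0)
    (hUv : ∀ v, U * ι (QuadGrp.baseChangeForm A Q) v = ι (QuadGrp.baseChangeForm A Q) (g.baseChange R A M M v) * U)
    {x : CliffordAlgebra Q} (hx : x ∈ evenOdd Q 0) (hxv : ∀ v, x * ι Q v = ι Q (g v) * x) :
    ∃ c : A, toC A Q x = c • U := by
  obtain ⟨F, r, z, hF, -, -⟩ := exists_oddData (b.baseChange A) (isSemiregular_baseChange A b hQ)
  obtain ⟨Uu, rfl⟩ := hU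
  have hxA : ∀ v, toC A Q x * ι (QuadGrp.baseChangeForm A Q) v =
      ι (QuadGrp.baseChangeForm A Q) (g.baseChange R A M M v) * toC A Q x := by
    intro v
    induction v using TensorProduct.induction_on with
    | zero => simp
    | tmul s n =>
      rw [LinearEquiv.baseChange_tmul,
        show s ⊗ₜ[R] g n = s • ((1 : A) ⊗ₜ[R] g n) by rw [smul_tmul', smul_eq_mul, mul_one],
        show s ⊗ₜ[R] n = s • ((1 : A) ⊗ₜ[R] n) by rw [smul_tmul', smul_eq_mul, mul_one],
        map_smul, map_smul, smul_mul_assoc, mul_smul_comm, ← toC_ι, ← toC_ι, ← map_mul (toC A Q), ← map_mul (toC A Q),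
        hxv]
    | add a c ha hc => rw [map_add, map_add, map_add, add_mul, mul_add, ha, hc]
  have hye : (↑Uu⁻¹ : CliffordAlgebra (QuadGrp.baseChangeForm A Q)) * toC A Q x ∈
      evenOdd (QuadGrp.baseChangeForm A Q) 0 := by
    have := SetLike.mul_mem_graded (units_inv_even Uu hUe) (toC_mem_evenOdd A Q hx)
    rwa [add_zero] at this
  obtain ⟨c, hc⟩ := hF.scalar_of_even_commute (b.baseChange A) hye fun v => by
    have h4 : (↑Uu⁻¹ : CliffordAlgebra (QuadGrp.baseChangeForm A Q)) *
        ι (QuadGrp.baseChangeForm A Q) (g.baseChange R A M M v) =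
        ι (QuadGrp.baseChangeForm A Q) v * (↑Uu⁻¹ : CliffordAlgebra (QuadGrp.baseChangeForm A Q)) := by
      rw [Units.inv_mul_eq_iff_eq_mul, ← mul_assoc, hUv, mul_assoc, Units.mul_inv, mul_one]
    rw [mul_assoc _ (toC A Q x), hxA v]
    simp only [← mul_assoc]
    rw [h4]
  refine ⟨c, ?_⟩
  rw [Algebra.smul_def, Algebra.commutes, hc, Units.mul_inv_cancel_left]

omit [IsLocalRing R] in
include hQ in
theorem exists_even_elt_over (A : Type u) [CommRing A] [Algebra R A] [IsLocalRing A] (h5 : FiveUnits A)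
    {g : M ≃ₗ[R] M} (hg : g ∈ QuadGrp.O Q) (hdet : LinearMap.det g.toLinearMap = 1) :
    ∃ U, IsUnit U ∧ U ∈ evenOdd (QuadGrp.baseChangeForm A Q) 0 ∧
      ∀ v, U * ι (QuadGrp.baseChangeForm A Q) v =
        ι (QuadGrp.baseChangeForm A Q) (g.baseChange R A M M v) * U :=
  exists_even_elt_five (b.baseChange A) (isSemiregular_baseChange A b hQ) h5 (baseChange_mem_O A hg)
    (by rw [det_baseChange_equiv, hdet, map_one])

include hQ in
theorem exists_gspin_lift {g : M ≃ₗ[R] M} (hg : g ∈ QuadGrp.O Q) (hdet : LinearMap.det g.toLinearMap = 1) :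
    ∃ u ∈ QuadGrp.GSpin Q, ∀ v, (u : CliffordAlgebra Q) * ι Q v * ↑u⁻¹ = ι Q (g v) := by
  obtain ⟨U, hU, hUe, hUv⟩ := exists_even_elt_over b hQ (Rt R) (fiveUnits_Rt R) hg hdet
  obtain ⟨u, hue, huv⟩ := exists_even_intertwiner hU hUe hUv
    fun x hx hxv => mult_of_intertwines b hQ (Rt R) hU hUe hUv hx hxv
  have hconj : ∀ v, (u : CliffordAlgebra Q) * ι Q v * ↑u⁻¹ = ι Q (g v) := fun v => by
    rw [huv, mul_assoc, Units.mul_inv, mul_one]
  exact ⟨u, gspin_of_even u hue (mem_GPin'_of_conj g hconj), hconj⟩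

include hQ in
theorem gpin'_factor {u' : (CliffordAlgebra Q)ˣ} (hu' : u' ∈ QuadGrp.GPin' Q) :
    ∃ (g : M ≃ₗ[R] M) (u : (CliffordAlgebra Q)ˣ) (z : CliffordAlgebra Q), u ∈ QuadGrp.GSpin Q ∧
      z ∈ Subalgebra.center R (CliffordAlgebra Q) ∧ IsUnit z ∧ (u' : CliffordAlgebra Q) = z * u ∧
      (∀ v, (u : CliffordAlgebra Q) * ι Q v * ↑u⁻¹ = ι Q (g v)) := by
  obtain ⟨g, hgO, hg⟩ := exists_isometry_of_mem_GPin' hu'
  obtain ⟨u, hu, huv⟩ := exists_gspin_lift b hQ hgO (det_eq_one_of_gpin' b hQ hgO hg)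
  refine ⟨g, u, ((u' * u⁻¹ : (CliffordAlgebra Q)ˣ) : CliffordAlgebra Q), hu, mem_center_iff_forall_ι.2 fun v => ?_,
    (u' * u⁻¹).isUnit, by simp [mul_assoc], huv⟩
  obtain ⟨v₀, rfl⟩ := g.surjective v
  rw [Units.val_mul]
  conv_lhs => rw [← hg v₀]
  conv_rhs => rw [← huv v₀]
  simp [mul_assoc]

end LocalRing

section Global

variable (b : Module.Basis (Fin (2 * m + 1)) R M) (hQ : QuadGrp.IsSemiregular b (LinearEquiv.refl R R) Q)

/-- Local homogeneity of elements of `Pin'` over a local ring (`m` odd). -/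
theorem parts_of_pin' [IsLocalRing R] (h2 : IsUnit (2 : R)) (hm : Odd m)
    (hQ : QuadGrp.IsSemiregular b (LinearEquiv.refl R R) Q) {u' : (CliffordAlgebra Q)ˣ}
    (hu' : u' ∈ QuadGrp.GPin' Q) (hn : star (u' : CliffordAlgebra Q) * u' = 1) {u0 u1 : CliffordAlgebra Q}
    (h0 : u0 ∈ evenOdd Q 0) (h1 : u1 ∈ evenOdd Q 1) (hsum : (u' : CliffordAlgebra Q) = u0 + u1) :
    ∃ e : R, star u0 * u0 = algebraMap R _ e ∧ e • (u' : CliffordAlgebra Q) = u0 := by
  obtain ⟨F, r, z₀, hF, hw, -⟩ := exists_oddData b hQ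
  set w := del z₀ * ι Q r
  obtain ⟨g, u, z, hu, hz, -, hu'z, huv⟩ := gpin'_factor b hQ hu'
  obtain ⟨a, c, rfl⟩ := hF.central_eq b hw (mem_center_iff_forall_ι.1 hz)
  obtain ⟨d, hd, hsq⟩ := hw.sq
  have hue : (u : CliffordAlgebra Q) ∈ evenOdd Q 0 := hu.2
  obtain ⟨n, hn'⟩ : star (u : CliffordAlgebra Q) * u ∈ (algebraMap R (CliffordAlgebra Q)).range := by
    refine hF.scalar_of_even_commute b (add_zero (0 : ZMod 2) ▸ SetLike.mul_mem_graded (star_mem_even hue) hue)
      fun v => ?_
    have h' : ι Q (g v) * (u : CliffordAlgebra Q) = u * ι Q v := by rw [← huv, mul_assoc, Units.inv_mul, mul_one]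
    have h'' : ι Q v * star (u : CliffordAlgebra Q) = star (u : CliffordAlgebra Q) * ι Q (g v) := by
      have := congrArg star h'
      simp only [star_mul, CliffordAlgebra.star_ι, mul_neg, neg_mul, neg_inj] at this
      exact this.symm
    rw [← mul_assoc, h'', mul_assoc, h', mul_assoc]
  have hu0 : u0 = a • (u : CliffordAlgebra Q) ∧ u1 = (c • w) * u := by
    refine parts_unique Q h0 (Submodule.smul_mem _ _ hue) h1 ?_ ?_
    · have := SetLike.mul_mem_graded (Submodule.smul_mem _ c hw.odd) hue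
      rwa [add_zero] at this
    · rw [← hsum, hu'z, add_mul, ← Algebra.smul_def]
  have hwc : ∀ y, w * y = y * w := fun y => (hw.commute_all y).symm
  have hsw : star w = w := by
    rw [hw.star_eq, (Even.neg_one_pow hm.add_one), one_smul]
  have hnorm : algebraMap R (CliffordAlgebra Q) ((a * a + c * c * d) * n) + (2 * a * c * n) • w = 1 := by
    rw [← hn, hu'z, star_mul, star_add, CliffordAlgebra.star_algebraMap, CliffordAlgebra.star_smul, hsw]
    rw [show (algebraMap R _ a + c • w) = (a • (1 : CliffordAlgebra Q) + c • w) by rw [Algebra.algebraMap_eq_smul_one]]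
    have : star (u : CliffordAlgebra Q) * (a • (1 : CliffordAlgebra Q) + c • w) *
        ((a • (1 : CliffordAlgebra Q) + c • w) * u) =
        (a * a) • (star (u : CliffordAlgebra Q) * u) + (2 * a * c) • (w * (star (u : CliffordAlgebra Q) * u)) +
          (c * c) • (w * w * (star (u : CliffordAlgebra Q) * u)) := by
      simp only [add_mul, mul_add, smul_mul_assoc, mul_smul_comm, one_mul, mul_one, smul_smul, smul_add]
      rw [show w * (star (u : CliffordAlgebra Q) * u) = star (u : CliffordAlgebra Q) * (w * u) by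
          rw [← mul_assoc, hwc, mul_assoc],
        show w * w * (star (u : CliffordAlgebra Q) * u) = star (u : CliffordAlgebra Q) * w * (w * u) by
          rw [← mul_assoc, mul_assoc w w, hwc (star (u : CliffordAlgebra Q)), ← mul_assoc, hwc (star (u : CliffordAlgebra Q))]
          simp [mul_assoc],
        show star (u : CliffordAlgebra Q) * w * (u : CliffordAlgebra Q) = star (u : CliffordAlgebra Q) * (w * u) from
          mul_assoc _ _ _]
      module
    rw [this, hn'.symm, hsq, ← map_mul, ← Algebra.commutes n w, ← Algebra.smul_def, smul_smul,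
      Algebra.algebraMap_eq_smul_one, Algebra.algebraMap_eq_smul_one n, Algebra.algebraMap_eq_smul_one (d * n),
      smul_smul, smul_smul]
    module
  have hac : 2 * a * c * n = 0 ∧ (a * a + c * c * d) * n = 1 := by
    have h' := parts_unique Q (SetLike.algebraMap_mem_graded _ ((a * a + c * c * d) * n)) (SetLike.one_mem_graded _)
      (Submodule.smul_mem _ _ hw.odd) (Submodule.zero_mem _) (hnorm.trans (add_zero _).symm)
    exact ⟨hw.smul_eq_zero h'.2, algebraMap_injective Q (h'.1.trans (map_one _).symm)⟩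
  have hnu : IsUnit n := IsUnit.of_mul_eq_one _ (by rw [mul_comm]; exact hac.2)
  have hac0 : a * c = 0 := by
    have := (h2.mul hnu).mul_left_eq_zero.1 (show a * c * (2 * n) = 0 by linear_combination hac.1)
    exact this
  refine ⟨a * a * n, ?_, ?_⟩
  · rw [hu0.1, CliffordAlgebra.star_smul, smul_mul_smul_comm, ← hn', Algebra.smul_def, ← map_mul]
  · rw [hu'z, add_mul, ← Algebra.smul_def, smul_mul_assoc, smul_add, smul_smul, smul_smul,
      show a * a * n * a = a by linear_combination a * hac.2 - c * d * n * hac0,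
      show a * a * n * c = 0 by linear_combination a * n * hac0, zero_smul, add_zero, hu0.1]

include hQ in
theorem isLocHomog_of_pin' (h2 : IsUnit (2 : R)) (hm : Odd m) {u' : (CliffordAlgebra Q)ˣ}
    (hu' : u' ∈ QuadGrp.GPin' Q) (hn : star (u' : CliffordAlgebra Q) * u' = 1) :
    QuadGrp.IsLocHomog Q (u' : CliffordAlgebra Q) := by
  obtain ⟨u0, h0, u1, h1, hsum⟩ := exists_even_odd Q (u' : CliffordAlgebra Q)
  obtain ⟨g, hgO, hg⟩ := exists_isometry_of_mem_GPin' hu'
  have hloc : ∀ (A : Type u) [CommRing A] [Algebra R A] [IsLocalRing A],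
      ∃ e : A, toC A Q (star u0 * u0) = algebraMap A _ e ∧ e • toC A Q (u' : CliffordAlgebra Q) = toC A Q u0 := by
    intro A _ _ _
    have hmem : Units.map (toC A Q).toRingHom.toMonoidHom u' ∈ QuadGrp.GPin' (QuadGrp.baseChangeForm A Q) := by
      refine mem_GPin'_of_conj (g.baseChange R A M M) fun v => ?_
      show toC A Q u' * _ * toC A Q (↑u'⁻¹ : CliffordAlgebra Q) = _
      induction v using TensorProduct.induction_on with
      | zero => simp
      | tmul s n =>
        rw [LinearEquiv.baseChange_tmul,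
          show s ⊗ₜ[R] g n = s • ((1 : A) ⊗ₜ[R] g n) by rw [smul_tmul', smul_eq_mul, mul_one],
          show s ⊗ₜ[R] n = s • ((1 : A) ⊗ₜ[R] n) by rw [smul_tmul', smul_eq_mul, mul_one],
          map_smul, map_smul, mul_smul_comm, smul_mul_assoc, ← toC_ι, ← toC_ι, ← map_mul (toC A Q),
          ← map_mul (toC A Q), hg]
      | add a c ha hc => rw [map_add, map_add, map_add, mul_add, add_mul, ha, hc]
    obtain ⟨e, he1, he2⟩ := parts_of_pin' (b.baseChange A)
      (by rw [← map_ofNat (algebraMap R A) 2]; exact h2.map _) hm (isSemiregular_baseChange A b hQ) hmem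
      (by show star (toC A Q u') * toC A Q u' = 1; rw [star_toC, ← map_mul (toC A Q), hn, map_one])
      (toC_mem_evenOdd A Q h0) (toC_mem_evenOdd A Q h1)
      (show toC A Q u' = _ by rw [hsum, map_add])
    rw [star_toC, ← map_mul (toC A Q)] at he1
    exact ⟨e, he1, he2⟩
  obtain ⟨e, he⟩ : star u0 * u0 ∈ (algebraMap R (CliffordAlgebra Q)).range :=
    mem_range_of_forall_localization fun P _ => by
      obtain ⟨e, he, -⟩ := hloc (Localization.AtPrime P)
      exact ⟨e, he.symm⟩
  have key : e • (u' : CliffordAlgebra Q) = u0 := by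
    refine eq_of_forall_localization fun P _ => ?_
    obtain ⟨e', he1, he2⟩ := hloc (Localization.AtPrime P)
    rw [← he, AlgHom.commutes, IsScalarTower.algebraMap_apply R (Localization.AtPrime P)] at he1
    rw [toC_smul, algebraMap_injective _ he1, he2]
  have k1 : (1 - e) • (u' : CliffordAlgebra Q) = u1 := by rw [sub_smul, one_smul, key, hsum]; abel
  refine ⟨e, ?_, key ▸ h0, k1 ▸ h1⟩
  have h01 : e • u1 = 0 := by
    have hx : e • u0 + e • u1 = u0 + 0 := by rw [← smul_add, ← hsum, key, add_zero]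
    exact (parts_unique Q (Submodule.smul_mem _ _ h0) h0 (Submodule.smul_mem _ _ h1) (Submodule.zero_mem _) hx).2
  rw [← k1, smul_smul, Algebra.smul_def] at h01
  have h2' := algebraMap_injective Q ((u'.isUnit.mul_left_eq_zero.1 h01).trans (map_zero _).symm)
  show e * e = e
  linear_combination -h2'

include hQ in
/-- Near every prime there is an odd central element with invertible square. -/
theorem exists_central_odd_near (P : Ideal R) [P.IsPrime] :
    ∃ x ∈ evenOdd Q 1, (∀ v, ι Q v * x = x * ι Q v) ∧ ∃ μ, μ ∉ P ∧ x * x = algebraMap R _ μ := by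
  classical
  obtain ⟨F, r, w, hF, hw⟩ := basis_RP P b hQ
  obtain ⟨s, hs, x, hx⟩ := exists_lift (A := Localization.AtPrime P) P.primeCompl w
  obtain ⟨x0, h0, x1, h1, rfl⟩ := exists_even_odd Q x
  rw [map_add] at hx
  have hx1 := (parts_unique _ (toC_mem_evenOdd _ Q h0) (Submodule.zero_mem _) (toC_mem_evenOdd _ Q h1)
    (Submodule.smul_mem _ _ hw.odd) (hx.trans (zero_add _).symm)).2
  have h : ∀ i, ∃ t ∈ P.primeCompl, t • (ι Q (b i) * x1 - x1 * ι Q (b i)) = 0 := fun i => by
    refine exists_smul_eq_zero (A := Localization.AtPrime P) P.primeCompl ?_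
    rw [map_sub, map_mul, map_mul (toC _ Q) x1, toC_ι, hx1, mul_smul_comm, smul_mul_assoc, hw.comm, sub_self]
  choose t ht hkill using h
  let T := ∏ i, t i
  have hcomm : ∀ v, ι Q v * (T • x1) = (T • x1) * ι Q v := by
    have : (LinearMap.mulRight R (T • x1)).comp (ι Q) = (LinearMap.mulLeft R (T • x1)).comp (ι Q) := b.ext fun i => by
      show ι Q (b i) * (T • x1) = T • x1 * ι Q (b i)
      rw [mul_smul_comm, smul_mul_assoc, ← sub_eq_zero, ← smul_sub]
      show (∏ j, t j) • _ = (0 : CliffordAlgebra Q)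
      rw [← Finset.prod_erase_mul Finset.univ _ (Finset.mem_univ i), mul_smul, hkill, smul_zero]
    exact fun v => LinearMap.congr_fun this v
  have hT : T ∈ P.primeCompl := Submonoid.prod_mem _ fun i _ => ht i
  have hodd : T • x1 ∈ evenOdd Q 1 := Submodule.smul_mem _ _ h1
  have hsqe : (T • x1) * (T • x1) ∈ evenOdd Q 0 := by
    have := SetLike.mul_mem_graded hodd hodd
    rwa [show (1 : ZMod 2) + 1 = 0 from rfl] at this
  obtain ⟨μ, hμ⟩ := even_central_scalar b hQ hsqe fun v => by
    rw [← mul_assoc, hcomm, mul_assoc, hcomm, mul_assoc]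
  refine ⟨T • x1, hodd, hcomm, μ, fun hmem => ?_, hμ.symm⟩
  obtain ⟨d, hd, hsq⟩ := hw.sq
  have h' := congrArg (toC (Localization.AtPrime P) Q) hμ
  rw [AlgHom.commutes, IsScalarTower.algebraMap_apply R (Localization.AtPrime P) (CliffordAlgebra _) μ, map_mul,
    toC_smul, hx1, smul_smul, smul_mul_smul_comm, hsq, Algebra.smul_def, ← map_mul] at h'
  have hu : IsUnit (algebraMap R (Localization.AtPrime P) μ) := by
    rw [algebraMap_injective _ h']
    exact ((((IsLocalization.map_units _ ⟨T, hT⟩).mul (IsLocalization.map_units _ ⟨s, hs⟩))).mul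
      ((IsLocalization.map_units _ ⟨T, hT⟩).mul (IsLocalization.map_units _ ⟨s, hs⟩))).mul hd
  exact (IsLocalization.AtPrime.isUnit_to_map_iff _ P μ).1 hu hmem

include hQ in
theorem even_center_range {z : CliffordAlgebra Q} (hz : z ∈ Subalgebra.center R (CliffordAlgebra Q))
    (h0 : z ∈ evenOdd Q 0) : z ∈ (algebraMap R (CliffordAlgebra Q)).range :=
  even_central_scalar b hQ h0 (mem_center_iff_forall_ι.1 hz)

local notation "Zc" => Subalgebra.center R (CliffordAlgebra Q)

include hQ in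
theorem mulMap_bijective :
    Function.Bijective (TensorProduct.lift
        (((LinearMap.mul R (CliffordAlgebra Q)).comp (Subalgebra.center R (CliffordAlgebra Q)).val.toLinearMap).compl₂
          (CliffordAlgebra.even Q).val.toLinearMap)) := by
  set Φ := TensorProduct.lift (((LinearMap.mul R (CliffordAlgebra Q)).comp (Zc).val.toLinearMap).compl₂
    (CliffordAlgebra.even Q).val.toLinearMap)
  have hΦ : ∀ (z : Zc) (y : CliffordAlgebra.even Q), Φ (z ⊗ₜ y) = (z : CliffordAlgebra Q) * (y : CliffordAlgebra Q) :=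
    fun z y => rfl
  -- every tensor is `1 ⊗ y + ∑ odd ⊗ even`
  have hdec : ∀ ξ, ∃ (y : CliffordAlgebra.even Q) (ξ' : Zc ⊗[R] CliffordAlgebra.even Q),
      ξ = 1 ⊗ₜ y + ξ' ∧ Φ ξ' ∈ evenOdd Q 1 ∧
        ∀ (x : Zc), (x : CliffordAlgebra Q) ∈ evenOdd Q 1 → ∀ μ, (x : CliffordAlgebra Q) * x = algebraMap R _ μ →
          ∃ y' : CliffordAlgebra.even Q, (y' : CliffordAlgebra Q) = (x : CliffordAlgebra Q) * Φ ξ' ∧
            μ • ξ' = x ⊗ₜ y' := by
    intro ξ
    induction ξ using TensorProduct.induction_on with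
    | zero => exact ⟨0, 0, by simp, by simp, fun x _ μ _ => ⟨0, by simp, by simp⟩⟩
    | tmul z y =>
      obtain ⟨z0, hz0, z1, hz1, hz⟩ := exists_even_odd Q (z : CliffordAlgebra Q)
      have hzc : ∀ v, ι Q v * z0 = z0 * ι Q v ∧ ι Q v * z1 = z1 * ι Q v := fun v =>
        parts_commute hz0 hz1 v v (by rw [← hz]; exact mem_center_iff_forall_ι.1 z.2 v)
      obtain ⟨a, ha⟩ := even_central_scalar b hQ hz0 fun v => (hzc v).1
      let Z1 : Zc := ⟨z1, mem_center_iff_forall_ι.2 fun v => (hzc v).2⟩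
      have hzy : z ⊗ₜ[R] y = (1 : Zc) ⊗ₜ[R] (a • y) + Z1 ⊗ₜ[R] y := by
        rw [TensorProduct.tmul_smul, TensorProduct.smul_tmul', ← TensorProduct.add_tmul]
        congr 1
        refine Subtype.ext ?_
        show (z : CliffordAlgebra Q) = a • (1 : CliffordAlgebra Q) + z1
        rw [hz, ← Algebra.algebraMap_eq_smul_one, ha]
      have hodd : Φ (Z1 ⊗ₜ y) ∈ evenOdd Q 1 := by
        rw [hΦ]
        have := SetLike.mul_mem_graded hz1 (show (y : CliffordAlgebra Q) ∈ evenOdd Q 0 from y.2)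
        rwa [add_zero] at this
      refine ⟨a • y, Z1 ⊗ₜ y, hzy, hodd, fun x hx μ hμ => ?_⟩
      have hxz : (x : CliffordAlgebra Q) * z1 ∈ evenOdd Q 0 := by
        have := SetLike.mul_mem_graded hx hz1
        rwa [show (1 : ZMod 2) + 1 = 0 from rfl] at this
      obtain ⟨c, hc⟩ := even_central_scalar b hQ hxz fun v => by
        rw [← mul_assoc, mem_center_iff_forall_ι.1 x.2 v, mul_assoc, (hzc v).2, mul_assoc]
      refine ⟨c • y, ?_, ?_⟩
      · rw [hΦ]
        show c • (y : CliffordAlgebra Q) = _ * (z1 * _)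
        rw [← mul_assoc, ← hc, Algebra.smul_def]
      · rw [TensorProduct.tmul_smul, TensorProduct.smul_tmul', TensorProduct.smul_tmul']
        congr 1
        refine Subtype.ext ?_
        show μ • z1 = c • (x : CliffordAlgebra Q)
        rw [Algebra.smul_def, Algebra.smul_def, ← hμ, hc, mul_assoc, mul_assoc]
        congr 1
        exact (Subalgebra.mem_center_iff.1 x.2 z1).symm
    | add a c ha hc =>
      obtain ⟨y, a', rfl, hao, ha'⟩ := ha
      obtain ⟨y2, c', rfl, hco, hc'⟩ := hc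
      refine ⟨y + y2, a' + c', by rw [TensorProduct.tmul_add]; abel, by rw [map_add]; exact Submodule.add_mem _ hao hco,
        fun x hx μ hμ => ?_⟩
      obtain ⟨p, hp, hp'⟩ := ha' x hx μ hμ
      obtain ⟨p2, hp2, hp2'⟩ := hc' x hx μ hμ
      exact ⟨p + p2, by rw [map_add, mul_add, ← hp, ← hp2]; rfl, by rw [smul_add, hp', hp2', TensorProduct.tmul_add]⟩
  have hP : ∀ {I : Ideal R}, (∀ P : Ideal R, P.IsMaximal → ∃ μ ∈ I, μ ∉ P) → I = ⊤ := by
    intro I h
    by_contra hne
    obtain ⟨P, hP, hIP⟩ := Ideal.exists_le_maximal I hne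
    obtain ⟨μ, hμ, hμP⟩ := h P hP
    exact hμP (hIP hμ)
  constructor
  · rw [injective_iff_map_eq_zero]
    intro ξ hξ
    obtain ⟨y, ξ', rfl, hodd, hmove⟩ := hdec ξ
    rw [map_add, hΦ, Subalgebra.coe_one, one_mul] at hξ
    have hy := parts_unique Q (show (y : CliffordAlgebra Q) ∈ evenOdd Q 0 from y.2) (Submodule.zero_mem _) hodd
      (Submodule.zero_mem _) (hξ.trans (add_zero _).symm)
    have hy0 : y = 0 := Subtype.ext hy.1
    have htop : LinearMap.ker (LinearMap.toSpanSingleton R _ ξ') = (⊤ : Ideal R) := hP fun P hPm => by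
      haveI := hPm.isPrime
      obtain ⟨x, hxo, hxc, μ, hμ, hμ2⟩ := exists_central_odd_near b hQ P
      refine ⟨μ, ?_, hμ⟩
      obtain ⟨y', hy', hmu⟩ := hmove ⟨x, mem_center_iff_forall_ι.2 hxc⟩ hxo μ hμ2
      show μ • ξ' = 0
      rw [hy.2, mul_zero] at hy'
      rw [hmu, show y' = 0 from Subtype.ext hy', TensorProduct.tmul_zero]
    have h1 : (1 : R) ∈ LinearMap.ker (LinearMap.toSpanSingleton R _ ξ') := htop ▸ Submodule.mem_top
    rw [LinearMap.mem_ker, LinearMap.toSpanSingleton_apply, one_smul] at h1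
    rw [hy0, h1, TensorProduct.tmul_zero, add_zero]
  · intro y
    have htop : Submodule.comap (LinearMap.toSpanSingleton R _ y) (LinearMap.range Φ) = (⊤ : Ideal R) :=
      hP fun P hPm => by
        haveI := hPm.isPrime
        obtain ⟨x, hxo, hxc, μ, hμ, hμ2⟩ := exists_central_odd_near b hQ P
        refine ⟨μ, ?_, hμ⟩
        obtain ⟨y0, h0, y1, h1, rfl⟩ := exists_even_odd Q y
        let Y0 : CliffordAlgebra.even Q := ⟨y0, h0⟩
        let X : Zc := ⟨x, mem_center_iff_forall_ι.2 hxc⟩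
        have hx1 : x * y1 ∈ evenOdd Q 0 := by
          have := SetLike.mul_mem_graded hxo h1
          rwa [show (1 : ZMod 2) + 1 = 0 from rfl] at this
        let Y1 : CliffordAlgebra.even Q := ⟨x * y1, hx1⟩
        refine ⟨μ • ((1 : Zc) ⊗ₜ[R] Y0) + X ⊗ₜ[R] Y1, ?_⟩
        rw [map_add, map_smul, hΦ, hΦ, LinearMap.toSpanSingleton_apply, smul_add]
        show μ • ((1 : CliffordAlgebra Q) * y0) + x * (x * y1) = _
        rw [one_mul, ← mul_assoc, hμ2, ← Algebra.smul_def]
    obtain ⟨ξ, hξ⟩ : (1 : R) ∈ Submodule.comap (LinearMap.toSpanSingleton R _ y) (LinearMap.range Φ) :=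
      htop ▸ Submodule.mem_top
    exact ⟨ξ, hξ.trans (by rw [LinearMap.toSpanSingleton_apply, one_smul])⟩

omit [Module.Finite R M] in
theorem range_ι_compl : ∃ W : Submodule R (CliffordAlgebra Q), IsCompl (LinearMap.range (ι Q)) W := by
  let p : CliffordAlgebra Q →ₗ[R] M := (ExteriorAlgebra.ιInv (R := R) (M := M)).comp (toExt Q).toLinearMap
  refine ⟨LinearMap.ker p, ?_⟩
  have hp : p.comp (ι Q) = LinearMap.id := LinearMap.ext fun v => by
    show ExteriorAlgebra.ιInv (toExt Q (ι Q v)) = v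
    rw [toExt_ι]
    exact ExteriorAlgebra.ι_leftInverse v
  refine ⟨Submodule.disjoint_def.2 ?_, codisjoint_iff.2 (Submodule.eq_top_iff'.2 fun x => ?_)⟩
  · rintro _ ⟨v, rfl⟩ hv
    have h := LinearMap.congr_fun hp v
    rw [LinearMap.comp_apply, LinearMap.mem_ker.1 hv, LinearMap.id_apply] at h
    rw [← h, map_zero]
  · refine Submodule.mem_sup.2 ⟨ι Q (p x), ⟨p x, rfl⟩, x - ι Q (p x), ?_, by abel⟩
    rw [LinearMap.mem_ker, map_sub, ← LinearMap.comp_apply, hp, LinearMap.id_apply, sub_self]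

end Global

end Groth.L15.QG
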