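import Groth.Agent.L15.QG.Split
import Groth.Agent.L15.QG.Odd2
import Mathlib.LinearAlgebra.Matrix.Reindex
import Mathlib.LinearAlgebra.Dimension.StrongRankCondition
import Mathlib.LinearAlgebra.TensorProduct.Pi

/-! The even Clifford algebra of an odd semiregular form is fppf-locally a matrix algebra. -/

set_option autoImplicit false

namespace Groth.L15.QG

open TensorProduct CliffordAlgebra

universe u v w

theorem exists_clifford_matrices (A : Type u) [CommRing A] : ∀ m : ℕ,
    ∃ (I : Type) (_ : Fintype I) (_ : DecidableEq I), Fintype.card I = 2 ^ m ∧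
      ∃ f : (Fin (2 * m + 1) → A) →ₗ[A] Matrix I I A,
        (∀ v, f v * f v = algebraMap A _ (QuadGrp.splitForm A (2 * m + 1) v)) ∧
        Algebra.adjoin A (Set.range fun p : (Fin (2 * m + 1) → A) × (Fin (2 * m + 1) → A) => f p.1 * f p.2) = ⊤
  | 0 => by
    refine ⟨Unit, inferInstance, inferInstance, rfl,
      (Algebra.linearMap A (Matrix Unit Unit A)).comp (LinearMap.proj 0), fun v => ?_, ?_⟩
    · rw [splitForm_odd_apply A 0 v]
      simp [map_mul]
    · refine Algebra.eq_top_iff.2 fun x => ?_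
      have : x = algebraMap A _ (x () ()) := by
        ext i j
        simp [Matrix.algebraMap_matrix_apply]
      rw [this]
      exact Subalgebra.algebraMap_mem _ _
  | m + 1 => by
    obtain ⟨I, _, _, hI, f, hf, hgen⟩ := exists_clifford_matrices A m
    let pr : (Fin (2 * (m + 1) + 1) → A) →ₗ[A] (Fin (2 * m + 1) → A) :=
      LinearMap.funLeft A A (Fin.castLE (by omega))
    let p1 : Fin (2 * (m + 1) + 1) := ⟨2 * m + 1, by omega⟩
    let p2 : Fin (2 * (m + 1) + 1) := ⟨2 * m + 2, by omega⟩
    let g : (Fin (2 * (m + 1) + 1) → A) →ₗ[A] Matrix (I ⊕ I) (I ⊕ I) A :=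
      { toFun := fun v => Matrix.fromBlocks (f (pr v)) (v p1 • 1) (v p2 • 1) (-f (pr v))
        map_add' := fun v w => by
          simp only [Matrix.fromBlocks_add, map_add, Pi.add_apply, add_smul, neg_add]
        map_smul' := fun c v => by
          simp only [Matrix.fromBlocks_smul, map_smul, Pi.smul_apply, smul_eq_mul, smul_neg, mul_smul, RingHom.id_apply] }
    refine ⟨I ⊕ I, inferInstance, inferInstance, by rw [Fintype.card_sum, hI, pow_succ, mul_two], g, fun v => ?_, ?_⟩
    · have hq : QuadGrp.splitForm A (2 * (m + 1) + 1) v = QuadGrp.splitForm A (2 * m + 1) (pr v) + v p1 * v p2 := by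
        rw [splitForm_odd_apply, splitForm_odd_apply, Fin.sum_univ_castSucc, add_assoc]
        rfl
      simp only [g, LinearMap.coe_mk, AddHom.coe_mk, Matrix.fromBlocks_multiply]
      have hs : f (pr v) * f (pr v) = QuadGrp.splitForm A (2 * m + 1) (pr v) • (1 : Matrix I I A) := by
        rw [hf, Algebra.algebraMap_eq_smul_one]
      rw [hq, Algebra.algebraMap_eq_smul_one, ← Matrix.fromBlocks_one, Matrix.fromBlocks_smul]
      simp only [smul_zero, neg_mul_neg, mul_neg, neg_mul, smul_mul_assoc, mul_smul_comm, one_mul, mul_one, smul_smul, hs,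
        ← add_smul, add_neg_cancel, mul_comm (v p2) (v p1)]
      rw [neg_neg, ← smul_add, add_neg_cancel, smul_zero, ← add_smul, add_comm (v p1 * v p2)]
    · set S := Algebra.adjoin A (Set.range fun p : (Fin (2 * (m + 1) + 1) → A) × (Fin (2 * (m + 1) + 1) → A) => g p.1 * g p.2) with hS
      have hmem : ∀ v w, g v * g w ∈ S := fun v w => Algebra.subset_adjoin ⟨(v, w), rfl⟩
      let lift0 : (Fin (2 * m + 1) → A) → (Fin (2 * (m + 1) + 1) → A) := fun v k =>
        if h : (k : ℕ) < 2 * m + 1 then v ⟨k, h⟩ else 0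
      have hg0 : ∀ v, g (lift0 v) = Matrix.fromBlocks (f v) 0 0 (-f v) := fun v => by
        have h1 : pr (lift0 v) = v := funext fun k => by
          have := k.isLt
          simp [pr, lift0, LinearMap.funLeft_apply]; omega
        have h2 : lift0 v p1 = 0 := dif_neg (lt_irrefl _)
        have h3 : lift0 v p2 = 0 := dif_neg (by simp [p2])
        simp [g, h1, h2, h3]
      have hg1 : g (Pi.single p1 1) = Matrix.fromBlocks 0 1 0 0 := by
        have h1 : pr (Pi.single p1 1) = 0 := funext fun k => by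
          simp [pr, LinearMap.funLeft_apply, p1, Pi.single_apply, Fin.ext_iff]; omega
        simp [g, h1, show p2 ≠ p1 by simp [p1, p2, Fin.ext_iff]]
      have hg2 : g (Pi.single p2 1) = Matrix.fromBlocks 0 0 1 0 := by
        have h1 : pr (Pi.single p2 1) = 0 := funext fun k => by
          simp [pr, LinearMap.funLeft_apply, p2, Pi.single_apply, Fin.ext_iff]; omega
        simp [g, h1, show p1 ≠ p2 by simp [p1, p2, Fin.ext_iff]]
      have h11 : Matrix.fromBlocks (1 : Matrix I I A) 0 0 0 ∈ S := by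
        have := hmem (Pi.single p1 1) (Pi.single p2 1)
        simpa [hg1, hg2, Matrix.fromBlocks_multiply] using this
      have h22 : Matrix.fromBlocks (0 : Matrix I I A) 0 0 1 ∈ S := by
        have := hmem (Pi.single p2 1) (Pi.single p1 1)
        simpa [hg1, hg2, Matrix.fromBlocks_multiply] using this
      have hdiag : ∀ Y : Matrix I I A, Matrix.fromBlocks Y 0 0 Y ∈ S := fun Y => by
        have hY : Y ∈ Algebra.adjoin A (Set.range fun p : (Fin (2 * m + 1) → A) × (Fin (2 * m + 1) → A) => f p.1 * f p.2) :=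
          hgen ▸ Algebra.mem_top
        induction hY using Algebra.adjoin_induction with
        | mem x hx =>
          obtain ⟨⟨v, w⟩, rfl⟩ := hx
          have := hmem (lift0 v) (lift0 w)
          simpa [hg0, Matrix.fromBlocks_multiply] using this
        | algebraMap r =>
          have := Subalgebra.algebraMap_mem S r
          rwa [Algebra.algebraMap_eq_smul_one, ← Matrix.fromBlocks_one, Matrix.fromBlocks_smul, smul_zero,
            ← Algebra.algebraMap_eq_smul_one] at this
        | add x y _ _ hx hy => simpa [Matrix.fromBlocks_add] using Subalgebra.add_mem S hx hy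
        | mul x y _ _ hx hy => simpa [Matrix.fromBlocks_multiply] using Subalgebra.mul_mem S hx hy
      let e0 : Fin (2 * m + 1) → A := Pi.single 0 1
      have hu : f e0 * f e0 = 1 := by
        rw [hf, splitForm_odd_apply A m, Finset.sum_eq_zero (fun i _ => by simp [e0, Fin.ext_iff])]
        simp [e0]
      have h12 : ∀ Y : Matrix I I A, Matrix.fromBlocks 0 Y 0 0 ∈ S := fun Y => by
        have := Subalgebra.mul_mem S (hdiag (Y * f e0)) (hmem (lift0 e0) (Pi.single p1 1))
        simpa [hg0, hg1, Matrix.fromBlocks_multiply, mul_assoc, hu] using this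
      have h21 : ∀ Y : Matrix I I A, Matrix.fromBlocks 0 0 Y 0 ∈ S := fun Y => by
        have := Subalgebra.mul_mem S (hdiag (Y * f e0)) (hmem (Pi.single p2 1) (lift0 e0))
        simpa [hg0, hg2, Matrix.fromBlocks_multiply, mul_assoc, hu] using this
      refine Algebra.eq_top_iff.2 fun X => ?_
      have hX : X = Matrix.fromBlocks X.toBlocks₁₁ 0 0 X.toBlocks₁₁ * Matrix.fromBlocks 1 0 0 0 +
          Matrix.fromBlocks 0 X.toBlocks₁₂ 0 0 + Matrix.fromBlocks 0 0 X.toBlocks₂₁ 0 +
          Matrix.fromBlocks X.toBlocks₂₂ 0 0 X.toBlocks₂₂ * Matrix.fromBlocks 0 0 0 1 := by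
        simp [Matrix.fromBlocks_multiply, Matrix.fromBlocks_add, Matrix.fromBlocks_toBlocks]
      rw [hX]
      exact Subalgebra.add_mem S (Subalgebra.add_mem S (Subalgebra.add_mem S (Subalgebra.mul_mem S (hdiag _) h11)
        (h12 _)) (h21 _)) (Subalgebra.mul_mem S (hdiag _) h22)

variable {A : Type u} [CommRing A] {N : Type v} [AddCommGroup N] [Module A N]

theorem nonempty_even_algEquiv_matrix (m : ℕ) (Q' : QuadraticForm A N) (e : N ≃ₗ[A] (Fin (2 * m + 1) → A))
    (he : ∀ x, Q' x = QuadGrp.splitForm A (2 * m + 1) (e x)) :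
    Nonempty (↥(CliffordAlgebra.even Q') ≃ₐ[A] Matrix (Fin (2 ^ m)) (Fin (2 ^ m)) A) := by
  classical
  obtain ⟨I, _, _, hI, f, hf, hgen⟩ := exists_clifford_matrices A m
  rcases subsingleton_or_nontrivial A with hA | hA
  · haveI := Module.subsingleton A (CliffordAlgebra.even Q')
    exact ⟨AlgEquiv.ofBijective (default : _ →ₐ[A] _) ⟨fun a b _ => Subsingleton.elim a b, fun b => ⟨0, Subsingleton.elim _ _⟩⟩⟩
  let b : Module.Basis (Fin (2 * m + 1)) A N := Module.Basis.ofEquivFun e
  haveI := Module.Free.of_basis b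
  haveI := Module.Finite.of_basis b
  let ψ : CliffordAlgebra Q' →ₐ[A] Matrix I I A :=
    CliffordAlgebra.lift Q' ⟨f.comp e.toLinearMap, fun x => by rw [he]; exact hf (e x)⟩
  have hψ : ∀ x, ψ (ι Q' x) = f (e x) := fun x => CliffordAlgebra.lift_ι_apply _ _ x
  let φ : ↥(CliffordAlgebra.even Q') →ₐ[A] Matrix I I A := ψ.comp (CliffordAlgebra.even Q').val
  have hsurj : Function.Surjective φ := by
    rw [← AlgHom.range_eq_top, eq_top_iff, ← hgen, Algebra.adjoin_le_iff]
    rintro _ ⟨⟨v, w⟩, rfl⟩
    refine ⟨⟨ι Q' (e.symm v) * ι Q' (e.symm w), ι_mul_ι_mem_evenOdd_zero _ _ _⟩, ?_⟩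
    show ψ (ι Q' (e.symm v) * ι Q' (e.symm w)) = f v * f w
    rw [map_mul, hψ, hψ, LinearEquiv.apply_symm_apply, LinearEquiv.apply_symm_apply]
  -- rank count
  let x0 := e.symm (Pi.single 0 1)
  have hx0 : ι Q' x0 * ι Q' x0 = 1 := by
    rw [ι_sq_scalar, he, LinearEquiv.apply_symm_apply, splitForm_odd_apply,
      Finset.sum_eq_zero (fun i _ => by simp [Fin.ext_iff])]
    simp
  let E := ↥(CliffordAlgebra.even Q')
  let Ψ : E × E →ₗ[A] CliffordAlgebra Q' :=
    LinearMap.coprod (CliffordAlgebra.even Q').val.toLinearMap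
      ((LinearMap.mulLeft A (ι Q' x0)).comp (CliffordAlgebra.even Q').val.toLinearMap)
  have hΨ : ∀ a c : E, Ψ (a, c) = (a : CliffordAlgebra Q') + ι Q' x0 * (c : CliffordAlgebra Q') := fun a c => rfl
  have hodd : ∀ c : E, ι Q' x0 * (c : CliffordAlgebra Q') ∈ evenOdd Q' 1 := fun c => by
    have := SetLike.mul_mem_graded (ι_mem_evenOdd_one Q' x0) (show (c : CliffordAlgebra Q') ∈ evenOdd Q' 0 from c.2)
    rwa [add_zero] at this
  have hΨb : Function.Bijective Ψ := by
    constructor
    · rw [injective_iff_map_eq_zero]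
      rintro ⟨a, c⟩ h
      rw [hΨ] at h
      have h' := parts_unique Q' (show (a : CliffordAlgebra Q') ∈ evenOdd Q' 0 from a.2) (Submodule.zero_mem _) (hodd c)
        (Submodule.zero_mem _) (h.trans (add_zero _).symm)
      have hc : (c : CliffordAlgebra Q') = 0 := by
        rw [← one_mul (c : CliffordAlgebra Q'), ← hx0, mul_assoc, h'.2, mul_zero]
      exact Prod.ext (Subtype.ext h'.1) (Subtype.ext hc)
    · intro y
      obtain ⟨y0, h0, y1, h1, rfl⟩ := exists_even_odd Q' y
      have h2 : ι Q' x0 * y1 ∈ evenOdd Q' 0 := by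
        have := SetLike.mul_mem_graded (ι_mem_evenOdd_one Q' x0) h1
        rwa [show (1 : ZMod 2) + 1 = 0 from rfl] at this
      refine ⟨(⟨y0, h0⟩, ⟨_, h2⟩), ?_⟩
      rw [hΨ]
      show y0 + ι Q' x0 * (ι Q' x0 * y1) = _
      rw [← mul_assoc, hx0, one_mul]
  let L : CliffordAlgebra Q' →ₗ[A] Matrix I I A × Matrix I I A :=
    (LinearMap.prodMap φ.toLinearMap φ.toLinearMap).comp (LinearEquiv.ofBijective Ψ hΨb).symm.toLinearMap
  have hL : Function.Surjective L :=
    (Function.Surjective.prodMap hsurj hsurj).comp (LinearEquiv.ofBijective Ψ hΨb).symm.surjective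
  obtain ⟨_, _⟩ := free_clifford Q'
  have hrank : Module.finrank A (CliffordAlgebra Q') = Module.finrank A (Matrix I I A × Matrix I I A) := by
    rw [finrank_clifford Q' b, Fintype.card_fin, Module.finrank_prod, Module.finrank_matrix, Module.finrank_self, hI]
    ring
  have hLi : Function.Injective L := by
    let T := LinearEquiv.ofFinrankEq (Matrix I I A × Matrix I I A) (CliffordAlgebra Q') hrank.symm
    have h := OrzechProperty.injective_of_surjective_endomorphism (T.toLinearMap.comp L) (T.surjective.comp hL)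
    exact fun a c hac => h (by simp [hac])
  have hinj : Function.Injective φ := fun a c hac => by
    have hLe : ∀ p, L (Ψ p) = (φ p.1, φ p.2) := fun p => by
      show Prod.map φ φ ((LinearEquiv.ofBijective Ψ hΨb).symm (Ψ p)) = _
      rw [show (LinearEquiv.ofBijective Ψ hΨb).symm (Ψ p) = p from
        (LinearEquiv.ofBijective Ψ hΨb).symm_apply_apply p]
      rfl
    exact congrArg Prod.fst (hΨb.1 (hLi (show L (Ψ (a, 0)) = L (Ψ (c, 0)) by rw [hLe, hLe, hac])))
  exact ⟨(AlgEquiv.ofBijective φ ⟨hinj, hsurj⟩).trans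
    (Matrix.reindexAlgEquiv A A (Fintype.equivFinOfCardEq hI))⟩

section BaseChangeEven

variable {R : Type u} [CommRing R] {M : Type v} [AddCommGroup M] [Module R M] [Module.Free R M]

theorem nonempty_even_baseChange (A : Type u) [CommRing A] [Algebra R A] [Module.Flat R A] (Q : QuadraticForm R M) :
    Nonempty (A ⊗[R] ↥(CliffordAlgebra.even Q) ≃ₐ[A] ↥(CliffordAlgebra.even (QuadGrp.baseChangeForm A Q))) := by
  let QA := QuadGrp.baseChangeForm A Q
  let Φ : A ⊗[R] ↥(CliffordAlgebra.even Q) →ₐ[A] CliffordAlgebra QA :=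
    (baseChangeEquiv A Q).toAlgHom.comp (Algebra.TensorProduct.map (AlgHom.id A A) (CliffordAlgebra.even Q).val)
  have hΦ : ∀ (a : A) (x : CliffordAlgebra.even Q), Φ (a ⊗ₜ x) = a • toC A Q x := fun a x =>
    baseChangeEquiv_tmul A Q a x
  have hmem : ∀ η, Φ η ∈ evenOdd QA 0 := fun η => by
    induction η using TensorProduct.induction_on with
    | zero => simp
    | tmul a x => rw [hΦ]; exact Submodule.smul_mem _ _ (toC_mem_evenOdd A Q x.2)
    | add a c ha hc => rw [map_add]; exact Submodule.add_mem _ ha hc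
  have hinj : Function.Injective Φ := by
    refine (baseChangeEquiv A Q).injective.comp ?_
    exact Module.Flat.lTensor_preserves_injective_linearMap (M := A) (CliffordAlgebra.even Q).val.toLinearMap
      Subtype.val_injective
  have hdec : ∀ ξ, ∃ η, ∃ c ∈ evenOdd QA 1, baseChangeEquiv A Q ξ = Φ η + c := fun ξ => by
    induction ξ using TensorProduct.induction_on with
    | zero => exact ⟨0, 0, Submodule.zero_mem _, by simp⟩
    | tmul a x =>
      obtain ⟨x0, h0, x1, h1, rfl⟩ := exists_even_odd Q x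
      refine ⟨a ⊗ₜ ⟨x0, h0⟩, a • toC A Q x1, Submodule.smul_mem _ _ (toC_mem_evenOdd A Q h1), ?_⟩
      rw [hΦ, baseChangeEquiv_tmul, map_add, smul_add]
    | add x y hx hy =>
      obtain ⟨η, c, hc, hx⟩ := hx
      obtain ⟨η', c', hc', hy⟩ := hy
      exact ⟨η + η', c + c', Submodule.add_mem _ hc hc', by rw [map_add, map_add, hx, hy]; abel⟩
  let Ψ : A ⊗[R] ↥(CliffordAlgebra.even Q) →ₐ[A] ↥(CliffordAlgebra.even QA) := Φ.codRestrict _ hmem
  refine ⟨AlgEquiv.ofBijective Ψ ⟨fun a c h => hinj (congrArg Subtype.val h), fun y => ?_⟩⟩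
  obtain ⟨η, c, hc, h⟩ := hdec ((baseChangeEquiv A Q).symm y)
  rw [AlgEquiv.apply_symm_apply] at h
  exact ⟨η, Subtype.ext (parts_unique QA (hmem η) y.2 hc (Submodule.zero_mem _) (by rw [← h, add_zero])).1⟩

theorem exists_fppf_even_matrix [Module.Finite R M] {m : ℕ} {Q : QuadraticForm R M}
    (b : Module.Basis (Fin (2 * m + 1)) R M) (hQ : QuadGrp.IsSemiregular b (LinearEquiv.refl R R) Q) :
    ∃ (A : Type u) (_ : CommRing A) (_ : Algebra R A), Module.FaithfullyFlat R A ∧ Algebra.FinitePresentation R A ∧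
      Nonempty (A ⊗[R] ↥(CliffordAlgebra.even Q) ≃ₐ[A] Matrix (Fin (2 ^ m)) (Fin (2 ^ m)) A) := by
  obtain ⟨A, _, _, hff, hfp, W, hW⟩ := exists_fppf_split b hQ
  obtain ⟨g⟩ := nonempty_isometryEquiv_of_isIsoMat b hW
  obtain ⟨e1⟩ := nonempty_even_baseChange A Q
  let p := TensorProduct.piScalarRight R A A (Fin (2 * m + 1))
  have hp : ∀ y, QuadGrp.splitForm A (2 * m + 1) (p y) = QuadGrp.baseChangeForm A (QuadGrp.splitForm R (2 * m + 1)) y := by
    have h : (QuadGrp.splitForm A (2 * m + 1)).comp p.toLinearMap =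
        QuadGrp.baseChangeForm A (QuadGrp.splitForm R (2 * m + 1)) := by
      refine _root_.baseChange_ext fun v => ?_
      rw [QuadraticMap.comp_apply, baseChangeForm_tmul]
      simp [p, splitForm_odd_apply, Algebra.smul_def, map_sum]
    exact fun y => congrArg (fun q : QuadraticForm A _ => q y) h
  obtain ⟨e2⟩ := nonempty_even_algEquiv_matrix m (QuadGrp.baseChangeForm A Q) (g.toLinearEquiv.symm.trans p) fun x => by
    rw [LinearEquiv.trans_apply, hp]
    exact ((g.map_app (g.toLinearEquiv.symm x)).symm.trans (congrArg _ (g.toLinearEquiv.apply_symm_apply x))).symm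
  exact ⟨A, inferInstance, inferInstance, hff, hfp, ⟨e1.trans e2⟩⟩

end BaseChangeEven

end Groth.L15.QG
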