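import Groth.Agent.L15.QG.SplitEvenFppf
import Groth.Agent.L15.QG.MatSplit
import Groth.Agent.L15.QG.Even

/-! The Clifford algebra and its even part for an even regular form. -/

set_option autoImplicit false

namespace Groth.L15.QG

open TensorProduct CliffordAlgebra

universe u v

/-- Matrices of the split even form together with the parity idempotent. -/
structure EvenRep (A : Type u) [CommRing A] (m : ℕ) (I : Type) [Fintype I] [DecidableEq I] where
  f : (Fin (m * 2) → A) →ₗ[A] Matrix I I A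
  E : Matrix I I A
  idem : E * E = E
  anti : ∀ v, f v * E = (1 - E) * f v
  sq : ∀ v, f v * f v = algebraMap A _ (QuadGrp.splitForm A (m * 2) v)
  gen : Algebra.adjoin A (Set.range f) = ⊤
  even : E ∈ Algebra.adjoin A (Set.range fun p : (Fin (m * 2) → A) × (Fin (m * 2) → A) => (f p.1 * f p.2 : Matrix I I A))

section Step

variable {A : Type u} [CommRing A]

theorem splitForm_even_succ (m : ℕ) (v : Fin ((m + 1) * 2) → A) :
    QuadGrp.splitForm A ((m + 1) * 2) v = QuadGrp.splitForm A (m * 2) (LinearMap.funLeft A A (Fin.castLE (by omega)) v) +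
      v ⟨m * 2, by omega⟩ * v ⟨m * 2 + 1, by omega⟩ := by
  rw [splitForm_even_apply, splitForm_even_apply, Fin.sum_univ_castSucc]
  congr 1
  congr 2 <;> · refine Fin.ext ?_; simp [finProdFinEquiv]; try omega

theorem exists_evenRep_step {m : ℕ} {I : Type} [Fintype I] [DecidableEq I] (r : EvenRep A m I) :
    ∃ r' : EvenRep A (m + 1) (I ⊕ I), r'.E = Matrix.fromBlocks 1 0 0 0 := by
  obtain ⟨f, E, hE, hf, hsq, hgen, heven⟩ := r
  let a : Fin ((m + 1) * 2) := ⟨m * 2, by omega⟩
  let b : Fin ((m + 1) * 2) := ⟨m * 2 + 1, by omega⟩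
  let pr : (Fin ((m + 1) * 2) → A) →ₗ[A] (Fin (m * 2) → A) := LinearMap.funLeft A A (Fin.castLE (by omega))
  let g : (Fin ((m + 1) * 2) → A) →ₗ[A] Matrix (I ⊕ I) (I ⊕ I) A :=
    { toFun := fun v => Matrix.fromBlocks 0 (f (pr v) + v a • E - v b • (1 - E))
        (f (pr v) + v b • E - v a • (1 - E)) 0
      map_add' := fun v w => by
        rw [Matrix.fromBlocks_add]
        congr 1 <;> simp only [map_add, Pi.add_apply, add_smul, add_zero] <;> abel
      map_smul' := fun c v => by
        rw [RingHom.id_apply, Matrix.fromBlocks_smul]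
        congr 1 <;> simp only [map_smul, Pi.smul_apply, smul_eq_mul, mul_smul, smul_add, smul_sub, smul_zero] }
  have hEF : ∀ v, E * f v = f v * (1 - E) := fun v => by
    rw [mul_sub, mul_one, hf, sub_mul, one_mul]; abel
  have hE1 : E * (1 - E) = 0 := by rw [mul_sub, mul_one, hE, sub_self]
  have hE2 : (1 - E) * E = 0 := by rw [sub_mul, one_mul, hE, sub_self]
  have hE3 : (1 - E) * (1 - E) = 1 - E := by rw [mul_sub, mul_one, hE2, sub_zero]
  have hE4 : (E - 1) * (E - 1) = 1 - E := by rw [← hE3]; noncomm_ring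
  have hbsub : ∀ p q r s p' q' r' s' : Matrix I I A, Matrix.fromBlocks p q r s - Matrix.fromBlocks p' q' r' s' =
      Matrix.fromBlocks (p - p') (q - q') (r - r') (s - s') := fun _ _ _ _ _ _ _ _ => by
    rw [sub_eq_add_neg, Matrix.fromBlocks_neg, Matrix.fromBlocks_add]
    simp only [← sub_eq_add_neg]
  have key : ∀ (w : Fin (m * 2) → A) (x y : A),
      (f w + x • E - y • (1 - E)) * (f w + y • E - x • (1 - E)) =
        algebraMap A _ (QuadGrp.splitForm A (m * 2) w + x * y) := by
    intro w x y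
    have hfG : f w * (1 - E) = E * f w := (hEF w).symm
    have hEG : E + (1 - E) = 1 := add_sub_cancel E 1
    have hfE := hf w
    have hq := hsq w
    revert hfE hfG hEG hE1 hE2 hE3
    generalize (1 - E) = G
    intro h1 h2 h3 hfG hEG hfE
    simp only [add_mul, mul_add, sub_mul, mul_sub, smul_mul_assoc, mul_smul_comm, hq, hfE, hfG, hE, h1, h2, h3,
      smul_zero, smul_add, smul_sub, smul_smul, map_add]
    rw [Algebra.algebraMap_eq_smul_one (x * y), ← hEG, smul_add, mul_comm y x]
    abel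
  have hgv : ∀ v, g v = Matrix.fromBlocks 0 (f (pr v) + v a • E - v b • (1 - E))
      (f (pr v) + v b • E - v a • (1 - E)) 0 := fun v => rfl
  have hgsq : ∀ v, g v * g v = algebraMap A _ (QuadGrp.splitForm A ((m + 1) * 2) v) := by
    intro v
    rw [hgv, Matrix.fromBlocks_multiply]
    simp only [mul_zero, zero_mul, add_zero, zero_add]
    rw [key, key, mul_comm (v b) (v a), ← splitForm_even_succ, Algebra.algebraMap_eq_smul_one, Algebra.algebraMap_eq_smul_one,
      ← Matrix.fromBlocks_one, Matrix.fromBlocks_smul, smul_zero]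
  -- special values
  let lift0 : (Fin (m * 2) → A) → (Fin ((m + 1) * 2) → A) := fun w k =>
    if h : (k : ℕ) < m * 2 then w ⟨k, h⟩ else 0
  have hg0 : ∀ w, g (lift0 w) = Matrix.fromBlocks 0 (f w) (f w) 0 := fun w => by
    have h1 : pr (lift0 w) = w := funext fun k => by
      have := k.isLt
      simp [pr, lift0, LinearMap.funLeft_apply]
    have h2 : lift0 w a = 0 := dif_neg (lt_irrefl _)
    have h3 : lift0 w b = 0 := dif_neg (by simp [b])
    simp [hgv, h1, h2, h3]
  have hga : g (Pi.single a 1) = Matrix.fromBlocks 0 E (-(1 - E)) 0 := by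
    have h1 : pr (Pi.single a 1) = 0 := funext fun k => by
      have := k.isLt
      simp [pr, LinearMap.funLeft_apply, a, Pi.single_apply, Fin.ext_iff]; omega
    simp [hgv, h1, show b ≠ a by simp [a, b, Fin.ext_iff]]
  have hgb : g (Pi.single b 1) = Matrix.fromBlocks 0 (-(1 - E)) E 0 := by
    have h1 : pr (Pi.single b 1) = 0 := funext fun k => by
      have := k.isLt
      simp [pr, LinearMap.funLeft_apply, b, Pi.single_apply, Fin.ext_iff]; omega
    simp [hgv, h1, show a ≠ b by simp [a, b, Fin.ext_iff]]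
  set P := Algebra.adjoin A (Set.range fun p : (Fin ((m + 1) * 2) → A) × (Fin ((m + 1) * 2) → A) => g p.1 * g p.2)
  set S := Algebra.adjoin A (Set.range g)
  have hPS : P ≤ S := by
    refine Algebra.adjoin_le ?_
    rintro _ ⟨p, rfl⟩
    exact Subalgebra.mul_mem S (Algebra.subset_adjoin ⟨p.1, rfl⟩) (Algebra.subset_adjoin ⟨p.2, rfl⟩)
  have hmemP : ∀ v w, g v * g w ∈ P := fun v w => Algebra.subset_adjoin ⟨(v, w), rfl⟩
  have hdiagE : Matrix.fromBlocks E 0 0 E ∈ P := by
    suffices H : ∀ X ∈ Algebra.adjoin A (Set.range fun p : (Fin (m * 2) → A) × (Fin (m * 2) → A) =>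
        (f p.1 * f p.2 : Matrix I I A)), Matrix.fromBlocks X 0 0 X ∈ P from H E heven
    intro X hX
    induction hX using Algebra.adjoin_induction with
    | mem x hx =>
      obtain ⟨⟨v, w⟩, rfl⟩ := hx
      have := hmemP (lift0 v) (lift0 w)
      simpa [hg0, Matrix.fromBlocks_multiply] using this
    | algebraMap c =>
      have := Subalgebra.algebraMap_mem P c
      rwa [Algebra.algebraMap_eq_smul_one, ← Matrix.fromBlocks_one, Matrix.fromBlocks_smul, smul_zero,
        ← Algebra.algebraMap_eq_smul_one] at this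
    | add x y _ _ hx hy => simpa [Matrix.fromBlocks_add] using Subalgebra.add_mem P hx hy
    | mul x y _ _ hx hy => simpa [Matrix.fromBlocks_multiply] using Subalgebra.mul_mem P hx hy
  have hD : Matrix.fromBlocks E 0 0 (1 - E) ∈ P := by
    have := hmemP (Pi.single a 1) (Pi.single b 1)
    simpa [hga, hgb, Matrix.fromBlocks_multiply, hE, hE3, hE4] using this
  have hdiagE' : Matrix.fromBlocks (1 - E) 0 0 (1 - E) ∈ P := by
    have := Subalgebra.sub_mem P (Subalgebra.one_mem P) hdiagE
    rwa [← Matrix.fromBlocks_one, hbsub, sub_zero] at this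
  have hD' : Matrix.fromBlocks (1 - E) 0 0 E ∈ P := by
    have := hmemP (Pi.single b 1) (Pi.single a 1)
    simpa [hga, hgb, Matrix.fromBlocks_multiply, hE, hE3, hE4] using this
  have h11 : Matrix.fromBlocks (1 : Matrix I I A) 0 0 0 ∈ P := by
    have := Subalgebra.add_mem P (Subalgebra.mul_mem P hD hdiagE) (Subalgebra.mul_mem P hD' hdiagE')
    simpa [Matrix.fromBlocks_multiply, Matrix.fromBlocks_add, hE, hE1, hE2, hE3] using this
  -- generation
  let δ : Matrix I I A := E - (1 - E)
  have hδ : δ * δ = 1 := by simp only [δ, sub_mul, mul_sub, one_mul, mul_one, hE, sub_self, sub_zero]; abel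
  have hσ : Matrix.fromBlocks 0 δ δ 0 ∈ S := by
    have := Subalgebra.add_mem S (Algebra.subset_adjoin ⟨Pi.single a 1, rfl⟩ : g (Pi.single a 1) ∈ S)
      (Algebra.subset_adjoin ⟨Pi.single b 1, rfl⟩ : g (Pi.single b 1) ∈ S)
    rw [hga, hgb, Matrix.fromBlocks_add] at this
    simpa [δ, sub_eq_add_neg, add_comm, add_left_comm] using this
  have hδd : Matrix.fromBlocks δ 0 0 δ ∈ S := by
    have := Subalgebra.sub_mem S (hPS hdiagE) (hPS hdiagE')
    rwa [hbsub, sub_zero] at this
  have hone : Matrix.fromBlocks 0 (1 : Matrix I I A) 1 0 ∈ S := by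
    have := Subalgebra.mul_mem S hσ hδd
    simpa [Matrix.fromBlocks_multiply, hδ] using this
  have hdiag : ∀ Y : Matrix I I A, Matrix.fromBlocks Y 0 0 Y ∈ S := fun Y => by
    have hY : Y ∈ Algebra.adjoin A (Set.range f) := hgen ▸ Algebra.mem_top
    induction hY using Algebra.adjoin_induction with
    | mem x hx =>
      obtain ⟨v, rfl⟩ := hx
      have := Subalgebra.mul_mem S (Algebra.subset_adjoin ⟨lift0 v, rfl⟩ : g (lift0 v) ∈ S) hone
      simpa [hg0, Matrix.fromBlocks_multiply] using this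
    | algebraMap c =>
      have := Subalgebra.algebraMap_mem S c
      rwa [Algebra.algebraMap_eq_smul_one, ← Matrix.fromBlocks_one, Matrix.fromBlocks_smul, smul_zero,
        ← Algebra.algebraMap_eq_smul_one] at this
    | add x y _ _ hx hy => simpa [Matrix.fromBlocks_add] using Subalgebra.add_mem S hx hy
    | mul x y _ _ hx hy => simpa [Matrix.fromBlocks_multiply] using Subalgebra.mul_mem S hx hy
  have h22 : Matrix.fromBlocks (0 : Matrix I I A) 0 0 1 ∈ S := by
    have := Subalgebra.sub_mem S (Subalgebra.one_mem S) (hPS h11)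
    simpa [← Matrix.fromBlocks_one, hbsub] using this
  refine ⟨⟨g, Matrix.fromBlocks 1 0 0 0, by simp [Matrix.fromBlocks_multiply], fun v => ?_, hgsq,
    Algebra.eq_top_iff.2 fun X => ?_, h11⟩, rfl⟩
  · conv_rhs => rw [← Matrix.fromBlocks_one, hbsub]
    simp [hgv, Matrix.fromBlocks_multiply]
  · have hX : X = Matrix.fromBlocks X.toBlocks₁₁ 0 0 X.toBlocks₁₁ * Matrix.fromBlocks 1 0 0 0 +
        Matrix.fromBlocks X.toBlocks₁₂ 0 0 X.toBlocks₁₂ * Matrix.fromBlocks 1 0 0 0 * Matrix.fromBlocks 0 1 1 0 +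
        Matrix.fromBlocks X.toBlocks₂₁ 0 0 X.toBlocks₂₁ * Matrix.fromBlocks 0 0 0 1 * Matrix.fromBlocks 0 1 1 0 +
        Matrix.fromBlocks X.toBlocks₂₂ 0 0 X.toBlocks₂₂ * Matrix.fromBlocks 0 0 0 1 := by
      simp [Matrix.fromBlocks_multiply, Matrix.fromBlocks_add, Matrix.fromBlocks_toBlocks]
    rw [hX]
    exact Subalgebra.add_mem S (Subalgebra.add_mem S (Subalgebra.add_mem S
      (Subalgebra.mul_mem S (hdiag _) (hPS h11))
      (Subalgebra.mul_mem S (Subalgebra.mul_mem S (hdiag _) (hPS h11)) hone))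
      (Subalgebra.mul_mem S (Subalgebra.mul_mem S (hdiag _) h22) hone))
      (Subalgebra.mul_mem S (hdiag _) h22)

theorem exists_evenRep (A : Type u) [CommRing A] : ∀ m : ℕ,
    ∃ (I : Type) (_ : Fintype I) (_ : DecidableEq I), Fintype.card I = 2 ^ m ∧ Nonempty (EvenRep A m I)
  | 0 => by
    refine ⟨Unit, inferInstance, inferInstance, rfl, ⟨⟨0, 1, one_mul 1, fun v => by simp, fun v => ?_, ?_,
      Subalgebra.one_mem _⟩⟩⟩
    · rw [splitForm_even_apply]
      simp
    · refine Algebra.eq_top_iff.2 fun x => ?_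
      have : x = algebraMap A _ (x () ()) := by
        ext i j
        simp [Matrix.algebraMap_matrix_apply]
      rw [this]
      exact Subalgebra.algebraMap_mem _ _
  | m + 1 => by
    obtain ⟨I, _, _, hI, ⟨r⟩⟩ := exists_evenRep A m
    obtain ⟨r', -⟩ := exists_evenRep_step r
    exact ⟨I ⊕ I, inferInstance, inferInstance, by rw [Fintype.card_sum, hI, pow_succ, mul_two], ⟨r'⟩⟩

end Step

theorem nonempty_split_algEquivs {A : Type u} [CommRing A] {N : Type v} [AddCommGroup N] [Module A N]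
    (m : ℕ) (Q' : QuadraticForm A N) (e : N ≃ₗ[A] (Fin ((m + 1) * 2) → A))
    (he : ∀ x, Q' x = QuadGrp.splitForm A ((m + 1) * 2) (e x)) :
    Nonempty (CliffordAlgebra Q' ≃ₐ[A] Matrix (Fin (2 ^ (m + 1))) (Fin (2 ^ (m + 1))) A) ∧
    Nonempty (↥(CliffordAlgebra.even Q') ≃ₐ[A]
      (Matrix (Fin (2 ^ m)) (Fin (2 ^ m)) A × Matrix (Fin (2 ^ m)) (Fin (2 ^ m)) A)) := by
  classical
  rcases subsingleton_or_nontrivial A with hA | hA
  · haveI := Module.subsingleton A (CliffordAlgebra Q')
    haveI := Module.subsingleton A (CliffordAlgebra.even Q')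
    exact ⟨⟨AlgEquiv.ofBijective (default : _ →ₐ[A] _) ⟨fun a b _ => Subsingleton.elim a b, fun b => ⟨0, Subsingleton.elim _ _⟩⟩⟩,
      ⟨AlgEquiv.ofBijective (default : _ →ₐ[A] _) ⟨fun a b _ => Subsingleton.elim a b, fun b => ⟨0, Subsingleton.elim _ _⟩⟩⟩⟩
  obtain ⟨J, _, _, hJ, ⟨r₀⟩⟩ := exists_evenRep A m
  obtain ⟨r, hrE⟩ := exists_evenRep_step r₀
  let b : Module.Basis (Fin ((m + 1) * 2)) A N := Module.Basis.ofEquivFun e
  haveI := Module.Free.of_basis b
  haveI := Module.Finite.of_basis b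
  let ψ : CliffordAlgebra Q' →ₐ[A] Matrix (J ⊕ J) (J ⊕ J) A :=
    CliffordAlgebra.lift Q' ⟨r.f.comp e.toLinearMap, fun x => by rw [he]; exact r.sq (e x)⟩
  have hψ : ∀ x, ψ (ι Q' x) = r.f (e x) := fun x => CliffordAlgebra.lift_ι_apply _ _ x
  have hsurj : Function.Surjective ψ := by
    rw [← AlgHom.range_eq_top, eq_top_iff, ← r.gen, Algebra.adjoin_le_iff]
    rintro _ ⟨v, rfl⟩
    exact ⟨ι Q' (e.symm v), by show ψ _ = _; rw [hψ, LinearEquiv.apply_symm_apply]⟩
  obtain ⟨_, _⟩ := free_clifford Q'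
  have hrank : Module.finrank A (CliffordAlgebra Q') = Module.finrank A (Matrix (J ⊕ J) (J ⊕ J) A) := by
    rw [finrank_clifford Q' b, Fintype.card_fin, Module.finrank_matrix, Module.finrank_self, Fintype.card_sum, hJ]
    ring
  have hinj : Function.Injective ψ := by
    let T := LinearEquiv.ofFinrankEq (Matrix (J ⊕ J) (J ⊕ J) A) (CliffordAlgebra Q') hrank.symm
    have h := OrzechProperty.injective_of_surjective_endomorphism (T.toLinearMap.comp ψ.toLinearMap)
      (T.surjective.comp hsurj)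
    exact fun a c hac => h (by simp [hac])
  refine ⟨⟨(AlgEquiv.ofBijective ψ ⟨hinj, hsurj⟩).trans
    (Matrix.reindexAlgEquiv A A (Fintype.equivFinOfCardEq (show Fintype.card (J ⊕ J) = 2 ^ (m + 1) by
      rw [Fintype.card_sum, hJ, pow_succ, mul_two])))⟩, ?_⟩
  have hcomm : ∀ x ∈ evenOdd Q' 0, ψ x * r.E = r.E * ψ x := by
    intro x hx
    induction x, hx using CliffordAlgebra.even_induction with
    | algebraMap c => rw [AlgHom.commutes]; exact Algebra.commutes c _
    | add x y _ _ ihx ihy => rw [map_add, add_mul, mul_add, ihx, ihy]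
    | ι_mul_ι_mul m₁ m₂ x _ ih =>
      rw [map_mul, map_mul, hψ, hψ, mul_assoc, ih, ← mul_assoc, mul_assoc (r.f (e m₁)), r.anti, ← mul_assoc, mul_sub,
        mul_one, r.anti]
      noncomm_ring
  have hodd : ∀ x ∈ evenOdd Q' 1, ψ x * r.E = (1 - r.E) * ψ x := by
    intro x hx
    induction x, hx using CliffordAlgebra.odd_induction with
    | ι v => rw [hψ]; exact r.anti _
    | add x y _ _ ihx ihy => rw [map_add, add_mul, mul_add, ihx, ihy]
    | ι_mul_ι_mul m₁ m₂ x _ ih =>
      rw [map_mul, map_mul, hψ, hψ, mul_assoc, ih, ← mul_assoc, mul_sub, mul_one, mul_assoc (r.f (e m₁)) _ r.E,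
        r.anti, ← mul_assoc (r.f (e m₁)), mul_sub, mul_one, r.anti]
      noncomm_ring
  have hblock : ∀ x ∈ evenOdd Q' 0, ψ x = Matrix.fromBlocks (ψ x).toBlocks₁₁ 0 0 (ψ x).toBlocks₂₂ := by
    intro x hx
    have h := hcomm x hx
    rw [hrE, ← Matrix.fromBlocks_toBlocks (ψ x), Matrix.fromBlocks_multiply, Matrix.fromBlocks_multiply,
      Matrix.fromBlocks_inj] at h
    simp only [mul_zero, add_zero, mul_one, zero_mul, one_mul, zero_add] at h
    conv_lhs => rw [← Matrix.fromBlocks_toBlocks (ψ x), ← h.2.1, h.2.2.1]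
  let χ : ↥(CliffordAlgebra.even Q') →ₐ[A] Matrix J J A × Matrix J J A :=
    AlgHom.ofLinearMap
      { toFun := fun x => ((ψ x).toBlocks₁₁, (ψ x).toBlocks₂₂)
        map_add' := fun x y => by simp [Matrix.toBlocks₁₁, Matrix.toBlocks₂₂]; constructor <;> rfl
        map_smul' := fun c x => by simp [Matrix.toBlocks₁₁, Matrix.toBlocks₂₂]; constructor <;> rfl }
      (by
        show ((ψ 1).toBlocks₁₁, (ψ 1).toBlocks₂₂) = 1
        rw [map_one, ← Matrix.fromBlocks_one, Matrix.toBlocks_fromBlocks₁₁, Matrix.toBlocks_fromBlocks₂₂]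
        rfl)
      (fun x y => by
        show ((ψ (x * y : CliffordAlgebra Q')).toBlocks₁₁, (ψ (x * y : CliffordAlgebra Q')).toBlocks₂₂) = _
        rw [map_mul]
        conv_lhs => rw [hblock x x.2, hblock y y.2, Matrix.fromBlocks_multiply, Matrix.toBlocks_fromBlocks₁₁,
          Matrix.toBlocks_fromBlocks₂₂]
        simp)
  have hχ : Function.Bijective χ := by
    constructor
    · intro x y h
      refine Subtype.ext (hinj ?_)
      rw [hblock x x.2, hblock y y.2, show (ψ x).toBlocks₁₁ = (ψ y).toBlocks₁₁ from congrArg Prod.fst h,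
        show (ψ x).toBlocks₂₂ = (ψ y).toBlocks₂₂ from congrArg Prod.snd h]
    · rintro ⟨P₁, P₂⟩
      obtain ⟨x, hx⟩ := hsurj (Matrix.fromBlocks P₁ 0 0 P₂)
      obtain ⟨x0, h0, x1, h1, rfl⟩ := exists_even_odd Q' x
      have hcx : ψ x1 * r.E = r.E * ψ x1 := by
        have : ψ (x0 + x1) * r.E = r.E * ψ (x0 + x1) := by
          rw [hx, hrE]; simp [Matrix.fromBlocks_multiply]
        rw [map_add, add_mul, mul_add, hcomm x0 h0] at this
        exact add_left_cancel this
      have h10 : ψ x1 = 0 := by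
        have h2 : (r.E - (1 - r.E)) * ψ x1 = 0 := by rw [sub_mul, ← hodd x1 h1, hcx, sub_self]
        have hδ : (r.E - (1 - r.E)) * (r.E - (1 - r.E)) = 1 := by
          simp only [sub_mul, mul_sub, r.idem, one_mul, mul_one, sub_self, sub_zero]
          abel
        rw [← one_mul (ψ x1), ← hδ, mul_assoc, h2, mul_zero]
      refine ⟨⟨x0, h0⟩, ?_⟩
      show ((ψ x0).toBlocks₁₁, (ψ x0).toBlocks₂₂) = _
      rw [map_add, h10, add_zero] at hx
      rw [hx, Matrix.toBlocks_fromBlocks₁₁, Matrix.toBlocks_fromBlocks₂₂]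
  let ρ := Matrix.reindexAlgEquiv A A (Fintype.equivFinOfCardEq hJ)
  exact ⟨(AlgEquiv.ofBijective χ hχ).trans (ρ.prodCongr ρ)⟩

section Global

variable {R : Type u} [CommRing R] {M : Type u} [AddCommGroup M] [Module R M] [Module.Free R M] [Module.Finite R M]
  {Q : QuadraticForm R M} {m : ℕ}

theorem exists_fppf_split_algEquivs (b : Module.Basis (Fin ((m + 1) * 2)) R M) (hQ : QuadGrp.IsRegular Q) :
    ∃ (A : Type u) (_ : CommRing A) (_ : Algebra R A), Module.FaithfullyFlat R A ∧ Algebra.FinitePresentation R A ∧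
      Nonempty (A ⊗[R] CliffordAlgebra Q ≃ₐ[A] Matrix (Fin (2 ^ (m + 1))) (Fin (2 ^ (m + 1))) A) ∧
      Nonempty (A ⊗[R] ↥(CliffordAlgebra.even Q) ≃ₐ[A]
        (Matrix (Fin (2 ^ m)) (Fin (2 ^ m)) A × Matrix (Fin (2 ^ m)) (Fin (2 ^ m)) A)) := by
  obtain ⟨A, _, _, hff, hfp, W, hW⟩ := exists_fppf_split_even b hQ
  obtain ⟨g⟩ := nonempty_isometryEquiv_of_isIsoMat b hW
  haveI := hff
  obtain ⟨e1⟩ := nonempty_even_baseChange A Q
  let p := TensorProduct.piScalarRight R A A (Fin ((m + 1) * 2))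
  have hp : ∀ y, QuadGrp.splitForm A ((m + 1) * 2) (p y) = QuadGrp.baseChangeForm A (QuadGrp.splitForm R ((m + 1) * 2)) y := by
    have h : (QuadGrp.splitForm A ((m + 1) * 2)).comp p.toLinearMap =
        QuadGrp.baseChangeForm A (QuadGrp.splitForm R ((m + 1) * 2)) := by
      refine _root_.baseChange_ext fun v => ?_
      rw [QuadraticMap.comp_apply, baseChangeForm_tmul]
      simp [p, splitForm_even_apply, Algebra.smul_def, map_sum]
    exact fun y => congrArg (fun q : QuadraticForm A _ => q y) h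
  obtain ⟨⟨e2⟩, ⟨e3⟩⟩ := nonempty_split_algEquivs m (QuadGrp.baseChangeForm A Q) (g.toLinearEquiv.symm.trans p) fun x => by
    rw [LinearEquiv.trans_apply, hp]
    exact ((g.map_app (g.toLinearEquiv.symm x)).symm.trans (congrArg _ (g.toLinearEquiv.apply_symm_apply x))).symm
  exact ⟨A, inferInstance, inferInstance, hff, hfp, ⟨(baseChangeEquiv A Q).trans e2⟩, ⟨e1.trans e3⟩⟩

/-- An odd element commuting with the Arf element vanishes. -/
theorem IsZed.odd_eq_zero {z : CliffordAlgebra Q} (hz : IsZed Q z) {x : CliffordAlgebra Q} (hx : x ∈ evenOdd Q 1)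
    (h : x * z = z * x) : x = 0 := by
  have key : x * z = (1 - z) * x := by
    clear h
    induction x, hx using CliffordAlgebra.odd_induction with
    | ι v => exact hz.anti v
    | add x y _ _ ihx ihy => rw [add_mul, mul_add, ihx, ihy]
    | ι_mul_ι_mul m₁ m₂ x _ ih =>
      rw [mul_assoc, ih, ← mul_assoc, mul_sub, mul_one, mul_assoc (ι Q m₁), hz.anti, ← mul_assoc (ι Q m₁), mul_sub,
        mul_one, hz.anti]
      noncomm_ring
  refine hz.isUnit_del.mul_right_eq_zero.1 ?_
  calc del z * x = z * x - (1 - z) * x := by simp only [del]; noncomm_ring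
    _ = 0 := by rw [← h, key, sub_self]

theorem center_eq_bot (hm : Module.finrank R M = 2 * (m + 1)) (hQ : QuadGrp.IsRegular Q) :
    Subalgebra.center R (CliffordAlgebra Q) = ⊥ := by
  refine eq_bot_iff.2 fun x hx => ?_
  rw [Subalgebra.mem_center_iff] at hx
  refine Algebra.mem_bot.2 (mem_range_of_forall_localization fun P _ => ?_)
  let S := Localization.AtPrime P
  haveI : Nontrivial R := nontrivial_of_prime P
  let QS := QuadGrp.baseChangeForm S Q
  have hQS : QuadGrp.IsRegular QS := isRegular_baseChange S hQ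
  obtain ⟨z, hz, -⟩ := exists_zed_of_regular (Q := QS)
    (show Module.finrank S (S ⊗[R] M) = 2 * (m + 1) by
      rw [← hm]; exact Module.finrank_baseChange) hQS
  set y := toC S Q x
  have hy : ∀ v, ι QS v * y = y * ι QS v := by
    intro v
    induction v using TensorProduct.induction_on with
    | zero => simp
    | tmul a w =>
      rw [show a ⊗ₜ[R] w = a • ((1 : S) ⊗ₜ[R] w) by rw [TensorProduct.smul_tmul', smul_eq_mul, mul_one], map_smul,
        ← toC_ι, smul_mul_assoc, mul_smul_comm, ← map_mul, hx, map_mul]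
    | add v w hv hw => rw [map_add, add_mul, mul_add, hv, hw]
  obtain ⟨y0, h0, y1, h1, hy01⟩ := exists_even_odd QS y
  have hparts : ∀ v, ι QS v * y0 = y0 * ι QS v ∧ ι QS v * y1 = y1 * ι QS v := by
    intro v
    have h := hy v
    rw [hy01, mul_add, add_mul] at h
    have e0 : ∀ {w}, w ∈ evenOdd QS 0 → ι QS v * w ∈ evenOdd QS 1 ∧ w * ι QS v ∈ evenOdd QS 1 := fun {w} hw => by
      refine ⟨?_, ?_⟩
      · have := SetLike.mul_mem_graded (ι_mem_evenOdd_one QS v) hw; rwa [add_zero] at this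
      · have := SetLike.mul_mem_graded hw (ι_mem_evenOdd_one QS v); rwa [zero_add] at this
    have e1 : ∀ {w}, w ∈ evenOdd QS 1 → ι QS v * w ∈ evenOdd QS 0 ∧ w * ι QS v ∈ evenOdd QS 0 := fun {w} hw => by
      refine ⟨?_, ?_⟩
      · have := SetLike.mul_mem_graded (ι_mem_evenOdd_one QS v) hw; rwa [show (1 : ZMod 2) + 1 = 0 from rfl] at this
      · have := SetLike.mul_mem_graded hw (ι_mem_evenOdd_one QS v); rwa [show (1 : ZMod 2) + 1 = 0 from rfl] at this
    have := parts_unique QS (e1 h1).1 (e1 h1).2 (e0 h0).1 (e0 h0).2 (by rw [add_comm, h, add_comm])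
    exact ⟨this.2, this.1⟩
  have hy1 : y1 = 0 := by
    refine hz.odd_eq_zero h1 ?_
    have : ∀ w ∈ evenOdd QS 0, y1 * w = w * y1 := fun w hw => by
      induction w, hw using CliffordAlgebra.even_induction with
      | algebraMap c => exact (Algebra.commutes c _).symm
      | add a c _ _ iha ihc => rw [mul_add, add_mul, iha, ihc]
      | ι_mul_ι_mul m₁ m₂ a _ ih =>
        rw [← mul_assoc, ← mul_assoc, ← (hparts m₁).2, mul_assoc (ι QS m₁) y1, ← (hparts m₂).2, ← mul_assoc,
          mul_assoc _ y1, ih]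
        simp only [mul_assoc]
    exact this z hz.even
  rw [hy01, hy1, add_zero]
  exact scalar_of_supercommute hQS fun v => by rw [involute_eq_of_mem_even h0]; exact (hparts v).1

theorem centralizer_center_even (hm : Module.finrank R M = 2 * (m + 1)) (hQ : QuadGrp.IsRegular Q) :
    Subalgebra.centralizer R
        ((CliffordAlgebra.even Q).val '' (Subalgebra.center R ↥(CliffordAlgebra.even Q) : Set ↥(CliffordAlgebra.even Q))) =
      CliffordAlgebra.even Q := by
  refine le_antisymm (fun x hx => ?_) (fun x hx => ?_)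
  swap
  · rw [Subalgebra.mem_centralizer_iff]
    rintro _ ⟨c, hc, rfl⟩
    exact (congrArg Subtype.val (Subalgebra.mem_center_iff.1 hc ⟨x, hx⟩)).symm
  rw [Subalgebra.mem_centralizer_iff] at hx
  obtain ⟨x0, h0, x1, h1, rfl⟩ := exists_even_odd Q x
  suffices x1 = 0 by rw [this, add_zero]; exact h0
  refine eq_of_forall_localization fun P _ => ?_
  let S := Localization.AtPrime P
  haveI : Nontrivial R := nontrivial_of_prime P
  let QS := QuadGrp.baseChangeForm S Q
  have hQS : QuadGrp.IsRegular QS := isRegular_baseChange S hQ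
  obtain ⟨z, hz, -⟩ := exists_zed_of_regular (Q := QS)
    (show Module.finrank S (S ⊗[R] M) = 2 * (m + 1) by
      rw [← hm]; exact Module.finrank_baseChange) hQS
  obtain ⟨s, hs, w, hw, hwc, hws⟩ := exists_central_lift (A := S) P.primeCompl hz.even
    (fun y hy => hz.commute_even hy)
  have hW : x1 * w = w * x1 := by
    have := hx w ⟨⟨w, hw⟩, Subalgebra.mem_center_iff.2 fun c => Subtype.ext (hwc c c.2), rfl⟩
    rw [mul_add, add_mul, hwc x0 h0] at this
    exact (add_left_cancel this).symm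
  rw [map_zero]
  refine hz.odd_eq_zero (toC_mem_evenOdd S Q h1) ?_
  have hsu : IsUnit (algebraMap R S s) := IsLocalization.map_units S (⟨s, hs⟩ : P.primeCompl)
  have h := congrArg (toC S Q) hW
  rw [map_mul, map_mul, hws, mul_smul_comm, smul_mul_assoc] at h
  exact hsu.smul_left_cancel.1 h

end Global

end Groth.L15.QG
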