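import Groth.Prelude.Def_QuadGrp
import Groth.Agent.L15.QuadHalf
import Groth.Agent.S17015
import Mathlib.RingTheory.LocalRing.Module
import Mathlib.RingTheory.LocalRing.ResidueField.Basic
import Mathlib.LinearAlgebra.Projection
import Mathlib.LinearAlgebra.Matrix.ToLinearEquiv
import Mathlib.LinearAlgebra.TensorProduct.Basis
import Mathlib.Tactic.LinearCombination
import Mathlib.Tactic.Module

/-! Orthogonal decompositions into regular planes over local rings. -/

set_option autoImplicit false

namespace Groth.L15.QG

open QuadraticMap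
open scoped Matrix

universe u v

variable {R : Type u} [CommRing R] {M : Type v} [AddCommGroup M] [Module R M]

/-- Discriminant of a plane. -/
def planeDisc (Q : QuadraticForm R M) (e f : M) : R :=
  4 * Q e * Q f - polar Q e f * polar Q e f

/-- `m` mutually orthogonal regular planes, each with an anisotropic first vector. -/
structure PFrame (Q : QuadraticForm R M) (m : ℕ) where
  e : Fin m → M
  f : Fin m → M
  unit_e : ∀ i, IsUnit (Q (e i))
  unit_disc : ∀ i, IsUnit (planeDisc Q (e i) (f i))
  orth_ee : ∀ i j, i ≠ j → polar Q (e i) (e j) = 0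
  orth_ef : ∀ i j, i ≠ j → polar Q (e i) (f j) = 0
  orth_ff : ∀ i j, i ≠ j → polar Q (f i) (f j) = 0

variable {Q : QuadraticForm R M} {m : ℕ}

/-- The vectors of a frame. -/
def PFrame.vecs (F : PFrame Q m) : Set M := Set.range F.e ∪ Set.range F.f

/-- The frame spans. -/
def PFrame.IsEven (F : PFrame Q m) : Prop := Submodule.span R F.vecs = ⊤

/-- The frame and an anisotropic orthogonal vector span. -/
structure PFrame.IsOdd (F : PFrame Q m) (r : M) : Prop where
  unit_r : IsUnit (Q r)
  orth_e : ∀ i, polar Q (F.e i) r = 0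
  orth_f : ∀ i, polar Q (F.f i) r = 0
  span : Submodule.span R (insert r F.vecs) = ⊤

theorem eq_zero_of_plane {e f : M} (hd : IsUnit (planeDisc Q e f)) {α β : R}
    (h1 : polar Q e (α • e + β • f) = 0) (h2 : polar Q f (α • e + β • f) = 0) : α = 0 ∧ β = 0 := by
  rw [QuadraticMap.polar_add_right, polar_smul_right, polar_smul_right, QuadraticMap.polar_self, smul_eq_mul,
    smul_eq_mul, nsmul_eq_mul, Nat.cast_ofNat] at h1
  rw [QuadraticMap.polar_add_right, polar_smul_right, polar_smul_right, QuadraticMap.polar_self, smul_eq_mul,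
    smul_eq_mul, nsmul_eq_mul, Nat.cast_ofNat, QuadraticMap.polar_comm Q f e] at h2
  unfold planeDisc at hd
  constructor
  · exact hd.mul_left_eq_zero.1 (by linear_combination (2 * Q f) * h1 - polar Q e f * h2)
  · exact hd.mul_left_eq_zero.1 (by linear_combination (2 * Q e) * h2 - polar Q e f * h1)

section Plane

variable (Q) (e f : M)

/-- The orthogonal of a plane. -/
noncomputable def perp : Submodule R M :=
  LinearMap.ker (polarBilin Q e) ⊓ LinearMap.ker (polarBilin Q f)

theorem mem_perp {x : M} : x ∈ perp Q e f ↔ polar Q e x = 0 ∧ polar Q f x = 0 := Iff.rfl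

variable (hd : IsUnit (planeDisc Q e f))

/-- The first coordinate along a plane. -/
noncomputable def co1 : M →ₗ[R] R :=
  (↑hd.unit⁻¹ : R) • ((2 * Q f) • polarBilin Q e - polar Q e f • polarBilin Q f)

/-- The second coordinate along a plane. -/
noncomputable def co2 : M →ₗ[R] R :=
  (↑hd.unit⁻¹ : R) • ((2 * Q e) • polarBilin Q f - polar Q e f • polarBilin Q e)

theorem co1_apply (x : M) :
    co1 Q e f hd x = (↑hd.unit⁻¹ : R) * (2 * Q f * polar Q e x - polar Q e f * polar Q f x) := rfl

theorem co2_apply (x : M) :
    co2 Q e f hd x = (↑hd.unit⁻¹ : R) * (2 * Q e * polar Q f x - polar Q e f * polar Q e x) := rfl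

theorem sub_co_mem (x : M) : x - co1 Q e f hd x • e - co2 Q e f hd x • f ∈ perp Q e f := by
  have hu : (↑hd.unit⁻¹ : R) * (4 * Q e * Q f - polar Q e f * polar Q e f) = 1 := hd.val_inv_mul
  constructor
  · show polarBilin Q e _ = 0
    rw [map_sub, map_sub, map_smul, map_smul]
    simp only [polarBilin_apply_apply, QuadraticMap.polar_self, smul_eq_mul, nsmul_eq_mul, Nat.cast_ofNat, co1_apply, co2_apply]
    linear_combination (-polar Q e x) * hu
  · show polarBilin Q f _ = 0
    rw [map_sub, map_sub, map_smul, map_smul]
    simp only [polarBilin_apply_apply, QuadraticMap.polar_self, smul_eq_mul, nsmul_eq_mul, Nat.cast_ofNat, co1_apply,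
      co2_apply, QuadraticMap.polar_comm Q f e]
    linear_combination (-polar Q f x) * hu

theorem co_plane (α β : R) :
    co1 Q e f hd (α • e + β • f) = α ∧ co2 Q e f hd (α • e + β • f) = β := by
  have hu : (↑hd.unit⁻¹ : R) * (4 * Q e * Q f - polar Q e f * polar Q e f) = 1 := hd.val_inv_mul
  simp only [co1_apply, co2_apply, QuadraticMap.polar_add_right, polar_smul_right, QuadraticMap.polar_self,
    smul_eq_mul, nsmul_eq_mul, Nat.cast_ofNat, QuadraticMap.polar_comm Q f e]
  constructor
  · linear_combination α * hu
  · linear_combination β * hu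

theorem co_perp {x : M} (hx : x ∈ perp Q e f) : co1 Q e f hd x = 0 ∧ co2 Q e f hd x = 0 := by
  obtain ⟨h1, h2⟩ := (mem_perp Q e f).1 hx
  simp [co1_apply, co2_apply, h1, h2]

/-- `M ≅ R² × perp`. -/
noncomputable def splitPlane : M ≃ₗ[R] (R × R) × perp Q e f where
  toFun x := ((co1 Q e f hd x, co2 Q e f hd x), ⟨_, sub_co_mem Q e f hd x⟩)
  map_add' x y := by
    refine Prod.ext (by simp) (Subtype.ext ?_)
    simp only [map_add, Prod.snd_add, Submodule.coe_add]
    module
  map_smul' c x := by
    refine Prod.ext (by simp) (Subtype.ext ?_)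
    simp only [map_smul, smul_eq_mul, RingHom.id_apply, Prod.smul_snd, SetLike.val_smul, smul_sub, smul_smul]
  invFun p := p.1.1 • e + p.1.2 • f + (p.2 : M)
  left_inv x := by simp only; abel
  right_inv p := by
    obtain ⟨⟨α, β⟩, ⟨n, hn⟩⟩ := p
    obtain ⟨h1, h2⟩ := co_perp Q e f hd hn
    obtain ⟨h3, h4⟩ := co_plane Q e f hd α β
    refine Prod.ext (Prod.ext ?_ ?_) (Subtype.ext ?_)
    · simp only [map_add (co1 Q e f hd), h1, add_zero] at *
      exact h3
    · simp only [map_add (co2 Q e f hd), h2, add_zero] at *
      exact h4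
    · simp only
      rw [map_add (co1 Q e f hd), map_add (co2 Q e f hd), h1, h2, h3, h4]
      module

theorem polar_perp_right {n : M} (hn : n ∈ perp Q e f) (x : M) :
    polar Q n x = polar Q n (x - co1 Q e f hd x • e - co2 Q e f hd x • f) := by
  obtain ⟨h1, h2⟩ := (mem_perp Q e f).1 hn
  simp only [← polarBilin_apply_apply, map_sub, map_smul]
  simp [QuadraticMap.polar_comm Q n e, QuadraticMap.polar_comm Q n f, h1, h2]

include hd in
theorem isRegular_perp (hQ : QuadGrp.IsRegular Q) : QuadGrp.IsRegular (Q.comp (perp Q e f).subtype) := by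
  have hpol : ∀ a c : perp Q e f, polar (Q.comp (perp Q e f).subtype) a c = polar Q (a : M) (c : M) :=
    fun a c => by simp [QuadraticMap.polar]
  refine ⟨fun a c h => ?_, fun φ => ?_⟩
  · refine Subtype.ext (hQ.1 (LinearMap.ext fun x => ?_))
    have hx := LinearMap.congr_fun h ⟨_, sub_co_mem Q e f hd x⟩
    simp only [polarBilin_apply_apply, hpol] at hx
    rw [polarBilin_apply_apply, polarBilin_apply_apply, polar_perp_right Q e f hd a.2,
      polar_perp_right Q e f hd c.2]
    exact hx
  · let p : M →ₗ[R] perp Q e f := (LinearMap.snd R (R × R) (perp Q e f)).comp (splitPlane Q e f hd).toLinearMap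
    obtain ⟨y, hy⟩ := hQ.2 (φ.comp p)
    refine ⟨p y, LinearMap.ext fun n => ?_⟩
    have hpn : p (n : M) = n := by
      refine Subtype.ext ?_
      show (n : M) - _ - _ = _
      rw [(co_perp Q e f hd n.2).1, (co_perp Q e f hd n.2).2]; module
    have := LinearMap.congr_fun hy (n : M)
    rw [LinearMap.comp_apply, hpn, polarBilin_apply_apply] at this
    rw [polarBilin_apply_apply, hpol, QuadraticMap.polar_comm, ← this, QuadraticMap.polar_comm Q y,
      polar_perp_right Q e f hd n.2 y]
    rfl

end Plane

/-- Prepend a plane. -/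
def PFrame.cons {e f : M} {N : Submodule R M} (he : IsUnit (Q e)) (hd : IsUnit (planeDisc Q e f))
    (hN : N ≤ perp Q e f) (F : PFrame (Q.comp N.subtype) m) : PFrame Q (m + 1) where
  e := Fin.cons e fun i => (F.e i : M)
  f := Fin.cons f fun i => (F.f i : M)
  unit_e i := by cases i using Fin.cases with
    | zero => simpa using he
    | succ i => simpa using F.unit_e i
  unit_disc i := by cases i using Fin.cases with
    | zero => simpa using hd
    | succ i => simpa [planeDisc, QuadraticMap.polar] using F.unit_disc i
  orth_ee i j hij := by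
    cases i using Fin.cases with
    | zero => cases j using Fin.cases with
      | zero => exact absurd rfl hij
      | succ j => simpa using (hN (F.e j).2).1
    | succ i => cases j using Fin.cases with
      | zero => rw [QuadraticMap.polar_comm]; simpa using (hN (F.e i).2).1
      | succ j => simpa [QuadraticMap.polar] using F.orth_ee i j (fun h => hij (by rw [h]))
  orth_ef i j hij := by
    cases i using Fin.cases with
    | zero => cases j using Fin.cases with
      | zero => exact absurd rfl hij
      | succ j => simpa using (hN (F.f j).2).1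
    | succ i => cases j using Fin.cases with
      | zero => rw [QuadraticMap.polar_comm]; simpa using (hN (F.e i).2).2
      | succ j => simpa [QuadraticMap.polar] using F.orth_ef i j (fun h => hij (by rw [h]))
  orth_ff i j hij := by
    cases i using Fin.cases with
    | zero => cases j using Fin.cases with
      | zero => exact absurd rfl hij
      | succ j => simpa using (hN (F.f j).2).2
    | succ i => cases j using Fin.cases with
      | zero => rw [QuadraticMap.polar_comm]; simpa using (hN (F.f i).2).2
      | succ j => simpa [QuadraticMap.polar] using F.orth_ff i j (fun h => hij (by rw [h]))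

theorem exists_isUnit_of_regular [Module.Free R M] [IsLocalRing R] (hQ : QuadGrp.IsRegular Q) [Nontrivial M] :
    ∃ x, IsUnit (Q x) := by
  by_contra hc
  push Not at hc
  let b := Module.Free.chooseBasis R M
  have hne : Nonempty (Module.Free.ChooseBasisIndex R M) := b.index_nonempty
  obtain ⟨i⟩ := hne
  obtain ⟨y, hy⟩ := hQ.2 (b.coord i)
  have h1 : polar Q y (b i) = 1 := by
    rw [← polarBilin_apply_apply, hy, Module.Basis.coord_apply, b.repr_self, Finsupp.single_eq_same]
  have : (1 : R) ∈ IsLocalRing.maximalIdeal R := by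
    rw [← h1]
    exact Submodule.sub_mem _ (Submodule.sub_mem _ (hc _) (hc _)) (hc _)
  exact this isUnit_one

theorem mem_max_of_not_isUnit [IsLocalRing R] {a : R} (h : ¬ IsUnit a) : a ∈ IsLocalRing.maximalIdeal R := h

/-- A partner making a regular plane. -/
theorem exists_partner [IsLocalRing R] [Module.Free R M] [Module.Finite R M] (hQ : QuadGrp.IsRegular Q)
    (h2 : 2 ≤ Module.finrank R M) {e : M} (he : IsUnit (Q e)) : ∃ f, IsUnit (planeDisc Q e f) := by
  classical
  let b := Module.Free.chooseBasis R M
  let 𝔪 := IsLocalRing.maximalIdeal R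
  obtain ⟨i, hi⟩ : ∃ i, IsUnit (b.repr e i) := by
    by_contra hc
    push Not at hc
    have hm : ∀ y, polar Q y e ∈ 𝔪 := by
      intro y
      rw [← b.sum_repr e, ← polarBilin_apply_apply, map_sum]
      exact 𝔪.sum_mem fun j _ => by rw [map_smul]; exact 𝔪.mul_mem_right _ (hc j)
    have hQe : Q e ∈ 𝔪 := by
      have h1 : QuadGrp.bilinLift Q e e = Q e := by
        rw [← LinearMap.BilinMap.toQuadraticMap_apply, QuadGrp.bilinLift_spec]
      rw [← h1]
      nth_rewrite 2 [← b.sum_repr e]
      rw [map_sum]
      exact 𝔪.sum_mem fun j _ => by rw [map_smul]; exact 𝔪.mul_mem_right _ (hc j)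
    exact hQe he
  by_cases h2u : IsUnit (2 : R)
  swap
  · obtain ⟨y, hy⟩ := hQ.2 (b.coord i)
    refine ⟨y, ?_⟩
    have hy' : polar Q e y = b.repr e i := by
      rw [QuadraticMap.polar_comm, ← polarBilin_apply_apply, hy]; rfl
    by_contra hd
    have h4 : (4 : R) * Q e * Q y ∈ 𝔪 := by
      rw [show (4 : R) * Q e * Q y = 2 * (2 * Q e * Q y) by ring]
      exact 𝔪.mul_mem_right _ h2u
    have hb : polar Q e y * polar Q e y ∈ 𝔪 := by
      have := 𝔪.sub_mem h4 (mem_max_of_not_isUnit hd)
      rwa [planeDisc, sub_sub_cancel] at this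
    exact hb (hy'.symm ▸ hi.mul hi)
  · obtain ⟨u, hu⟩ : ∃ u : R, u * (2 * Q e) = 1 := ⟨_, (h2u.mul he).val_inv_mul⟩
    let π : M →ₗ[R] M := LinearMap.id - LinearMap.smulRight (u • polarBilin Q e) e
    have hπ : ∀ x, π x = x - (u * polar Q e x) • e := fun x => rfl
    have horth : ∀ x, polar Q e (π x) = 0 := by
      intro x
      rw [hπ, ← polarBilin_apply_apply, map_sub, map_smul, polarBilin_apply_apply, polarBilin_apply_apply,
        QuadraticMap.polar_self, nsmul_eq_mul, Nat.cast_ofNat, smul_eq_mul]
      linear_combination (-polar Q e x) * hu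
    by_contra hc
    push Not at hc
    have hQπ : ∀ x, Q (π x) ∈ 𝔪 := by
      intro x
      by_contra hx
      refine hc (π x) ?_
      rw [planeDisc, horth, mul_zero, sub_zero]
      refine (IsUnit.mul ?_ he).mul (not_not.1 hx)
      rw [show (4 : R) = 2 * 2 by norm_num]; exact h2u.mul h2u
    have hcoord : ∀ x j, b.repr (π x) j ∈ 𝔪 := by
      intro x j
      obtain ⟨y, hy⟩ := hQ.2 (b.coord j)
      have h : b.repr (π x) j = polar Q (π y) (π x) := by
        rw [← Module.Basis.coord_apply, ← hy, polarBilin_apply_apply]
        simp only [hπ y, ← polarBilin_apply_apply, map_sub, map_smul, LinearMap.sub_apply, LinearMap.smul_apply]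
        simp [horth x]
      rw [h, QuadraticMap.polar, ← map_add π]
      exact 𝔪.sub_mem (𝔪.sub_mem (hQπ _) (hQπ _)) (hQπ _)
    have hres : ∀ x j, IsLocalRing.residue R (b.repr x j) =
        IsLocalRing.residue R (u * polar Q e x) * IsLocalRing.residue R (b.repr e j) := by
      intro x j
      rw [← map_mul, ← sub_eq_zero, ← map_sub, IsLocalRing.residue_eq_zero_iff]
      have := hcoord x j
      rwa [hπ, map_sub, map_smul, Finsupp.sub_apply, Finsupp.smul_apply, smul_eq_mul] at this
    haveI : Nontrivial (Module.Free.ChooseBasisIndex R M) := by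
      rw [← Fintype.one_lt_card_iff_nontrivial, ← Module.finrank_eq_card_chooseBasisIndex]; omega
    obtain ⟨j, hji⟩ := exists_ne i
    have h1 := hres (b j) i
    have h2 := hres (b j) j
    rw [b.repr_self, Finsupp.single_eq_of_ne (Ne.symm hji), map_zero] at h1
    rw [b.repr_self, Finsupp.single_eq_same, map_one] at h2
    rcases mul_eq_zero.1 h1.symm with h | h
    · rw [h, zero_mul] at h2; exact one_ne_zero h2
    · exact (IsLocalRing.residue_ne_zero_iff_isUnit _).2 hi h

theorem free_of_prod_equiv [IsLocalRing R] [Module.Free R M] [Module.Finite R M] {N : Type*} [AddCommGroup N]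
    [Module R N] {P : Type*} [AddCommGroup P] [Module R P] [Module.Free R P] [Module.Finite R P]
    (φ : M ≃ₗ[R] P × N) : Module.Free R N ∧ Module.Finite R N ∧
      (Module.Free R N → Module.finrank R M = Module.finrank R P + Module.finrank R N) := by
  have hfin : Module.Finite R N := Module.Finite.of_surjective ((LinearMap.snd R P N).comp φ.toLinearMap)
    (fun n => ⟨φ.symm (0, n), by simp⟩)
  haveI := hfin
  haveI : Module.Projective R N := Module.Projective.of_split
    (φ.symm.toLinearMap.comp (LinearMap.inr R P N)) ((LinearMap.snd R P N).comp φ.toLinearMap)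
    (LinearMap.ext fun n => by simp)
  haveI : Module.Free R N := Module.free_of_flat_of_isLocalRing
  exact ⟨inferInstance, hfin, fun _ => by rw [φ.finrank_eq, Module.finrank_prod]⟩

theorem exists_evenFrame [IsLocalRing R] (m : ℕ) :
    ∀ {M : Type v} [AddCommGroup M] [Module R M] [Module.Free R M] [Module.Finite R M] (Q : QuadraticForm R M),
      Module.finrank R M = 2 * m → QuadGrp.IsRegular Q → ∃ F : PFrame Q m, F.IsEven := by
  induction m with
  | zero =>
    intro M _ _ _ _ Q hM _
    refine ⟨⟨Fin.elim0, Fin.elim0, fun i => i.elim0, fun i => i.elim0, fun i => i.elim0, fun i => i.elim0,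
      fun i => i.elim0⟩, ?_⟩
    haveI : Subsingleton M := by
      have b := Module.finBasisOfFinrankEq R M (show Module.finrank R M = 0 by simpa using hM)
      exact b.repr.toEquiv.subsingleton
    exact Submodule.eq_top_iff'.2 fun x => by rw [Subsingleton.elim x 0]; exact Submodule.zero_mem _
  | succ m ih =>
    intro M _ _ _ _ Q hM hQ
    haveI : Nontrivial M := Module.nontrivial_of_finrank_pos (R := R) (by omega)
    obtain ⟨e, he⟩ := exists_isUnit_of_regular hQ
    obtain ⟨f, hd⟩ := exists_partner hQ (by omega) he
    obtain ⟨hfree, hfin, hrank⟩ := free_of_prod_equiv (splitPlane Q e f hd)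
    have hr : Module.finrank R (perp Q e f) = 2 * m := by
      have := hrank hfree
      rw [hM, Module.finrank_prod, Module.finrank_self] at this
      omega
    obtain ⟨F, hF⟩ := ih (Q.comp (perp Q e f).subtype) hr (isRegular_perp Q e f hd hQ)
    refine ⟨PFrame.cons he hd le_rfl F, Submodule.eq_top_iff'.2 fun x => ?_⟩
    have hle : perp Q e f ≤ Submodule.span R (PFrame.cons he hd le_rfl F).vecs := by
      have h := congrArg (Submodule.map (perp Q e f).subtype) hF
      rw [Submodule.map_span, Submodule.map_top, Submodule.range_subtype] at h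
      refine h.symm.le.trans (Submodule.span_mono ?_)
      rintro _ ⟨y, hy, rfl⟩
      rcases hy with ⟨i, rfl⟩ | ⟨i, rfl⟩
      · exact Or.inl ⟨i.succ, rfl⟩
      · exact Or.inr ⟨i.succ, rfl⟩
    have hx : x = co1 Q e f hd x • e + co2 Q e f hd x • f + (x - co1 Q e f hd x • e - co2 Q e f hd x • f) := by
      abel
    rw [hx]
    refine Submodule.add_mem _ (Submodule.add_mem _ (Submodule.smul_mem _ _ ?_) (Submodule.smul_mem _ _ ?_))
      (hle (sub_co_mem Q e f hd x))
    · exact Submodule.subset_span (Or.inl ⟨0, rfl⟩)
    · exact Submodule.subset_span (Or.inr ⟨0, rfl⟩)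

theorem PFrame.IsOdd.of_split [IsLocalRing R] [Module.Free R M] [Module.Finite R M] {N : Submodule R M} {r : M}
    (hr : IsUnit (Q r)) (horth : ∀ n ∈ N, polar Q n r = 0) (hspan : ∀ x, ∃ c : R, x - c • r ∈ N)
    (F : PFrame (Q.comp N.subtype) m) (hF : F.IsEven) : ∃ F' : PFrame Q m, F'.IsOdd r := by
  let F' : PFrame Q m :=
    { e := fun i => (F.e i : M)
      f := fun i => (F.f i : M)
      unit_e := fun i => F.unit_e i
      unit_disc := fun i => by simpa [planeDisc, QuadraticMap.polar] using F.unit_disc i
      orth_ee := fun i j h => by simpa [QuadraticMap.polar] using F.orth_ee i j h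
      orth_ef := fun i j h => by simpa [QuadraticMap.polar] using F.orth_ef i j h
      orth_ff := fun i j h => by simpa [QuadraticMap.polar] using F.orth_ff i j h }
  refine ⟨F', ⟨hr, fun i => horth _ (F.e i).2, fun i => horth _ (F.f i).2, Submodule.eq_top_iff'.2 fun x => ?_⟩⟩
  obtain ⟨c, hc⟩ := hspan x
  have hle : N ≤ Submodule.span R (insert r F'.vecs) := by
    have h := congrArg (Submodule.map N.subtype) hF
    rw [Submodule.map_span, Submodule.map_top, Submodule.range_subtype] at h
    refine h.symm.le.trans (Submodule.span_mono ?_)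
    rintro _ ⟨y, hy, rfl⟩
    rcases hy with ⟨i, rfl⟩ | ⟨i, rfl⟩
    · exact Or.inr (Or.inl ⟨i, rfl⟩)
    · exact Or.inr (Or.inr ⟨i, rfl⟩)
  rw [show x = (x - c • r) + c • r by abel]
  exact Submodule.add_mem _ (hle hc) (Submodule.smul_mem _ _ (Submodule.subset_span (Set.mem_insert _ _)))

theorem isRegular_of_isUnit_det {ι : Type*} [Fintype ι] [DecidableEq ι] (b : Module.Basis ι R M)
    (Q : QuadraticForm R M) (h : IsUnit (Matrix.of fun i j => polar Q (b i) (b j)).det) : QuadGrp.IsRegular Q := by
  haveI := Module.Finite.of_basis b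
  haveI := Module.Free.of_basis b
  have hm : LinearMap.toMatrix b b.dualBasis (polarBilin Q) =
      (Matrix.of fun i j => polar Q (b i) (b j)).transpose := by
    refine Matrix.ext fun i j => ?_
    rw [LinearMap.toMatrix_apply, Matrix.transpose_apply, Matrix.of_apply, Module.Basis.dualBasis_repr]
    rfl
  have hu : IsUnit (LinearMap.toMatrix b b.dualBasis (polarBilin Q)).det := by rwa [hm, Matrix.det_transpose]
  exact (LinearEquiv.ofIsUnitDet hu).bijective

theorem exists_oddFrame [IsLocalRing R] [Module.Free R M] [Module.Finite R M] (m : ℕ)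
    (b : Module.Basis (Fin (2 * m + 1)) R M) (Q : QuadraticForm R M)
    (hQ : QuadGrp.IsSemiregular b (LinearEquiv.refl R R) Q) : ∃ (F : PFrame Q m) (r : M), F.IsOdd r := by
  classical
  have hM : Module.finrank R M = 2 * m + 1 := by rw [Module.finrank_eq_card_basis b, Fintype.card_fin]
  have hodd : Odd (2 * m + 1) := ⟨m, rfl⟩
  by_cases h2u : IsUnit (2 : R)
  · have hreg : QuadGrp.IsRegular Q := isRegular_of_isUnit_det b Q (by
      show IsUnit (polarMat b Q).det
      rw [← two_mul_halfDisc hodd]
      exact h2u.mul hQ)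
    haveI : Nontrivial M := Module.nontrivial_of_finrank_pos (R := R) (by omega)
    obtain ⟨r, hr⟩ := exists_isUnit_of_regular hreg
    obtain ⟨u, hu⟩ : ∃ u : R, u * (2 * Q r) = 1 := ⟨_, (h2u.mul hr).val_inv_mul⟩
    let N : Submodule R M := LinearMap.ker (polarBilin Q r)
    have hN : ∀ x, x - (u * polar Q r x) • r ∈ N := by
      intro x
      show polarBilin Q r _ = 0
      rw [map_sub, map_smul, polarBilin_apply_apply, polarBilin_apply_apply, QuadraticMap.polar_self, nsmul_eq_mul,
        Nat.cast_ofNat, smul_eq_mul]
      linear_combination (-polar Q r x) * hu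
    have hNr : ∀ n ∈ N, polar Q n r = 0 := fun n hn => by rw [QuadraticMap.polar_comm]; exact hn
    let φ : M ≃ₗ[R] R × N :=
      { toFun := fun x => (u * polar Q r x, ⟨_, hN x⟩)
        map_add' := fun x y => by
          refine Prod.ext (by simp [QuadraticMap.polar_add_right, mul_add]) (Subtype.ext ?_)
          simp only [QuadraticMap.polar_add_right, Prod.snd_add, Submodule.coe_add]
          module
        map_smul' := fun c x => by
          refine Prod.ext (by simp [polar_smul_right, mul_left_comm]) (Subtype.ext ?_)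
          simp only [polar_smul_right, smul_eq_mul, RingHom.id_apply, Prod.smul_snd, SetLike.val_smul]
          module
        invFun := fun p => p.1 • r + (p.2 : M)
        left_inv := fun x => by simp only; abel
        right_inv := fun p => by
          obtain ⟨c, ⟨n, hn⟩⟩ := p
          have h1 : u * polar Q r (c • r + n) = c := by
            rw [QuadraticMap.polar_add_right, polar_smul_right, QuadraticMap.polar_self, nsmul_eq_mul, Nat.cast_ofNat,
              show polar Q r n = 0 from hn, smul_eq_mul]
            linear_combination c * hu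
          refine Prod.ext h1 (Subtype.ext ?_)
          simp only [h1]
          abel }
    obtain ⟨hfree, hfin, hrank⟩ := free_of_prod_equiv φ
    have hrN : Module.finrank R N = 2 * m := by
      have := hrank hfree
      rw [hM, Module.finrank_self] at this
      omega
    have hpol : ∀ a c : N, polar (Q.comp N.subtype) a c = polar Q (a : M) (c : M) :=
      fun a c => by simp [QuadraticMap.polar]
    have hregN : QuadGrp.IsRegular (Q.comp N.subtype) := by
      refine ⟨fun a c h => Subtype.ext (hreg.1 (LinearMap.ext fun x => ?_)), fun ψ => ?_⟩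
      · have hx := LinearMap.congr_fun h ⟨_, hN x⟩
        simp only [polarBilin_apply_apply, hpol] at hx
        simp only [← polarBilin_apply_apply, map_sub, map_smul] at hx
        simpa [hNr a a.2, hNr c c.2] using hx
      · let p : M →ₗ[R] N := (LinearMap.snd R R N).comp φ.toLinearMap
        obtain ⟨y, hy⟩ := hreg.2 (ψ.comp p)
        refine ⟨p y, LinearMap.ext fun n => ?_⟩
        have hpn : p (n : M) = n := Subtype.ext (by
          show (n : M) - _ = _
          rw [show polar Q r n = 0 from n.2, mul_zero, zero_smul, sub_zero])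
        have := LinearMap.congr_fun hy (n : M)
        rw [LinearMap.comp_apply, hpn, polarBilin_apply_apply] at this
        rw [polarBilin_apply_apply, hpol, ← this]
        show polar Q (y - _) (n : M) = _
        simp only [← polarBilin_apply_apply, map_sub, map_smul, LinearMap.sub_apply, LinearMap.smul_apply]
        simp [show polar Q r n = 0 from n.2]
    obtain ⟨F, hF⟩ := exists_evenFrame m (Q.comp N.subtype) hrN hregN
    obtain ⟨F', hF'⟩ := PFrame.IsOdd.of_split hr hNr (fun x => ⟨_, hN x⟩) F hF
    exact ⟨F', r, hF'⟩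
  · let 𝔪 := IsLocalRing.maximalIdeal R
    let K := IsLocalRing.ResidueField R
    let π := IsLocalRing.residue R
    have h2K : (2 : K) = 0 := by
      rw [← map_ofNat π 2, IsLocalRing.residue_eq_zero_iff]; exact h2u
    let S := polarMat b Q
    obtain ⟨v, hv, hSv⟩ : ∃ v : Fin (2 * m + 1) → K, v ≠ 0 ∧ S.map π *ᵥ v = 0 := by
      refine Matrix.exists_mulVec_eq_zero_iff.2 ?_
      rw [← RingHom.mapMatrix_apply, ← RingHom.map_det, ← two_mul_halfDisc hodd, map_mul, map_ofNat, h2K, zero_mul]
    obtain ⟨i, hi⟩ := Function.ne_iff.1 hv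
    choose c hc using fun j => IsLocalRing.residue_surjective (R := R) (v j)
    let r₀ := ∑ j, c j • b j
    have hker : ∀ y, polar Q r₀ y ∈ 𝔪 := by
      intro y
      rw [← b.sum_repr y, ← polarBilin_apply_apply, map_sum]
      refine 𝔪.sum_mem fun k _ => ?_
      rw [map_smul, polarBilin_apply_apply, smul_eq_mul]
      refine 𝔪.mul_mem_left _ ?_
      rw [← IsLocalRing.residue_eq_zero_iff]
      have hk : (S.map π *ᵥ v) k = 0 := by rw [hSv]; rfl
      rw [← hk, QuadraticMap.polar_comm Q r₀ (b k), show r₀ = ∑ j, c j • b j from rfl, ← polarBilin_apply_apply, map_sum, map_sum]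
      refine Finset.sum_congr rfl fun j _ => ?_
      rw [map_smul, smul_eq_mul, map_mul, polarBilin_apply_apply, ← hc j]
      show π (c j) * π (polar Q (b k) (b j)) = π (polar Q (b k) (b j)) * π (c j)
      ring
    have hci : IsUnit (c i) := (IsLocalRing.residue_ne_zero_iff_isUnit _).1 (by rw [hc]; exact hi)
    -- a basis with `r₀` first
    let g : M →ₗ[R] M := b.constr R fun j => if j = i then r₀ else b j
    have hgj : ∀ j, g (b j) = if j = i then r₀ else b j := fun j => b.constr_basis ..
    have hdetg : LinearMap.det g = c i := by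
      rw [← LinearMap.det_toMatrix b]
      have : LinearMap.toMatrix b b g = Matrix.updateCol 1 i c := by
        refine Matrix.ext fun k j => ?_
        rw [LinearMap.toMatrix_apply, hgj, Matrix.updateCol_apply]
        split_ifs with h
        · simp [r₀, Finsupp.single_apply]
        · rw [b.repr_self, Matrix.one_apply, Finsupp.single_apply]
          simp [eq_comm]
      rw [this, ← Matrix.cramer_apply, Matrix.cramer_one]
      rfl
    let ge : M ≃ₗ[R] M := LinearEquiv.ofIsUnitDet (f := g) (v := b) (v' := b) (by
      rw [LinearMap.det_toMatrix, hdetg]; exact hci)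
    let σ : Fin (2 * m + 1) ≃ Fin (2 * m + 1) := Equiv.swap 0 i
    let b' : Module.Basis (Fin (2 * m + 1)) R M := (b.map ge).reindex σ.symm
    have hb'0 : b' 0 = r₀ := by
      rw [Module.Basis.reindex_apply, Module.Basis.map_apply]
      show g (b (σ 0)) = r₀
      rw [Equiv.swap_apply_left, hgj, if_pos rfl]
    have hsemi : ∀ b₁ : Module.Basis (Fin (2 * m + 1)) R M, IsUnit (QuadGrp.halfDisc b₁ (LinearEquiv.refl R R) Q) := by
      intro b₁
      let h := b.equiv b₁ (Equiv.refl _)
      have hs : Specialises (RingHom.id R) b₁ Q b (Q.comp h.toLinearMap) := fun x => by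
        simp [h, map_sum, Module.Basis.equiv_apply]
      have := hs.map_halfDisc (RingHom.id R)
      rw [RingHom.id_apply, halfDisc_comp hodd] at this
      rw [← this]
      exact (h.isUnit_det'.pow 2).mul hQ
    let bK := b'.baseChange K
    let QK := QuadGrp.baseChangeForm K Q
    have hs : Specialises (algebraMap R K) bK QK b' Q := by
      intro x
      have hx : ∑ j, algebraMap R K (x j) • bK j = (1 : K) ⊗ₜ[R] (∑ j, x j • b' j) := by
        rw [TensorProduct.tmul_sum]
        refine Finset.sum_congr rfl fun j _ => ?_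
        rw [Module.Basis.baseChange_apply, TensorProduct.smul_tmul', TensorProduct.tmul_smul,
          TensorProduct.smul_tmul', algebraMap_smul]
      rw [hx]
      simp [QK, QuadGrp.baseChangeForm, QuadGrp.baseChange_tmul, Algebra.smul_def]
    let T := (polarMat b' Q).submatrix Fin.succ Fin.succ
    have hT : IsUnit T.det := by
      rw [← IsLocalRing.residue_ne_zero_iff_isUnit]
      intro h0
      have h1 : algebraMap R K (QuadGrp.halfDisc b' (LinearEquiv.refl R R) Q) ≠ 0 :=
        ((hsemi b').map (algebraMap R K)).ne_zero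
      apply h1
      rw [hs.map_halfDisc, halfDisc_eq_of_orth (m := 2 * m) hodd bK QK fun j => ?_]
      · have : ((polarMat bK QK).submatrix Fin.succ Fin.succ).det = 0 := by
          rw [← hs.map_polarMat]
          rw [← h0]
          rw [RingHom.map_det]
          rfl
        rw [this, mul_zero]
      · rw [← hs.map_polar, hb'0]
        exact (IsLocalRing.residue_eq_zero_iff _).2 (hker _)
    let N : Submodule R M := Submodule.span R (Set.range fun j : Fin (2 * m) => b' j.succ)
    have hli : LinearIndependent R fun j : Fin (2 * m) => b' j.succ :=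
      b'.linearIndependent.comp _ (Fin.succ_injective _)
    let bN : Module.Basis (Fin (2 * m)) R N := Module.Basis.span hli
    have hbN : ∀ j, (bN j : M) = b' j.succ := fun j => by rw [Module.Basis.span_apply]
    haveI : Module.Free R N := Module.Free.of_basis bN
    haveI : Module.Finite R N := Module.Finite.of_basis bN
    have hregN : QuadGrp.IsRegular (Q.comp N.subtype) := isRegular_of_isUnit_det bN _ (by
      have : (Matrix.of fun j k => polar (Q.comp N.subtype) (bN j) (bN k)) = T := by
        refine Matrix.ext fun j k => ?_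
        simp [T, polarMat, QuadraticMap.polar, hbN]
      rw [this]; exact hT)
    obtain ⟨n₀, hn₀⟩ := hregN.2 ((polarBilin Q r₀).comp N.subtype)
    let r := r₀ - (n₀ : M)
    have hNr : ∀ n ∈ N, polar Q n r = 0 := by
      intro n hn
      have := LinearMap.congr_fun hn₀ ⟨n, hn⟩
      simp only [polarBilin_apply_apply, LinearMap.comp_apply] at this
      rw [QuadraticMap.polar_comm, ← polarBilin_apply_apply, map_sub, LinearMap.sub_apply, polarBilin_apply_apply,
        polarBilin_apply_apply, sub_eq_zero]
      simpa [QuadraticMap.polar] using this.symm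
    have hspan : ∀ x, ∃ a : R, x - a • r ∈ N := by
      intro x
      refine ⟨b'.repr x 0, ?_⟩
      have : x - b'.repr x 0 • r = (∑ j : Fin (2 * m), b'.repr x j.succ • b' j.succ) + b'.repr x 0 • (n₀ : M) := by
        conv_lhs => arg 1; rw [← b'.sum_repr x, Fin.sum_univ_succ, hb'0]
        simp only [r, smul_sub]
        abel
      rw [this]
      exact N.add_mem (N.sum_mem fun j _ => N.smul_mem _ (Submodule.subset_span ⟨j, rfl⟩)) (N.smul_mem _ n₀.2)
    have hr : IsUnit (Q r) := by
      have h0 : b'.coord 0 (n₀ : M) = 0 := by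
        have hle : N ≤ LinearMap.ker (b'.coord 0) := Submodule.span_le.2 (by
          rintro _ ⟨j, rfl⟩
          show b'.repr (b' j.succ) 0 = 0
          rw [b'.repr_self, Finsupp.single_eq_of_ne (Fin.succ_ne_zero j).symm])
        exact hle n₀.2
      let s₁ : M →ₗ[R] M := (b'.coord 0).smulRight (n₀ : M)
      have hs₁ : ∀ x, s₁ (s₁ x) = 0 := fun x => by
        show b'.coord 0 (b'.coord 0 x • (n₀ : M)) • (n₀ : M) = 0
        rw [map_smul, h0, smul_zero, zero_smul]
      let sh : M ≃ₗ[R] M := LinearEquiv.ofLinearMap (LinearMap.id - s₁) (LinearMap.id + s₁)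
        (LinearMap.ext fun x => by simp [hs₁])
        (LinearMap.ext fun x => by simp [hs₁])
      let b₁ := b'.map sh
      let v₁ : Fin (2 * m + 1) → M := Fin.cons r fun j => b' j.succ
      have hb₁ : ⇑b₁ = v₁ := funext fun j => by
        show b' j - b'.coord 0 (b' j) • (n₀ : M) = v₁ j
        cases j using Fin.cases with
        | zero =>
          show b' 0 - b'.coord 0 (b' 0) • (n₀ : M) = r₀ - (n₀ : M)
          rw [Module.Basis.coord_apply, b'.repr_self, Finsupp.single_eq_same, one_smul, hb'0]
        | succ j => simp [v₁, Finsupp.single_eq_of_ne (Fin.succ_ne_zero j).symm]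
      have := hsemi b₁
      rw [halfDisc_eq_of_orth (m := 2 * m) hodd b₁ Q fun j => by
        rw [hb₁, QuadraticMap.polar_comm]; exact hNr _ (Submodule.subset_span ⟨j, rfl⟩), hb₁] at this
      exact (IsUnit.mul_iff.1 this).1
    obtain ⟨F, hF⟩ := exists_evenFrame m (Q.comp N.subtype)
      (by rw [Module.finrank_eq_card_basis bN, Fintype.card_fin]) hregN
    obtain ⟨F', hF'⟩ := PFrame.IsOdd.of_split hr hNr hspan F hF
    exact ⟨F', r, hF'⟩

end Groth.L15.QG
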