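import Groth.Agent.L15.QG.Refl
import Groth.Agent.L15.QG.Frame
import Mathlib.Algebra.Polynomial.Roots
import Mathlib.Tactic.ComputeDegree
import Mathlib.RingTheory.Localization.AtPrime.Basic
import Mathlib.RingTheory.Flat.Stability
import Mathlib.RingTheory.Flat.Localization
import Mathlib.RingTheory.Polynomial.Quotient

/-! Orthogonal groups over local rings with large residue field are generated by reflections. -/

set_option autoImplicit false

namespace Groth.L15.QG

open QuadraticMap

universe u v

/-- Five elements with unit differences. -/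
def FiveUnits (R : Type u) [CommRing R] : Prop := ∃ t : Fin 5 → R, ∀ i j, i ≠ j → IsUnit (t i - t j)

variable {R : Type u} [CommRing R] {M : Type v} [AddCommGroup M] [Module R M] {Q : QuadraticForm R M}

theorem exists_three [IsLocalRing R] (h5 : FiveUnits R) (U : Submodule R M) {a b c : M} (ha : a ∈ U) (hb : b ∈ U)
    (hc : c ∈ U) (l₁ l₂ : Module.Dual R M) (hQ : IsUnit (Q a)) (h1 : IsUnit (l₁ b)) (h2 : IsUnit (l₂ c)) :
    ∃ y ∈ U, IsUnit (Q y) ∧ IsUnit (l₁ y) ∧ IsUnit (l₂ y) := by
  classical
  let π := IsLocalRing.residue R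
  have hu : ∀ r, IsUnit r ↔ π r ≠ 0 := fun r => (IsLocalRing.residue_ne_zero_iff_isUnit r).symm
  obtain ⟨y₀, hy₀, e1, e2⟩ : ∃ y₀ ∈ U, π (l₁ y₀) ≠ 0 ∧ π (l₂ y₀) ≠ 0 := by
    rw [hu] at h1 h2
    by_cases k1 : π (l₂ b) = 0
    · by_cases k2 : π (l₁ c) = 0
      · exact ⟨b + c, U.add_mem hb hc, by rw [map_add, map_add, k2, add_zero]; exact h1,
          by rw [map_add, map_add, k1, zero_add]; exact h2⟩
      · exact ⟨c, hc, k2, h2⟩
    · exact ⟨b, hb, h1, k1⟩
  obtain ⟨t, ht⟩ := h5
  let K := IsLocalRing.ResidueField R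
  let p : Polynomial K := (Polynomial.C (π (Q a)) + Polynomial.C (π (polar Q a y₀)) * Polynomial.X +
      Polynomial.C (π (Q y₀)) * Polynomial.X ^ 2) *
    (Polynomial.C (π (l₁ a)) + Polynomial.C (π (l₁ y₀)) * Polynomial.X) *
    (Polynomial.C (π (l₂ a)) + Polynomial.C (π (l₂ y₀)) * Polynomial.X)
  have hp : p ≠ 0 := by
    refine mul_ne_zero (mul_ne_zero ?_ ?_) ?_
    · intro h
      have := congrArg (fun q => Polynomial.coeff q 0) h
      simp at this
      exact (hu _).1 hQ this
    · intro h
      have := congrArg (fun q => Polynomial.coeff q 1) h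
      simp at this
      exact e1 this
    · intro h
      have := congrArg (fun q => Polynomial.coeff q 1) h
      simp at this
      exact e2 this
  have hdeg : p.natDegree ≤ 4 := by
    simp only [p]
    compute_degree
  have hinj : Function.Injective fun i => π (t i) := by
    intro i j hij
    by_contra hne
    exact (hu _).1 (ht i j hne) (by rw [map_sub, sub_eq_zero]; exact hij)
  obtain ⟨i, hi⟩ : ∃ i, Polynomial.eval (π (t i)) p ≠ 0 := by
    by_contra hcon
    push Not at hcon
    exact hp (Polynomial.eq_zero_of_natDegree_lt_card_of_eval_eq_zero p hinj hcon (by simp; omega))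
  simp only [p, Polynomial.eval_mul, Polynomial.eval_add, Polynomial.eval_C, Polynomial.eval_X,
    Polynomial.eval_pow, mul_ne_zero_iff] at hi
  obtain ⟨⟨h3, h4⟩, h5⟩ := hi
  refine ⟨a + t i • y₀, U.add_mem ha (U.smul_mem _ hy₀), (hu _).2 ?_, (hu _).2 ?_, (hu _).2 ?_⟩
  · rw [QuadraticMap.map_add Q, QuadraticMap.map_smul, polar_smul_right, smul_eq_mul, smul_eq_mul]
    intro h
    refine h3 ?_
    simp only [map_add, map_mul] at h
    linear_combination h
  · rw [map_add, map_smul, smul_eq_mul, map_add, map_mul, mul_comm]; exact h4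
  · rw [map_add, map_smul, smul_eq_mul, map_add, map_mul, mul_comm]; exact h5

/-- A product of reflections. -/
noncomputable def reflProd (l : List {v : M // IsUnit (Q v)}) : M ≃ₗ[R] M :=
  (l.map fun v => refl Q v.1 v.2).prod

@[simp] theorem reflProd_nil : reflProd ([] : List {v : M // IsUnit (Q v)}) = 1 := rfl

theorem reflProd_cons (v : {v : M // IsUnit (Q v)}) (l : List {v : M // IsUnit (Q v)}) :
    reflProd (v :: l) = refl Q v.1 v.2 * reflProd l := rfl

theorem reflProd_append (l l' : List {v : M // IsUnit (Q v)}) :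
    reflProd (l ++ l') = reflProd l * reflProd l' := by
  simp [reflProd, List.map_append, List.prod_append]

theorem reflProd_mem_O (l : List {v : M // IsUnit (Q v)}) : reflProd l ∈ QuadGrp.O Q := by
  induction l with
  | nil => exact (QuadGrp.O Q).one_mem
  | cons v l ih => exact (QuadGrp.O Q).mul_mem (refl_mem_O Q v.1 v.2) ih

theorem det_reflProd [Module.Free R M] [Module.Finite R M] (l : List {v : M // IsUnit (Q v)}) :
    LinearMap.det (reflProd l).toLinearMap = (-1) ^ l.length := by
  induction l with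
  | nil => simp [reflProd, LinearEquiv.coe_toLinearMap_one]
  | cons v l ih =>
    rw [reflProd_cons, LinearEquiv.coe_toLinearMap_mul, map_mul, det_refl, ih, List.length_cons, pow_succ']

theorem refl_mul_self (v : M) (hv : IsUnit (Q v)) : refl Q v hv * refl Q v hv = 1 := by
  refine LinearEquiv.ext fun x => ?_
  exact (Module.involutive_reflection (reflForm_self Q v hv)) x

theorem reflProd_reverse_mul (l : List {v : M // IsUnit (Q v)}) : reflProd l.reverse * reflProd l = 1 := by
  induction l with
  | nil => simp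
  | cons v l ih =>
    rw [List.reverse_cons, reflProd_append, reflProd_cons, reflProd_cons, reflProd_nil, mul_one, mul_assoc,
      ← mul_assoc (refl Q v.1 v.2), refl_mul_self, one_mul, ih]

theorem refl_fix {v x : M} (hv : IsUnit (Q v)) (h : polar Q v x = 0) : refl Q v hv x = x := by
  rw [refl_apply, h, mul_zero, zero_smul, sub_zero]

theorem reflProd_fix {x : M} (l : List {v : M // IsUnit (Q v)}) (h : ∀ v ∈ l, polar Q v.1 x = 0) :
    reflProd l x = x := by
  induction l with
  | nil => rfl
  | cons v l ih =>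
    rw [reflProd_cons, LinearEquiv.mul_apply, ih fun w hw => h w (List.mem_cons_of_mem _ hw),
      refl_fix v.2 (h v (List.mem_cons_self ..))]

theorem polar_map {g : M ≃ₗ[R] M} (hg : g ∈ QuadGrp.O Q) (x y : M) : polar Q (g x) (g y) = polar Q x y := by
  simp only [QuadraticMap.polar, ← map_add g]
  rw [hg, hg, hg]

theorem refl_sub {x y : M} (h : Q x = Q y) (hd : IsUnit (Q (x - y))) : refl Q (x - y) hd x = y := by
  rw [refl_apply]
  have h1 : polar Q (x - y) x = Q (x - y) := by
    have hq : Q (x - y) = Q x + Q y - polar Q x y := by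
      rw [sub_eq_add_neg, QuadraticMap.map_add Q, QuadraticMap.map_neg, QuadraticMap.polar_neg_right]; ring
    rw [hq, sub_eq_add_neg, QuadraticMap.polar_add_left, QuadraticMap.polar_neg_left, QuadraticMap.polar_self,
      QuadraticMap.polar_comm Q y x, h, two_nsmul, sub_eq_add_neg]
  rw [h1, hd.val_inv_mul, one_smul, sub_sub_cancel]

/-- At most two reflections in `U` move `x` to `y`. -/
theorem exists_move [IsLocalRing R] (h5 : FiveUnits R) (U : Submodule R M) {x y : M} (hx : x ∈ U) (hy : y ∈ U)
    (h : Q x = Q y) {a b c : M} (ha : a ∈ U) (hb : b ∈ U) (hc : c ∈ U) (hQa : IsUnit (Q a))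
    (h1 : IsUnit (polar Q x b)) (h2 : IsUnit (polar Q y c)) :
    ∃ l : List {v : M // IsUnit (Q v)}, (∀ v ∈ l, v.1 ∈ U) ∧ reflProd l x = y := by
  by_cases hd : IsUnit (Q (x - y))
  · exact ⟨[⟨x - y, hd⟩], by simp [U.sub_mem hx hy], by rw [reflProd_cons, reflProd_nil, mul_one]; exact refl_sub h hd⟩
  obtain ⟨w, hw, hQw, hxw, hyw⟩ := exists_three h5 U ha hb hc (polarBilin Q x) (polarBilin Q y) hQa h1 h2
  rw [polarBilin_apply_apply] at hxw hyw
  have hd' : IsUnit (Q (refl Q w hQw x - y)) := by
    obtain ⟨s, hs⟩ : ∃ s, s = (↑hQw.unit⁻¹ : R) * polar Q w x := ⟨_, rfl⟩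
    have hsQ : s * Q w = polar Q w x := by
      rw [hs]; linear_combination polar Q w x * hQw.val_inv_mul
    have heq : refl Q w hQw x - y = (x - y) + (-s) • w := by rw [refl_apply, hs]; module
    have key : Q (refl Q w hQw x - y) = Q (x - y) + s * polar Q y w := by
      rw [heq, QuadraticMap.map_add Q, QuadraticMap.map_smul, polar_smul_right, smul_eq_mul, smul_eq_mul,
        sub_eq_add_neg x y, QuadraticMap.polar_add_left, QuadraticMap.polar_neg_left, QuadraticMap.polar_comm Q x w]
      linear_combination s * hsQ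
    have hu : IsUnit (s * polar Q y w) := by
      refine IsUnit.mul ?_ hyw
      rw [hs]
      exact (Units.isUnit _).mul (QuadraticMap.polar_comm Q x w ▸ hxw)
    rw [key]
    by_contra hc'
    have := (IsLocalRing.maximalIdeal R).sub_mem (show _ ∈ IsLocalRing.maximalIdeal R from hc')
      (show _ ∈ IsLocalRing.maximalIdeal R from hd)
    rw [add_sub_cancel_left] at this
    exact this hu
  refine ⟨[⟨_, hd'⟩, ⟨w, hQw⟩], ?_, ?_⟩
  · intro v hv
    simp only [List.mem_cons, List.not_mem_nil, or_false] at hv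
    rcases hv with rfl | rfl
    · refine U.sub_mem ?_ hy
      rw [refl_apply]
      exact U.sub_mem hx (U.smul_mem _ hw)
    · exact hw
  · rw [reflProd_cons, reflProd_cons, reflProd_nil, mul_one, LinearEquiv.mul_apply]
    exact refl_sub ((refl_mem_O Q w hQw x).trans h) hd'

variable {m : ℕ}

/-- Vectors orthogonal to the first `k` planes. -/
def PFrame.upTo (F : PFrame Q m) (k : ℕ) : Submodule R M where
  carrier := {x | ∀ i : Fin m, (i : ℕ) < k → polarBilin Q (F.e i) x = 0 ∧ polarBilin Q (F.f i) x = 0}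
  add_mem' hx hy i hi := ⟨by rw [map_add, (hx i hi).1, (hy i hi).1, add_zero],
    by rw [map_add, (hx i hi).2, (hy i hi).2, add_zero]⟩
  zero_mem' i _ := ⟨map_zero _, map_zero _⟩
  smul_mem' c x hx i hi := ⟨by rw [map_smul, (hx i hi).1, smul_zero], by rw [map_smul, (hx i hi).2, smul_zero]⟩

theorem PFrame.exists_fix [IsLocalRing R] (h5 : FiveUnits R) (F : PFrame Q m) {g : M ≃ₗ[R] M}
    (hg : g ∈ QuadGrp.O Q) : ∀ k ≤ m, ∃ l : List {v : M // IsUnit (Q v)}, ∀ i : Fin m, (i : ℕ) < k →
      (reflProd l * g) (F.e i) = F.e i ∧ (reflProd l * g) (F.f i) = F.f i := by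
  intro k
  induction k with
  | zero => exact fun _ => ⟨[], fun i hi => absurd hi (by omega)⟩
  | succ k ih =>
    intro hk
    obtain ⟨l, hl⟩ := ih (by omega)
    set g' := reflProd l * g with hg'
    have hg'O : g' ∈ QuadGrp.O Q := (QuadGrp.O Q).mul_mem (reflProd_mem_O l) hg
    let j : Fin m := ⟨k, hk⟩
    set e := F.e j
    set f := F.f j
    let U := F.upTo k
    have hne : ∀ i : Fin m, (i : ℕ) < k → i ≠ j := fun i hi h => by rw [h] at hi; exact lt_irrefl _ hi
    have heU : e ∈ U := fun i hi => ⟨F.orth_ee i j (hne i hi),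
      by rw [polarBilin_apply_apply, QuadraticMap.polar_comm]; exact F.orth_ef j i (hne i hi).symm⟩
    have hfU : f ∈ U := fun i hi => ⟨F.orth_ef i j (hne i hi), F.orth_ff i j (hne i hi)⟩
    have hgU : ∀ x ∈ U, g' x ∈ U := fun x hx i hi => by
      constructor
      · rw [polarBilin_apply_apply, ← (hl i hi).1, polar_map hg'O]; exact (hx i hi).1
      · rw [polarBilin_apply_apply, ← (hl i hi).2, polar_map hg'O]; exact (hx i hi).2
    have he := F.unit_e j
    have hd := F.unit_disc j
    obtain ⟨a, haU, hea⟩ : ∃ a ∈ U, IsUnit (polar Q e a) := by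
      by_contra hc
      push Not at hc
      have h1 := hc e heU
      have h2 := hc f hfU
      rw [QuadraticMap.polar_self, nsmul_eq_mul, Nat.cast_ofNat] at h1
      refine (show planeDisc Q e f ∈ IsLocalRing.maximalIdeal R from ?_) hd
      rw [planeDisc, show (4 : R) * Q e * Q f = 2 * Q e * (2 * Q f) by ring]
      exact Submodule.sub_mem _ (Ideal.mul_mem_right _ _ h1) (Ideal.mul_mem_left _ _ h2)
    obtain ⟨l₁, hl₁U, hl₁⟩ := exists_move h5 U (hgU e heU) heU (hg'O e) heU (hgU a haU) haU he
      (by rw [polar_map hg'O]; exact hea) hea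
    set g'' := reflProd l₁ * g' with hg''
    have hg''O : g'' ∈ QuadGrp.O Q := (QuadGrp.O Q).mul_mem (reflProd_mem_O l₁) hg'O
    have hfix₁ : ∀ i : Fin m, (i : ℕ) < k → g'' (F.e i) = F.e i ∧ g'' (F.f i) = F.f i := fun i hi => by
      constructor
      · rw [hg'', LinearEquiv.mul_apply, (hl i hi).1, reflProd_fix]
        intro v hv; rw [QuadraticMap.polar_comm]; exact (hl₁U v hv i hi).1
      · rw [hg'', LinearEquiv.mul_apply, (hl i hi).2, reflProd_fix]
        intro v hv; rw [QuadraticMap.polar_comm]; exact (hl₁U v hv i hi).2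
    have hge : g'' e = e := by rw [hg'', LinearEquiv.mul_apply]; exact hl₁
    have hg''U : ∀ x ∈ U, g'' x ∈ U := fun x hx i hi => by
      constructor
      · rw [polarBilin_apply_apply, ← (hfix₁ i hi).1, polar_map hg''O]; exact (hx i hi).1
      · rw [polarBilin_apply_apply, ← (hfix₁ i hi).2, polar_map hg''O]; exact (hx i hi).2
    let U₂ : Submodule R M := U ⊓ LinearMap.ker (polarBilin Q e)
    set y' := g'' f
    have hey' : polar Q e y' = polar Q e f := by
      have := polar_map hg''O e f
      rwa [hge] at this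
    have hy'Q : Q y' = Q f := hg''O f
    set e₁ := (2 * Q e) • f - polar Q e f • e with he₁
    set e₂ := (2 * Q e) • y' - polar Q e f • e with he₂
    have he₁U : e₁ ∈ U₂ := by
      refine ⟨U.sub_mem (U.smul_mem _ hfU) (U.smul_mem _ heU), ?_⟩
      show polarBilin Q e e₁ = 0
      simp only [he₁, map_sub, map_smul, polarBilin_apply_apply, QuadraticMap.polar_self, smul_eq_mul,
        nsmul_eq_mul, Nat.cast_ofNat]
      ring
    have he₂U : e₂ ∈ U₂ := by
      refine ⟨U.sub_mem (U.smul_mem _ (hg''U f hfU)) (U.smul_mem _ heU), ?_⟩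
      show polarBilin Q e e₂ = 0
      simp only [he₂, map_sub, map_smul, polarBilin_apply_apply, QuadraticMap.polar_self, smul_eq_mul,
        nsmul_eq_mul, Nat.cast_ofNat, hey']
      ring
    have hQe₁ : Q e₁ = Q e * planeDisc Q e f := by
      rw [he₁, sub_eq_add_neg, ← neg_smul, QuadraticMap.map_add Q, QuadraticMap.map_smul, QuadraticMap.map_smul,
        polar_smul_left, polar_smul_right, QuadraticMap.polar_comm Q f e, planeDisc]
      simp only [smul_eq_mul]
      ring
    have hpair : ∀ z, Q z = Q f → polar Q e z = polar Q e f →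
        polar Q z ((2 * Q e) • z - polar Q e f • e) = planeDisc Q e f := by
      intro z h1 h2
      rw [sub_eq_add_neg, ← neg_smul, QuadraticMap.polar_add_right, polar_smul_right, polar_smul_right,
        QuadraticMap.polar_self, QuadraticMap.polar_comm Q z e, h1, h2, planeDisc]
      simp only [smul_eq_mul, nsmul_eq_mul, Nat.cast_ofNat]
      ring
    obtain ⟨l₂, hl₂U, hl₂⟩ : ∃ l₂ : List {v : M // IsUnit (Q v)}, (∀ v ∈ l₂, v.1 ∈ U₂) ∧ reflProd l₂ y' = f := by
      by_cases hd₀ : IsUnit (Q (y' - f))
      · refine ⟨[⟨y' - f, hd₀⟩], ?_, by rw [reflProd_cons, reflProd_nil, mul_one]; exact refl_sub hy'Q hd₀⟩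
        intro v hv
        rw [List.mem_singleton.1 hv]
        refine ⟨U.sub_mem (hg''U f hfU) hfU, ?_⟩
        show polarBilin Q e _ = 0
        rw [map_sub, polarBilin_apply_apply, polarBilin_apply_apply, hey', sub_self]
      obtain ⟨w, hw, hQw, hxw, hyw⟩ := exists_three h5 U₂ he₁U he₂U he₁U (polarBilin Q y') (polarBilin Q f)
        (by rw [hQe₁]; exact he.mul hd) (by rw [polarBilin_apply_apply, hpair y' hy'Q hey']; exact hd)
        (by rw [polarBilin_apply_apply, hpair f rfl rfl]; exact hd)
      rw [polarBilin_apply_apply] at hxw hyw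
      obtain ⟨s, hs⟩ : ∃ s, s = (↑hQw.unit⁻¹ : R) * polar Q w y' := ⟨_, rfl⟩
      have hew : polar Q e w = 0 := hw.2
      have hd' : IsUnit (Q (refl Q w hQw y' - f)) := by
        have hsQ : s * Q w = polar Q w y' := by
          rw [hs]; linear_combination polar Q w y' * hQw.val_inv_mul
        have heq : refl Q w hQw y' - f = (y' - f) + (-s) • w := by rw [refl_apply, hs]; module
        have key : Q (refl Q w hQw y' - f) = Q (y' - f) + s * polar Q f w := by
          rw [heq, QuadraticMap.map_add Q, QuadraticMap.map_smul, polar_smul_right, smul_eq_mul, smul_eq_mul,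
            sub_eq_add_neg y' f, QuadraticMap.polar_add_left, QuadraticMap.polar_neg_left,
            QuadraticMap.polar_comm Q y' w]
          linear_combination s * hsQ
        have hu : IsUnit (s * polar Q f w) := by
          refine IsUnit.mul ?_ hyw
          rw [hs]
          exact (Units.isUnit _).mul (QuadraticMap.polar_comm Q y' w ▸ hxw)
        rw [key]
        by_contra hc'
        have := (IsLocalRing.maximalIdeal R).sub_mem (show _ ∈ IsLocalRing.maximalIdeal R from hc')
          (show _ ∈ IsLocalRing.maximalIdeal R from hd₀)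
        rw [add_sub_cancel_left] at this
        exact this hu
      refine ⟨[⟨_, hd'⟩, ⟨w, hQw⟩], ?_, ?_⟩
      · intro v hv
        simp only [List.mem_cons, List.not_mem_nil, or_false] at hv
        rcases hv with rfl | rfl
        · refine ⟨U.sub_mem ?_ hfU, ?_⟩
          · rw [refl_apply]; exact U.sub_mem (hg''U f hfU) (U.smul_mem _ hw.1)
          · show polarBilin Q e (refl Q w hQw y' - f) = 0
            rw [refl_apply, map_sub, map_sub, map_smul, polarBilin_apply_apply, polarBilin_apply_apply,
              polarBilin_apply_apply, hew, smul_zero, sub_zero, hey', sub_self]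
        · exact hw
      · rw [reflProd_cons, reflProd_cons, reflProd_nil, mul_one, LinearEquiv.mul_apply]
        exact refl_sub ((refl_mem_O Q w hQw y').trans hy'Q) hd'
    refine ⟨l₂ ++ (l₁ ++ l), fun i hi => ?_⟩
    rw [reflProd_append, reflProd_append, mul_assoc, mul_assoc, ← hg', ← hg'']
    rcases Nat.lt_succ_iff_lt_or_eq.1 hi with hi' | hi'
    · constructor
      · rw [LinearEquiv.mul_apply, (hfix₁ i hi').1, reflProd_fix]
        intro v hv; rw [QuadraticMap.polar_comm]; exact ((hl₂U v hv).1 i hi').1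
      · rw [LinearEquiv.mul_apply, (hfix₁ i hi').2, reflProd_fix]
        intro v hv; rw [QuadraticMap.polar_comm]; exact ((hl₂U v hv).1 i hi').2
    · obtain rfl : i = j := Fin.ext hi'
      refine ⟨?_, ?_⟩
      · rw [LinearEquiv.mul_apply, hge, reflProd_fix]
        intro v hv; rw [QuadraticMap.polar_comm]; exact (hl₂U v hv).2
      · rw [LinearEquiv.mul_apply]; exact hl₂

theorem PFrame.exists_eq_reflProd [IsLocalRing R] (h5 : FiveUnits R) (F : PFrame Q m) (hF : F.IsEven)
    {g : M ≃ₗ[R] M} (hg : g ∈ QuadGrp.O Q) : ∃ l : List {v : M // IsUnit (Q v)}, g = reflProd l := by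
  obtain ⟨l, hl⟩ := F.exists_fix h5 hg m le_rfl
  refine ⟨l.reverse, ?_⟩
  have h1 : reflProd l * g = 1 := by
    refine LinearEquiv.toLinearMap_injective (LinearMap.ext_on hF ?_)
    rintro _ (⟨i, rfl⟩ | ⟨i, rfl⟩)
    · exact (hl i i.isLt).1
    · exact (hl i i.isLt).2
  rw [← mul_one (reflProd l.reverse), ← h1, ← mul_assoc, reflProd_reverse_mul, one_mul]

/-- Projection away from the planes. -/
noncomputable def PFrame.planeProj (F : PFrame Q m) : M →ₗ[R] M :=
  LinearMap.id - ∑ i : Fin m, ((co1 Q (F.e i) (F.f i) (F.unit_disc i)).smulRight (F.e i) +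
    (co2 Q (F.e i) (F.f i) (F.unit_disc i)).smulRight (F.f i))

theorem PFrame.planeProj_apply (F : PFrame Q m) (x : M) : F.planeProj x = x - ∑ i : Fin m,
    (co1 Q (F.e i) (F.f i) (F.unit_disc i) x • F.e i + co2 Q (F.e i) (F.f i) (F.unit_disc i) x • F.f i) := by
  simp [PFrame.planeProj, LinearMap.sum_apply]

theorem PFrame.planeProj_of_orth (F : PFrame Q m) {x : M} (h : ∀ i, polar Q (F.e i) x = 0 ∧ polar Q (F.f i) x = 0) :
    F.planeProj x = x := by
  rw [F.planeProj_apply, Finset.sum_eq_zero (fun i _ => ?_), sub_zero]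
  obtain ⟨a, c⟩ := co_perp Q _ _ (F.unit_disc i) ((mem_perp Q _ _).2 (h i))
  rw [a, c, zero_smul, zero_smul, add_zero]

theorem PFrame.planeProj_e (F : PFrame Q m) (j : Fin m) : F.planeProj (F.e j) = 0 := by
  rw [F.planeProj_apply, Finset.sum_eq_single j]
  · obtain ⟨a, c⟩ := co_plane Q (F.e j) (F.f j) (F.unit_disc j) 1 0
    rw [one_smul, zero_smul, add_zero] at a c
    rw [a, c, one_smul, zero_smul, add_zero, sub_self]
  · intro i _ hi
    obtain ⟨a, c⟩ := co_perp Q _ _ (F.unit_disc i) (x := F.e j) ((mem_perp Q _ _).2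
      ⟨F.orth_ee i j hi, by rw [QuadraticMap.polar_comm]; exact F.orth_ef j i (Ne.symm hi)⟩)
    rw [a, c, zero_smul, zero_smul, add_zero]
  · simp

theorem PFrame.planeProj_f (F : PFrame Q m) (j : Fin m) : F.planeProj (F.f j) = 0 := by
  rw [F.planeProj_apply, Finset.sum_eq_single j]
  · obtain ⟨a, c⟩ := co_plane Q (F.e j) (F.f j) (F.unit_disc j) 0 1
    rw [one_smul, zero_smul, zero_add] at a c
    rw [a, c, one_smul, zero_smul, zero_add, sub_self]
  · intro i _ hi
    obtain ⟨a, c⟩ := co_perp Q _ _ (F.unit_disc i) (x := F.f j) ((mem_perp Q _ _).2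
      ⟨F.orth_ef i j hi, F.orth_ff i j hi⟩)
    rw [a, c, zero_smul, zero_smul, add_zero]
  · simp

theorem PFrame.IsOdd.planeProj_mem {F : PFrame Q m} {r : M} (hF : F.IsOdd r) (x : M) :
    F.planeProj x ∈ Submodule.span R {r} := by
  have hle : Submodule.span R (insert r F.vecs) ≤ Submodule.comap F.planeProj (Submodule.span R {r}) := by
    rw [Submodule.span_le]
    rintro _ (rfl | ⟨i, rfl⟩ | ⟨i, rfl⟩)
    · rw [SetLike.mem_coe, Submodule.mem_comap, F.planeProj_of_orth fun i => ⟨hF.orth_e i, hF.orth_f i⟩]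
      exact Submodule.mem_span_singleton_self _
    · rw [SetLike.mem_coe, Submodule.mem_comap, F.planeProj_e]; exact zero_mem _
    · rw [SetLike.mem_coe, Submodule.mem_comap, F.planeProj_f]; exact zero_mem _
  exact hle (hF.span.symm ▸ Submodule.mem_top)

/-- In odd rank an isometry is a product of reflections times a scaling of the last line. -/
theorem PFrame.exists_eq_reflProd_odd [IsLocalRing R] (h5 : FiveUnits R) (F : PFrame Q m) {r : M} (hF : F.IsOdd r)
    {g : M ≃ₗ[R] M} (hg : g ∈ QuadGrp.O Q) : ∃ (l : List {v : M // IsUnit (Q v)}) (a : R), a * a = 1 ∧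
      (∀ i, (reflProd l * g) (F.e i) = F.e i ∧ (reflProd l * g) (F.f i) = F.f i) ∧
      (reflProd l * g) r = a • r := by
  obtain ⟨l, hl⟩ := F.exists_fix h5 hg m le_rfl
  set h := reflProd l * g
  have hO : h ∈ QuadGrp.O Q := (QuadGrp.O Q).mul_mem (reflProd_mem_O l) hg
  have horth : ∀ i, polar Q (F.e i) (h r) = 0 ∧ polar Q (F.f i) (h r) = 0 := fun i => by
    constructor
    · rw [← (hl i i.isLt).1, polar_map hO]; exact hF.orth_e i
    · rw [← (hl i i.isLt).2, polar_map hO]; exact hF.orth_f i
  obtain ⟨a, ha⟩ := Submodule.mem_span_singleton.1 (hF.planeProj_mem (h r))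
  rw [F.planeProj_of_orth horth] at ha
  refine ⟨l, a, ?_, fun i => hl i i.isLt, ha.symm⟩
  have := hO r
  rw [← ha, QuadraticMap.map_smul, smul_eq_mul] at this
  exact hF.unit_r.mul_eq_right.1 this

section Frame

variable [Module.Free R M] [Module.Finite R M]

/-- The vectors of an odd frame as a family. -/
def PFrame.oddVec (F : PFrame Q m) (r : M) : Fin (2 * m + 1) → M :=
  Fin.cons r fun j => Sum.elim F.e F.f (finSumFinEquiv.symm (Fin.cast (two_mul m) j))

/-- An odd frame spanning a module of rank `2m+1` is a basis. -/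
noncomputable def PFrame.IsOdd.basis {F : PFrame Q m} {r : M} (hF : F.IsOdd r)
    (b : Module.Basis (Fin (2 * m + 1)) R M) : Module.Basis (Fin (2 * m + 1)) R M :=
  b.map (LinearEquiv.ofBijective (b.constr R (F.oddVec r)) (by
    have hs : Function.Surjective (b.constr R (F.oddVec r)) := by
      rw [← LinearMap.range_eq_top, eq_top_iff, ← hF.span, Submodule.span_le, Module.Basis.constr_range]
      rintro _ (rfl | ⟨i, rfl⟩ | ⟨i, rfl⟩)
      · exact Submodule.subset_span ⟨0, rfl⟩
      · exact Submodule.subset_span ⟨(Fin.cast (two_mul m).symm (finSumFinEquiv (Sum.inl i))).succ,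
          by simp [PFrame.oddVec]⟩
      · exact Submodule.subset_span ⟨(Fin.cast (two_mul m).symm (finSumFinEquiv (Sum.inr i))).succ, by
          simp only [PFrame.oddVec, Fin.cons_succ, Fin.cast_cast, Fin.cast_eq_self, Equiv.symm_apply_apply,
            Sum.elim_inr]⟩
    exact ⟨OrzechProperty.injective_of_surjective_endomorphism _ hs, hs⟩))

theorem PFrame.IsOdd.basis_apply {F : PFrame Q m} {r : M} (hF : F.IsOdd r)
    (b : Module.Basis (Fin (2 * m + 1)) R M) (j : Fin (2 * m + 1)) : hF.basis b j = F.oddVec r j := by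
  rw [PFrame.IsOdd.basis, Module.Basis.map_apply]
  exact b.constr_basis R (F.oddVec r) j

theorem det_of_fix {F : PFrame Q m} {r : M} (hF : F.IsOdd r) (b : Module.Basis (Fin (2 * m + 1)) R M) {a : R}
    {h : M →ₗ[R] M} (hp : ∀ i, h (F.e i) = F.e i ∧ h (F.f i) = F.f i) (hr : h r = a • r) :
    LinearMap.det h = a := by
  classical
  let bF := hF.basis b
  have heq : h = Module.preReflection r ((1 - a) • bF.coord 0) := by
    refine bF.ext fun j => ?_
    rw [Module.preReflection_apply, LinearMap.smul_apply, Module.Basis.coord_apply, bF.repr_self, hF.basis_apply]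
    cases j using Fin.cases with
    | zero =>
      rw [Finsupp.single_eq_same]
      simp only [PFrame.oddVec, Fin.cons_zero, smul_eq_mul, mul_one]
      rw [hr]; module
    | succ j =>
      rw [Finsupp.single_eq_of_ne (Fin.succ_ne_zero j).symm, smul_zero, zero_smul, sub_zero]
      simp only [PFrame.oddVec, Fin.cons_succ]
      rcases finSumFinEquiv.symm (Fin.cast (two_mul m) j) with i | i
      · exact (hp i).1
      · exact (hp i).2
  rw [heq, det_preReflection, LinearMap.smul_apply, Module.Basis.coord_apply]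
  have h0 : bF.repr r 0 = 1 := by
    have e0 : bF 0 = r := by rw [hF.basis_apply]; rfl
    conv_lhs => rw [← e0, bF.repr_self, Finsupp.single_eq_same]
  rw [h0, smul_eq_mul, mul_one, sub_sub_cancel]

end Frame

section Rt

variable (R) [IsLocalRing R]

instance isPrime_mapC : ((IsLocalRing.maximalIdeal R).map (Polynomial.C : R →+* Polynomial R)).IsPrime :=
  haveI := (IsLocalRing.maximalIdeal.isMaximal R).isPrime
  Ideal.isPrime_map_C_of_isPrime

/-- `R(t)`: a faithfully flat local extension with infinite residue field. -/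
abbrev Rt := Localization.AtPrime ((IsLocalRing.maximalIdeal R).map (Polynomial.C : R →+* Polynomial R))

instance flat_Rt : Module.Flat R (Rt R) :=
  haveI : Module.Flat (Polynomial R) (Rt R) := IsLocalization.flat (Rt R)
    ((IsLocalRing.maximalIdeal R).map (Polynomial.C : R →+* Polynomial R)).primeCompl
  Module.Flat.trans R (Polynomial R) (Rt R)

theorem isUnit_of_map_Rt {a : R} (h : IsUnit (algebraMap R (Rt R) a)) : IsUnit a := by
  rw [IsScalarTower.algebraMap_apply R (Polynomial R) (Rt R),
    IsLocalization.AtPrime.isUnit_to_map_iff _ ((IsLocalRing.maximalIdeal R).map Polynomial.C)] at h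
  by_contra ha
  exact h (Ideal.mem_map_of_mem _ ha)

theorem injective_Rt : Function.Injective (algebraMap R (Rt R)) := by
  rw [injective_iff_map_eq_zero]
  intro a ha
  rw [IsScalarTower.algebraMap_apply R (Polynomial R) (Rt R)] at ha
  obtain ⟨⟨s, hs⟩, h⟩ := (IsLocalization.map_eq_zero_iff
    ((IsLocalRing.maximalIdeal R).map (Polynomial.C : R →+* Polynomial R)).primeCompl (Rt R) _).1 ha
  have hs' : s ∉ (IsLocalRing.maximalIdeal R).map (Polynomial.C : R →+* Polynomial R) := hs
  rw [Ideal.mem_map_C_iff] at hs'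
  push Not at hs'
  obtain ⟨n, hn⟩ := hs'
  have hc := congrArg (fun p => Polynomial.coeff p n) h
  simp only [Polynomial.algebraMap_eq, Polynomial.coeff_mul_C, Polynomial.coeff_zero] at hc
  exact (IsLocalRing.notMem_maximalIdeal.1 hn).mul_right_eq_zero.1 hc

theorem fiveUnits_Rt : FiveUnits (Rt R) := by
  refine ⟨fun i => algebraMap (Polynomial R) (Rt R) (Polynomial.X ^ (i : ℕ)), fun i j hij => ?_⟩
  rw [← map_sub, IsLocalization.AtPrime.isUnit_to_map_iff _ ((IsLocalRing.maximalIdeal R).map Polynomial.C)]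
  intro h
  rw [SetLike.mem_coe, Ideal.mem_map_C_iff] at h
  have := h (i : ℕ)
  rw [Polynomial.coeff_sub, Polynomial.coeff_X_pow_self, Polynomial.coeff_X_pow,
    if_neg (fun e => hij (Fin.ext e)), sub_zero] at this
  exact this isUnit_one

end Rt

end Groth.L15.QG
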