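import Groth.Agent.L15.QG.CliffBasis
import Groth.Agent.L15.QG.Gen
import Mathlib.LinearAlgebra.CliffordAlgebra.Star

/-! The element `z` generating the centre of the even Clifford algebra. -/

set_option autoImplicit false

namespace Groth.L15.QG

open CliffordAlgebra

universe u v

variable {R : Type u} [CommRing R] {M : Type v} [AddCommGroup M] [Module R M] {Q : QuadraticForm R M}

/-- `δ = 2z - 1`. -/
abbrev del (z : CliffordAlgebra Q) : CliffordAlgebra Q := 2 * z - 1

/-- `z` behaves as the Arf element for vectors in `S` and commutes with those in `T`. -/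
structure IsZedOn (Q : QuadraticForm R M) (S T : Set M) (k : ℕ) (z : CliffordAlgebra Q) : Prop where
  even : z ∈ evenOdd Q 0
  anti : ∀ v ∈ S, ι Q v * z = (1 - z) * ι Q v
  comm : ∀ x ∈ T, ι Q x * z = z * ι Q x
  sq : ∃ c : R, z * z = z + algebraMap R _ c ∧ IsUnit (4 * c + 1)
  star_del : star (del z) = ((-1 : R) ^ k) • del z
  gen : ∀ G : CliffordAlgebra Q →ₐ[R] CliffordAlgebra Q, (∀ v ∈ S, G (ι Q v) = ι Q v) → G z = z

/-- An Arf element for all of `M`. -/
structure IsZed (Q : QuadraticForm R M) (z : CliffordAlgebra Q) : Prop where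
  even : z ∈ evenOdd Q 0
  anti : ∀ v, ι Q v * z = (1 - z) * ι Q v
  sq : ∃ c : R, z * z = z + algebraMap R _ c ∧ IsUnit (4 * c + 1)

theorem ι_mul_ef_add (e f : M) :
    ι Q e * (ι Q e * ι Q f) + (ι Q e * ι Q f) * ι Q e = QuadraticMap.polar Q e f • ι Q e := by
  have h : ι Q f * ι Q e = algebraMap R _ (QuadraticMap.polar Q f e) - ι Q e * ι Q f := ι_mul_ι_comm f e
  rw [mul_assoc (ι Q e) (ι Q f), h, mul_sub, ← Algebra.commutes, ← Algebra.smul_def, QuadraticMap.polar_comm]
  abel

theorem ι_mul_ef_add' (e f : M) :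
    ι Q f * (ι Q e * ι Q f) + (ι Q e * ι Q f) * ι Q f = QuadraticMap.polar Q e f • ι Q f := by
  have h : ι Q f * ι Q e = algebraMap R _ (QuadraticMap.polar Q f e) - ι Q e * ι Q f := ι_mul_ι_comm f e
  rw [← mul_assoc, h, sub_mul, ← Algebra.smul_def, QuadraticMap.polar_comm]
  abel

theorem ef_sq (e f : M) : (ι Q e * ι Q f) * (ι Q e * ι Q f) =
    QuadraticMap.polar Q e f • (ι Q e * ι Q f) - algebraMap R _ (Q e * Q f) := by
  have h : ι Q f * ι Q e = algebraMap R _ (QuadraticMap.polar Q f e) - ι Q e * ι Q f := ι_mul_ι_comm f e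
  calc (ι Q e * ι Q f) * (ι Q e * ι Q f) = ι Q e * (ι Q f * ι Q e) * ι Q f := by noncomm_ring
    _ = ι Q e * algebraMap R _ (QuadraticMap.polar Q f e) * ι Q f - (ι Q e * ι Q e) * (ι Q f * ι Q f) := by
        rw [h]; noncomm_ring
    _ = _ := by
        rw [ι_sq_scalar, ι_sq_scalar, ← map_mul, ← Algebra.commutes, ← Algebra.smul_def, smul_mul_assoc,
          QuadraticMap.polar_comm]

theorem IsZedOn.succ {S T : Set M} {k : ℕ} {z : CliffordAlgebra Q} (hz : IsZedOn Q S T k z) {e f : M} (he : e ∈ T)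
    (hf : f ∈ T) (hS : ∀ v ∈ S, QuadraticMap.polar Q e v = 0 ∧ QuadraticMap.polar Q f v = 0) {s t : R}
    (hs : IsUnit s) (hst : s * QuadraticMap.polar Q e f + 2 * t = 1) (hd : IsUnit (planeDisc Q e f)) :
    IsZedOn Q (insert e (insert f S)) (T ∩ {x | QuadraticMap.polar Q e x = 0 ∧ QuadraticMap.polar Q f x = 0}) (k + 1)
      (z + (s • (ι Q e * ι Q f) + algebraMap R _ t) - 2 * (z * (s • (ι Q e * ι Q f) + algebraMap R _ t))) := by
  set y := ι Q e * ι Q f with hy
  set w := s • y + algebraMap R (CliffordAlgebra Q) t with hw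
  have hze : z * ι Q e = ι Q e * z := (hz.comm e he).symm
  have hzf : z * ι Q f = ι Q f * z := (hz.comm f hf).symm
  have hzy : z * y = y * z := by
    rw [hy, ← mul_assoc, hze, mul_assoc, hzf, mul_assoc]
  have hzw : z * w = w * z := by
    rw [hw, mul_add, add_mul, mul_smul_comm, smul_mul_assoc, hzy, Algebra.commutes]
  have hwanti : ∀ v, ι Q v * y + y * ι Q v = QuadraticMap.polar Q e f • ι Q v → ι Q v * w = (1 - w) * ι Q v := by
    intro v hv
    have h1 : ι Q v * y = QuadraticMap.polar Q e f • ι Q v - y * ι Q v := by rw [← hv]; abel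
    rw [hw, mul_add, mul_smul_comm, h1, sub_mul, one_mul, add_mul, smul_mul_assoc, ← Algebra.commutes,
      ← Algebra.smul_def, smul_sub, smul_smul]
    rw [show s * QuadraticMap.polar Q e f = 1 - 2 * t by linear_combination hst]
    module
  have hwe : ι Q e * w = (1 - w) * ι Q e := hwanti e (ι_mul_ef_add e f)
  have hwf : ι Q f * w = (1 - w) * ι Q f := hwanti f (ι_mul_ef_add' e f)
  have hwcomm : ∀ v, QuadraticMap.polar Q e v = 0 → QuadraticMap.polar Q f v = 0 → ι Q v * w = w * ι Q v := by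
    intro v h1 h2
    have a1 : ι Q v * ι Q e = -(ι Q e * ι Q v) := by
      rw [ι_mul_ι_comm (Q := Q) v e, QuadraticMap.polar_comm, h1, map_zero, zero_sub]
    have a2 : ι Q v * ι Q f = -(ι Q f * ι Q v) := by
      rw [ι_mul_ι_comm (Q := Q) v f, QuadraticMap.polar_comm, h2, map_zero, zero_sub]
    have hvy : ι Q v * y = y * ι Q v := by
      rw [hy, ← mul_assoc, a1, neg_mul, mul_assoc, a2, mul_neg, neg_neg, mul_assoc]
    rw [hw, mul_add, add_mul, mul_smul_comm, smul_mul_assoc, hvy, Algebra.commutes]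
  have hwsq : w * w = w + algebraMap R _ (t * t - t - s * s * (Q e * Q f)) := by
    rw [hw, Algebra.algebraMap_eq_smul_one, Algebra.algebraMap_eq_smul_one]
    simp only [add_mul, mul_add, smul_mul_assoc, mul_smul_comm, one_mul, mul_one, smul_smul]
    rw [hy, ef_sq, Algebra.algebraMap_eq_smul_one, smul_sub, smul_smul, smul_smul,
      show s * QuadraticMap.polar Q e f = 1 - 2 * t by linear_combination hst]
    module
  have hweven : w ∈ evenOdd Q 0 :=
    Submodule.add_mem _ (Submodule.smul_mem _ _ (ι_mul_ι_mem_evenOdd_zero Q e f)) (SetLike.algebraMap_mem_graded _ t)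
  refine ⟨?_, ?_, ?_, ?_, ?_, fun G hG => ?_⟩
  · refine Submodule.sub_mem _ (Submodule.add_mem _ hz.even hweven) ?_
    rw [two_mul]
    have := SetLike.mul_mem_graded hz.even hweven
    rw [add_zero] at this
    exact Submodule.add_mem _ this this
  · intro v hv
    have key : ∀ u : CliffordAlgebra Q, (u * z = z * u ∧ u * w = (1 - w) * u) ∨ (u * z = (1 - z) * u ∧ u * w = w * u) →
        u * (z + w - 2 * (z * w)) = (1 - (z + w - 2 * (z * w))) * u := by
      rintro u (⟨h1, h2⟩ | ⟨h1, h2⟩)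
      · rw [mul_sub, mul_add, h1, h2, show u * (2 * (z * w)) = 2 * ((u * z) * w) by noncomm_ring, h1,
          mul_assoc z u w, h2]
        noncomm_ring
      · rw [mul_sub, mul_add, h1, h2, show u * (2 * (z * w)) = 2 * ((u * z) * w) by noncomm_ring, h1,
          mul_assoc (1 - z) u w, h2]
        noncomm_ring
    refine key (ι Q v) ?_
    rcases hv with rfl | rfl | hv
    · exact Or.inl ⟨hz.comm _ he, hwe⟩
    · exact Or.inl ⟨hz.comm _ hf, hwf⟩
    · exact Or.inr ⟨hz.anti v hv, hwcomm v (hS v hv).1 (hS v hv).2⟩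
  · rintro x ⟨hxT, hx1, hx2⟩
    rw [mul_sub, mul_add, hz.comm x hxT, hwcomm x hx1 hx2,
      show ι Q x * (2 * (z * w)) = 2 * ((ι Q x * z) * w) by noncomm_ring, hz.comm x hxT, mul_assoc z (ι Q x) w,
      hwcomm x hx1 hx2]
    noncomm_ring
  · obtain ⟨c, hc, hcu⟩ := hz.sq
    refine ⟨c + (t * t - t - s * s * (Q e * Q f)) + 4 * c * (t * t - t - s * s * (Q e * Q f)), ?_, ?_⟩
    · generalize t * t - t - s * s * (Q e * Q f) = a at hwsq ⊢
      have e1 : (z + w - 2 * (z * w)) * (z + w - 2 * (z * w)) =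
          z * z + w * w + 2 * (z * w) - 4 * ((z * z) * w) - 4 * (z * (w * w)) + 4 * ((z * z) * (w * w)) := by
        have e3 : z * w * (z * w) = z * z * (w * w) := by
          rw [mul_assoc z w (z * w), ← mul_assoc w z w, ← hzw, mul_assoc z w w, mul_assoc]
        have e4 : z * w * z = z * z * w := by rw [mul_assoc, ← hzw, mul_assoc]
        have e5 : w * (z * w) = z * (w * w) := by rw [← mul_assoc, ← hzw, mul_assoc]
        have e6 : z * w * w = z * (w * w) := mul_assoc _ _ _
        simp only [sub_mul, mul_sub, add_mul, mul_add, two_mul, e3, e4, e5, e6, ← mul_assoc z z w, ← hzw]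
        noncomm_ring
      rw [e1, hc, hwsq]
      simp only [add_mul, mul_add, ← Algebra.commutes a z, ← Algebra.smul_def, ← map_mul, ← mul_assoc]
      simp only [Algebra.algebraMap_eq_smul_one, mul_smul_comm, smul_mul_assoc, mul_one, one_mul, smul_smul,
        show (4 : CliffordAlgebra Q) = (4 : R) • 1 by rw [← Algebra.algebraMap_eq_smul_one, map_ofNat],
        show (2 : CliffordAlgebra Q) = (2 : R) • 1 by rw [← Algebra.algebraMap_eq_smul_one, map_ofNat]]
      module
    · have hexp : 4 * (c + (t * t - t - s * s * (Q e * Q f)) + 4 * c * (t * t - t - s * s * (Q e * Q f))) + 1 =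
          (4 * c + 1) * (-(s * s * planeDisc Q e f)) := by
        unfold planeDisc
        linear_combination (4 * c + 1) * (-(s * QuadraticMap.polar Q e f) + 2 * t - 1) * hst
      rw [hexp]
      exact hcu.mul ((hs.mul hs).mul hd).neg
  · have hfe : star y = QuadraticMap.polar Q e f • (1 : CliffordAlgebra Q) - y := by
      rw [hy, star_mul, CliffordAlgebra.star_ι, CliffordAlgebra.star_ι, neg_mul_neg, ι_mul_ι_comm,
        Algebra.algebraMap_eq_smul_one, QuadraticMap.polar_comm]
    have hsw : star (del w) = - del w := by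
      simp only [del, star_sub, star_one, two_mul, star_add]
      rw [hw, star_add, CliffordAlgebra.star_smul, CliffordAlgebra.star_algebraMap, hfe,
        Algebra.algebraMap_eq_smul_one, smul_sub, smul_smul,
        show s * QuadraticMap.polar Q e f = 1 - 2 * t by linear_combination hst]
      module
    have hdel : del (z + w - 2 * (z * w)) = -(del z * del w) := by simp only [del]; noncomm_ring
    have hcomm : del z * del w = del w * del z := by
      simp only [del, sub_mul, mul_sub, two_mul, add_mul, mul_add, mul_one, one_mul, hzw]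
      abel
    rw [hdel, star_neg, star_mul, hsw, hz.star_del, neg_mul, neg_neg, mul_smul_comm, ← hcomm, pow_succ', neg_one_mul,
      neg_smul, smul_neg, neg_neg]
  · have h1 : G z = z := hz.gen G fun v hv => hG v (Or.inr (Or.inr hv))
    have he' : G (ι Q e) = ι Q e := hG e (Or.inl rfl)
    have hf' : G (ι Q f) = ι Q f := hG f (Or.inr (Or.inl rfl))
    have hw' : G w = w := by rw [hw, hy, map_add, map_smul, map_mul, he', hf', AlgHom.commutes]
    rw [map_sub, map_add, map_mul, map_mul, map_ofNat, h1, hw']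

theorem exists_st [IsLocalRing R] {e f : M} (hd : IsUnit (planeDisc Q e f)) :
    ∃ s t : R, IsUnit s ∧ s * QuadraticMap.polar Q e f + 2 * t = 1 := by
  by_cases h2 : IsUnit (2 : R)
  · exact ⟨1, (↑h2.unit⁻¹ : R) * (1 - QuadraticMap.polar Q e f), isUnit_one, by
      linear_combination (1 - QuadraticMap.polar Q e f) * h2.val_inv_mul⟩
  · have hb : IsUnit (QuadraticMap.polar Q e f) := by
      by_contra hb
      refine (show planeDisc Q e f ∈ IsLocalRing.maximalIdeal R from ?_) hd
      rw [planeDisc, show (4 : R) * Q e * Q f = 2 * (2 * Q e * Q f) by ring]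
      exact Submodule.sub_mem _ (Ideal.mul_mem_right _ _ h2) (Ideal.mul_mem_right _ _ hb)
    exact ⟨↑hb.unit⁻¹, 0, Units.isUnit _, by rw [hb.val_inv_mul, mul_zero, add_zero]⟩

variable {m : ℕ}

theorem PFrame.exists_zedOn [IsLocalRing R] (F : PFrame Q m) : ∀ k ≤ m, ∃ z, IsZedOn Q
    {v | ∃ i : Fin m, (i : ℕ) < k ∧ (v = F.e i ∨ v = F.f i)}
    {x | ∀ i : Fin m, (i : ℕ) < k → QuadraticMap.polar Q (F.e i) x = 0 ∧ QuadraticMap.polar Q (F.f i) x = 0} k z := by
  intro k
  induction k with
  | zero =>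
    intro _
    refine ⟨0, Submodule.zero_mem _, ?_, fun x _ => by rw [mul_zero, zero_mul],
      ⟨0, by simp, by simp⟩, by simp [del], fun G _ => map_zero G⟩
    rintro v ⟨i, hi, -⟩
    omega
  | succ k ih =>
    intro hk
    obtain ⟨z, hz⟩ := ih (by omega)
    let j : Fin m := ⟨k, hk⟩
    have hne : ∀ i : Fin m, (i : ℕ) < k → i ≠ j := fun i hi h => by rw [h] at hi; exact lt_irrefl _ hi
    obtain ⟨s, t, hs, hst⟩ := exists_st (F.unit_disc j)
    have hze := hz.succ (e := F.e j) (f := F.f j)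
      (fun i hi => ⟨F.orth_ee i j (hne i hi), by rw [QuadraticMap.polar_comm]; exact F.orth_ef j i (hne i hi).symm⟩)
      (fun i hi => ⟨F.orth_ef i j (hne i hi), F.orth_ff i j (hne i hi)⟩)
      (by
        rintro v ⟨i, hi, rfl | rfl⟩
        · exact ⟨F.orth_ee j i (hne i hi).symm, by rw [QuadraticMap.polar_comm]; exact F.orth_ef i j (hne i hi)⟩
        · exact ⟨F.orth_ef j i (hne i hi).symm, F.orth_ff j i (hne i hi).symm⟩)
      hs hst (F.unit_disc j)
    refine ⟨_, hze.even, fun v hv => hze.anti v ?_, fun x hx => hze.comm x ?_, hze.sq, hze.star_del,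
      fun G hG => hze.gen G fun v hv => hG v ?_⟩
    · obtain ⟨i, hi, hv⟩ := hv
      rcases Nat.lt_succ_iff_lt_or_eq.1 hi with hi' | hi'
      · exact Or.inr (Or.inr ⟨i, hi', hv⟩)
      · obtain rfl : i = j := Fin.ext hi'
        rcases hv with rfl | rfl
        · exact Or.inl rfl
        · exact Or.inr (Or.inl rfl)
    · exact ⟨fun i hi => hx i (by omega), hx j (Nat.lt_succ_self k)⟩
    · rcases hv with rfl | rfl | ⟨i, hi, hv⟩
      · exact ⟨j, Nat.lt_succ_self k, Or.inl rfl⟩
      · exact ⟨j, Nat.lt_succ_self k, Or.inr rfl⟩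
      · exact ⟨i, by omega, hv⟩

/-- Extending the anticommutation rule by linearity. -/
theorem anti_of_span {s : Set M} (hs : Submodule.span R s = ⊤) {z : CliffordAlgebra Q}
    (h : ∀ v ∈ s, ι Q v * z = (1 - z) * ι Q v) (v : M) : ι Q v * z = (1 - z) * ι Q v := by
  have : (LinearMap.mulRight R z).comp (ι Q) = (LinearMap.mulLeft R (1 - z)).comp (ι Q) :=
    LinearMap.ext_on hs h
  exact LinearMap.congr_fun this v

theorem PFrame.exists_zed [IsLocalRing R] (F : PFrame Q m) (hF : F.IsEven) :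
    ∃ z, IsZed Q z ∧ star (del z) = ((-1 : R) ^ m) • del z := by
  obtain ⟨z, hz⟩ := F.exists_zedOn m le_rfl
  refine ⟨z, ⟨hz.even, anti_of_span hF ?_, hz.sq⟩, hz.star_del⟩
  rintro _ (⟨i, rfl⟩ | ⟨i, rfl⟩)
  · exact hz.anti _ ⟨i, i.isLt, Or.inl rfl⟩
  · exact hz.anti _ ⟨i, i.isLt, Or.inr rfl⟩

section EvenTheory

variable {z : CliffordAlgebra Q}

theorem IsZed.isUnit_del (hz : IsZed Q z) : IsUnit (del z) := by
  obtain ⟨c, hc, hu⟩ := hz.sq
  have h : del z * del z = algebraMap R _ (4 * c + 1) := by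
    rw [show del z * del z = 4 * (z * z) - 4 * z + 1 by simp only [del]; noncomm_ring, hc, map_add, map_mul,
      map_ofNat, map_one]
    noncomm_ring
  have hu' : IsUnit (algebraMap R (CliffordAlgebra Q) (4 * c + 1)) := hu.map _
  rw [← h] at hu'
  exact (Commute.isUnit_mul_iff (Commute.refl _)).1 hu' |>.1

theorem IsZed.del_mul_ι (hz : IsZed Q z) (v : M) : ι Q v * del z = -(del z * ι Q v) := by
  simp only [del, mul_sub, two_mul, mul_add, hz.anti v, sub_mul, add_mul, mul_one, one_mul]
  abel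

theorem del_mem_even (hz : z ∈ evenOdd Q 0) : del z ∈ evenOdd Q 0 := by
  simp only [del, two_mul]
  exact Submodule.sub_mem _ (Submodule.add_mem _ hz hz) (SetLike.one_mem_graded _)

/-- `z` is central in the even part. -/
theorem IsZed.commute_even (hz : IsZed Q z) {x : CliffordAlgebra Q} (hx : x ∈ evenOdd Q 0) : x * z = z * x := by
  induction x, hx using CliffordAlgebra.even_induction with
  | algebraMap r => exact Algebra.commutes r z
  | add x y _ _ ihx ihy => rw [add_mul, mul_add, ihx, ihy]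
  | ι_mul_ι_mul m₁ m₂ x _ ih =>
    have hvv : ι Q m₁ * ι Q m₂ * z = z * (ι Q m₁ * ι Q m₂) := by
      rw [mul_assoc, hz.anti m₂, ← mul_assoc, mul_sub, mul_one, hz.anti m₁,
        show ι Q m₁ - (1 - z) * ι Q m₁ = z * ι Q m₁ by noncomm_ring, mul_assoc]
    rw [mul_assoc, ih, ← mul_assoc, hvv, mul_assoc]

variable [Module.Free R M] [Module.Finite R M]

/-- An element supercommuting with all vectors is a scalar (regular form). -/
theorem scalar_of_supercommute (hQ : QuadGrp.IsRegular Q) {x : CliffordAlgebra Q}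
    (h : ∀ v, ι Q v * x = involute x * ι Q v) : x ∈ (algebraMap R (CliffordAlgebra Q)).range := by
  classical
  let b := Module.Free.chooseBasis R M
  letI : LinearOrder (Module.Free.ChooseBasisIndex R M) := linearOrderOfSTO WellOrderingRel
  refine mem_range_of_contract Q b x fun i => ?_
  obtain ⟨v, hv⟩ := hQ.2 (b.coord i)
  rw [← hv, ← ι_mul_sub_involute_mul, h v, sub_self]

/-- An even element anticommuting with vectors is a multiple of `δ`. -/
theorem IsZed.eq_smul_del (hz : IsZed Q z) (hQ : QuadGrp.IsRegular Q) {x : CliffordAlgebra Q}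
    (hx : x ∈ evenOdd Q 0) (h : ∀ v, ι Q v * x = -(x * ι Q v)) : ∃ c : R, x = c • del z := by
  have hxd : x * del z ∈ evenOdd Q 0 := by
    have := SetLike.mul_mem_graded hx (del_mem_even hz.even)
    rwa [add_zero] at this
  obtain ⟨a, ha⟩ := scalar_of_supercommute hQ (x := x * del z) (fun v => by
    rw [involute_eq_of_mem_even hxd, ← mul_assoc, h v, neg_mul, mul_assoc, hz.del_mul_ι v, mul_neg, neg_neg,
      mul_assoc])
  obtain ⟨c, hc, hu⟩ := hz.sq
  refine ⟨a * (↑hu.unit⁻¹ : R), hz.isUnit_del.mul_left_injective ?_⟩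
  show x * del z = (a * (↑hu.unit⁻¹ : R)) • del z * del z
  rw [smul_mul_assoc, show del z * del z = algebraMap R _ (4 * c + 1) by
    rw [show del z * del z = 4 * (z * z) - 4 * z + 1 by simp only [del]; noncomm_ring, hc, map_add, map_mul,
      map_ofNat, map_one]
    noncomm_ring, Algebra.smul_def, ← map_mul, mul_assoc, hu.val_inv_mul, mul_one, ← ha]

/-- The centre of the even Clifford algebra is spanned by `1` and `z`. -/
theorem IsZed.exists_of_central (hz : IsZed Q z) (hQ : QuadGrp.IsRegular Q) {v₀ : M} (hv₀ : IsUnit (Q v₀))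
    {x : CliffordAlgebra Q} (hx : x ∈ evenOdd Q 0)
    (h : ∀ y ∈ evenOdd Q 0, y * x = x * y) : ∃ a c : R, x = algebraMap R _ a + c • z := by
  obtain ⟨U, hU⟩ := isUnit_ι Q v₀ hv₀
  set x' := (U : CliffordAlgebra Q) * x * (↑U⁻¹ : CliffordAlgebra Q)
  have hx'U : ι Q v₀ * x = x' * ι Q v₀ := by
    rw [← hU]; simp [x', mul_assoc]
  have hinv : (↑U⁻¹ : CliffordAlgebra Q) = (↑hv₀.unit⁻¹ : R) • ι Q v₀ := by
    refine Units.inv_eq_of_mul_eq_one_right ?_
    rw [hU, mul_smul_comm, ι_sq_scalar, Algebra.smul_def, ← map_mul, hv₀.val_inv_mul, map_one]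
  have hx'even : x' ∈ evenOdd Q 0 := by
    simp only [x', hinv, hU, mul_smul_comm]
    refine Submodule.smul_mem _ _ ?_
    have := SetLike.mul_mem_graded (SetLike.mul_mem_graded (ι_mem_evenOdd_one Q v₀) hx) (ι_mem_evenOdd_one Q v₀)
    simpa [show (1 : ZMod 2) + 1 = 0 from rfl] using this
  have hvx : ∀ v, ι Q v * x = x' * ι Q v := by
    intro v
    have hxv : x * (ι Q v₀ * ι Q v) = ι Q v₀ * ι Q v * x := (h _ (ι_mul_ι_mem_evenOdd_zero Q v₀ v)).symm
    refine (isUnit_ι Q v₀ hv₀).mul_right_injective ?_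
    show ι Q v₀ * (ι Q v * x) = ι Q v₀ * (x' * ι Q v)
    rw [← mul_assoc, ← hxv]
    have hx'v₀ : ι Q v₀ * x' = x * ι Q v₀ := by
      have h0 : ι Q v₀ * ι Q v₀ * x = x * (ι Q v₀ * ι Q v₀) := h _ (ι_mul_ι_mem_evenOdd_zero Q v₀ v₀)
      refine (isUnit_ι Q v₀ hv₀).mul_left_injective ?_
      show ι Q v₀ * x' * ι Q v₀ = x * ι Q v₀ * ι Q v₀
      rw [mul_assoc, ← hx'U, ← mul_assoc, h0, mul_assoc]
    rw [← mul_assoc, ← mul_assoc, hx'v₀]
  have hx'v : ∀ v, ι Q v * x' = x * ι Q v := by
    intro v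
    refine (isUnit_ι Q v₀ hv₀).mul_left_injective ?_
    show ι Q v * x' * ι Q v₀ = x * ι Q v * ι Q v₀
    rw [mul_assoc, ← hx'U, ← mul_assoc, mul_assoc x, h _ (ι_mul_ι_mem_evenOdd_zero Q v v₀)]
  obtain ⟨a, ha⟩ := scalar_of_supercommute hQ (x := x + x') (fun v => by
    rw [involute_eq_of_mem_even (Submodule.add_mem _ hx hx'even), mul_add, add_mul, hvx, hx'v, add_comm])
  obtain ⟨c, hc⟩ := hz.eq_smul_del hQ (x := x - a • z)
    (Submodule.sub_mem _ hx (Submodule.smul_mem _ _ hz.even)) (fun v => by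
    rw [mul_sub, mul_smul_comm, hvx, hz.anti, sub_mul, one_mul, smul_sub, sub_mul, smul_mul_assoc,
      show x' = algebraMap R _ a - x by rw [ha]; abel, sub_mul, ← Algebra.smul_def]
    abel)
  refine ⟨-c, a + 2 * c, ?_⟩
  rw [show x = (x - a • z) + a • z by abel, hc, Algebra.algebraMap_eq_smul_one]
  simp only [del, two_mul]
  module

/-- An isometry sends `z` to `z` or to `1 - z`. -/
theorem IsZed.map_eq_or [IsLocalRing R] (hz : IsZed Q z) (hQ : QuadGrp.IsRegular Q) {g : M ≃ₗ[R] M}
    (hg : g ∈ QuadGrp.O Q) : CliffordAlgebra.map (QuadGrp.isometryOfMem Q g hg) z = z ∨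
      CliffordAlgebra.map (QuadGrp.isometryOfMem Q g hg) z = 1 - z := by
  set G := CliffordAlgebra.map (QuadGrp.isometryOfMem Q g hg) with hG
  have hGι : ∀ v, G (ι Q v) = ι Q (g v) := fun v => by rw [hG, map_apply_ι, QuadGrp.isometryOfMem_apply]
  have hGz : G z ∈ evenOdd Q 0 := by
    have : ∀ x ∈ evenOdd Q 0, G x ∈ evenOdd Q 0 := fun x hx => by
      induction x, hx using CliffordAlgebra.even_induction with
      | algebraMap r => rw [AlgHom.commutes]; exact SetLike.algebraMap_mem_graded _ r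
      | add x y _ _ ihx ihy => rw [map_add]; exact Submodule.add_mem _ ihx ihy
      | ι_mul_ι_mul m₁ m₂ x _ ih =>
        rw [map_mul, map_mul, hGι, hGι]
        exact zero_add (0 : ZMod 2) ▸ SetLike.mul_mem_graded (ι_mul_ι_mem_evenOdd_zero _ _ _) ih
    exact this z hz.even
  obtain ⟨c, hc⟩ := hz.eq_smul_del hQ (x := G z - z) (Submodule.sub_mem _ hGz hz.even) (fun v => by
    obtain ⟨w, rfl⟩ := g.surjective v
    have h1 : ι Q (g w) * G z = (1 - G z) * ι Q (g w) := by
      rw [← hGι, ← map_mul, hz.anti, map_mul, map_sub, map_one]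
    rw [mul_sub, h1, hz.anti]
    noncomm_ring)
  obtain ⟨a, ha, hu⟩ := hz.sq
  have hGG : G z * G z = G z + algebraMap R _ a := by rw [← map_mul, ha, map_add, AlgHom.commutes]
  have hGz' : G z = z + c • del z := by rw [← hc]; abel
  have hdd : del z * del z = algebraMap R _ (4 * a + 1) := by
    rw [show del z * del z = 4 * (z * z) - 4 * z + 1 by simp only [del]; noncomm_ring, ha, map_add, map_mul,
      map_ofNat, map_one]
    noncomm_ring
  have h1 : (c * (1 + c)) • (del z * del z) = 0 := by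
    rw [hGz'] at hGG
    have : (c * (1 + c)) • (del z * del z) =
        (z + c • del z) * (z + c • del z) - (z + c • del z) - (z * z - z) := by
      simp only [add_mul, mul_add, smul_mul_assoc, mul_smul_comm, smul_smul, del, sub_mul, mul_sub, two_mul,
        one_mul, mul_one]
      module
    rw [this, hGG, ha]; abel
  rw [hdd, Algebra.smul_def, ← map_mul] at h1
  have h2 : c * (1 + c) = 0 :=
    hu.mul_left_eq_zero.1 (algebraMap_injective Q (h1.trans (map_zero _).symm))
  rcases IsLocalRing.isUnit_or_isUnit_of_add_one (show (-c) + (1 + c) = (1 : R) by ring) with h | h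
  · right
    have h0 : 1 + c = 0 := h.mul_right_eq_zero.1 (by linear_combination -h2)
    rw [hGz', show c = -1 by linear_combination h0]
    simp only [del, two_mul]
    module
  · left
    rw [hGz', h.mul_left_eq_zero.1 h2, zero_smul, add_zero]

omit [Module.Finite R M] in
/-- `z ≠ 1 - z`. -/
theorem IsZed.ne_one_sub (hz : IsZed Q z) [Nontrivial R] : z ≠ 1 - z := by
  haveI : Nontrivial (CliffordAlgebra Q) := (algebraMap_injective Q).nontrivial
  intro h
  refine hz.isUnit_del.ne_zero ?_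
  simp only [del, two_mul]
  rw [sub_eq_zero, ← eq_sub_iff_add_eq]
  exact h

end EvenTheory

theorem map_refl_mul_ι (v : M) (hv : IsUnit (Q v)) (hg : refl Q v hv ∈ QuadGrp.O Q) (a : CliffordAlgebra Q) :
    CliffordAlgebra.map (QuadGrp.isometryOfMem Q (refl Q v hv) hg) a * ι Q v = ι Q v * involute a := by
  induction a using CliffordAlgebra.induction with
  | algebraMap r => rw [AlgHom.commutes, AlgHom.commutes]; exact Algebra.commutes r _
  | ι x => rw [map_apply_ι, QuadGrp.isometryOfMem_apply, ι_refl_mul_ι, involute_ι, mul_neg]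
  | mul a b ha hb => rw [map_mul, mul_assoc, hb, ← mul_assoc, ha, map_mul, mul_assoc]
  | add a b ha hb => rw [map_add, add_mul, ha, hb, map_add, mul_add]

theorem map_one_isometry (hg : (1 : M ≃ₗ[R] M) ∈ QuadGrp.O Q) (x : CliffordAlgebra Q) :
    CliffordAlgebra.map (QuadGrp.isometryOfMem Q 1 hg) x = x := by
  induction x using CliffordAlgebra.induction with
  | algebraMap r => rw [AlgHom.commutes]
  | ι v => rw [map_apply_ι, QuadGrp.isometryOfMem_apply]; rfl
  | mul a b ha hb => rw [map_mul, ha, hb]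
  | add a b ha hb => rw [map_add, ha, hb]

theorem map_mul_isometry {g h : M ≃ₗ[R] M} (hg : g ∈ QuadGrp.O Q) (hh : h ∈ QuadGrp.O Q) (hgh : g * h ∈ QuadGrp.O Q)
    (x : CliffordAlgebra Q) :
    CliffordAlgebra.map (QuadGrp.isometryOfMem Q (g * h) hgh) x =
      CliffordAlgebra.map (QuadGrp.isometryOfMem Q g hg) (CliffordAlgebra.map (QuadGrp.isometryOfMem Q h hh) x) := by
  induction x using CliffordAlgebra.induction with
  | algebraMap r => simp only [AlgHom.commutes]
  | ι v => simp only [map_apply_ι, QuadGrp.isometryOfMem_apply, LinearEquiv.mul_apply]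
  | mul a b ha hb => simp only [map_mul, ha, hb]
  | add a b ha hb => simp only [map_add, ha, hb]

theorem IsZed.map_refl {z : CliffordAlgebra Q} (hz : IsZed Q z) (v : M) (hv : IsUnit (Q v))
    (hg : refl Q v hv ∈ QuadGrp.O Q) :
    CliffordAlgebra.map (QuadGrp.isometryOfMem Q (refl Q v hv) hg) z = 1 - z := by
  refine (isUnit_ι Q v hv).mul_left_injective ?_
  show _ * ι Q v = _ * ι Q v
  rw [map_refl_mul_ι, involute_eq_of_mem_even hz.even, hz.anti]

theorem IsZed.map_reflProd {z : CliffordAlgebra Q} (hz : IsZed Q z) :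
    ∀ (l : List {v : M // IsUnit (Q v)}) (hg : reflProd l ∈ QuadGrp.O Q),
    CliffordAlgebra.map (QuadGrp.isometryOfMem Q (reflProd l) hg) z = if Even l.length then z else 1 - z := by
  intro l
  induction l with
  | nil => intro hg; rw [List.length_nil, if_pos Even.zero]; exact map_one_isometry hg z
  | cons v l ih =>
    intro hg
    refine (map_mul_isometry (refl_mem_O Q v.1 v.2) (reflProd_mem_O l) hg z).trans ?_
    rw [ih, List.length_cons]
    by_cases hl : Even l.length
    · rw [if_pos hl, if_neg (by simp [Nat.even_add_one, hl]), hz.map_refl]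
    · rw [if_neg hl, if_pos (by simp [Nat.even_add_one, hl]), map_sub, map_one, hz.map_refl, sub_sub_cancel]

/-- The odd central element. -/
structure IsOmega (Q : QuadraticForm R M) (m : ℕ) (w : CliffordAlgebra Q) : Prop where
  odd : w ∈ evenOdd Q 1
  comm : ∀ v, ι Q v * w = w * ι Q v
  sq : ∃ d : R, IsUnit d ∧ w * w = algebraMap R _ d
  star_eq : star w = ((-1 : R) ^ (m + 1)) • w

theorem PFrame.IsOdd.exists_omega [IsLocalRing R] {F : PFrame Q m} {r : M} (hF : F.IsOdd r) :
    ∃ z, IsOmega Q m (del z * ι Q r) ∧ z ∈ evenOdd Q 0 ∧ ι Q r * z = z * ι Q r ∧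
      (∀ i, ι Q (F.e i) * z = (1 - z) * ι Q (F.e i) ∧ ι Q (F.f i) * z = (1 - z) * ι Q (F.f i)) ∧
      (∀ G : CliffordAlgebra Q →ₐ[R] CliffordAlgebra Q, (∀ v ∈ F.vecs, G (ι Q v) = ι Q v) → G z = z) := by
  obtain ⟨z, hz⟩ := F.exists_zedOn m le_rfl
  have hrz : ι Q r * z = z * ι Q r := hz.comm r fun i _ => ⟨hF.orth_e i, hF.orth_f i⟩
  have hrd : ι Q r * del z = del z * ι Q r := by
    simp only [del, mul_sub, sub_mul, two_mul, mul_add, add_mul, hrz, mul_one, one_mul]
  have hanti : ∀ i, ι Q (F.e i) * z = (1 - z) * ι Q (F.e i) ∧ ι Q (F.f i) * z = (1 - z) * ι Q (F.f i) :=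
    fun i => ⟨hz.anti _ ⟨i, i.isLt, Or.inl rfl⟩, hz.anti _ ⟨i, i.isLt, Or.inr rfl⟩⟩
  refine ⟨z, ⟨?_, ?_, ?_, ?_⟩, hz.even, hrz, hanti, fun G hG => hz.gen G ?_⟩
  · have := SetLike.mul_mem_graded (del_mem_even hz.even) (ι_mem_evenOdd_one Q r)
    rwa [zero_add] at this
  · intro v
    have : (LinearMap.mulRight R (del z * ι Q r)).comp (ι Q) = (LinearMap.mulLeft R (del z * ι Q r)).comp (ι Q) := by
      refine LinearMap.ext_on hF.span ?_
      rintro p hp
      show ι Q p * (del z * ι Q r) = del z * ι Q r * ι Q p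
      rcases hp with rfl | hp
      · rw [← mul_assoc, hrd]
      · have hd : ι Q p * del z = -(del z * ι Q p) := by
          have ha : ι Q p * z = (1 - z) * ι Q p := by
            rcases hp with ⟨i, rfl⟩ | ⟨i, rfl⟩
            · exact (hanti i).1
            · exact (hanti i).2
          simp only [del, mul_sub, two_mul, mul_add, ha, sub_mul, add_mul, mul_one, one_mul]
          abel
        have ho : ι Q r * ι Q p = -(ι Q p * ι Q r) := by
          rw [ι_mul_ι_comm (Q := Q) r p, show QuadraticMap.polar Q r p = 0 by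
            rw [QuadraticMap.polar_comm]
            rcases hp with ⟨i, rfl⟩ | ⟨i, rfl⟩
            · exact hF.orth_e i
            · exact hF.orth_f i, map_zero, zero_sub]
        rw [← mul_assoc, hd, neg_mul, mul_assoc, mul_assoc, ho, mul_neg]
    exact LinearMap.congr_fun this v
  · obtain ⟨c, hc, hu⟩ := hz.sq
    refine ⟨(4 * c + 1) * Q r, hu.mul hF.unit_r, ?_⟩
    rw [show del z * ι Q r * (del z * ι Q r) = del z * (ι Q r * del z) * ι Q r by noncomm_ring, hrd,
      show del z * (del z * ι Q r) * ι Q r = del z * del z * (ι Q r * ι Q r) by noncomm_ring, ι_sq_scalar, map_mul,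
      show del z * del z = 4 * (z * z) - 4 * z + 1 by simp only [del]; noncomm_ring, hc, map_add, map_mul, map_ofNat,
      map_one]
    noncomm_ring
  · rw [star_mul, hz.star_del, CliffordAlgebra.star_ι, mul_smul_comm, neg_mul, hrd, pow_succ', neg_one_mul,
      neg_smul, smul_neg]
  · rintro v ⟨i, -, rfl | rfl⟩
    · exact hG _ (Or.inl ⟨i, rfl⟩)
    · exact hG _ (Or.inr ⟨i, rfl⟩)

end Groth.L15.QG
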