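import Groth.Agent.L15.QG.BaseChange
import Groth.Agent.L15.QG.Zed
import Groth.Agent.L15.QuadHalf
import Mathlib.RingTheory.Localization.AtPrime.Basic
import Mathlib.RingTheory.Localization.Integer
import Mathlib.RingTheory.Localization.Finiteness
import Mathlib.LinearAlgebra.TensorProduct.Basis
import Mathlib.LinearAlgebra.Charpoly.BaseChange

/-! Base change and local-global tools for Clifford algebras and isometries. -/

set_option autoImplicit false

namespace Groth.L15.QG

open TensorProduct CliffordAlgebra

universe u v w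

variable {R : Type u} [CommRing R] {M : Type v} [AddCommGroup M] [Module R M] [Module.Free R M]
variable (A : Type w) [CommRing A] [Algebra R A] {Q : QuadraticForm R M}

local notation "QA" => QuadGrp.baseChangeForm A Q

theorem polar_one_tmul (x y : M) :
    QuadraticMap.polar QA ((1 : A) ⊗ₜ[R] x) ((1 : A) ⊗ₜ[R] y) = algebraMap R A (QuadraticMap.polar Q x y) := by
  simp [QuadraticMap.polar, ← TensorProduct.tmul_add, baseChangeForm_tmul, map_sub]

theorem form_one_tmul (x : M) : QA ((1 : A) ⊗ₜ[R] x) = algebraMap R A (Q x) := by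
  simp [baseChangeForm_tmul]

theorem span_one_tmul (s : Set M) (hs : Submodule.span R s = ⊤) :
    Submodule.span A ((fun m => (1 : A) ⊗ₜ[R] m) '' s) = ⊤ := by
  refine Submodule.eq_top_iff'.2 fun x => ?_
  induction x using TensorProduct.induction_on with
  | zero => exact zero_mem _
  | tmul a m =>
    have hm : (1 : A) ⊗ₜ[R] m ∈ Submodule.span A ((fun m => (1 : A) ⊗ₜ[R] m) '' s) := by
      have : m ∈ Submodule.span R s := hs ▸ Submodule.mem_top
      induction this using Submodule.span_induction with
      | mem y hy => exact Submodule.subset_span ⟨y, hy, rfl⟩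
      | zero => simp
      | add y z _ _ hy hz => rw [TensorProduct.tmul_add]; exact Submodule.add_mem _ hy hz
      | smul c y _ hy =>
        rw [TensorProduct.tmul_smul, ← algebraMap_smul A c]
        exact Submodule.smul_mem _ _ hy
    rw [show a ⊗ₜ[R] m = a • ((1 : A) ⊗ₜ[R] m) by rw [TensorProduct.smul_tmul', smul_eq_mul, mul_one]]
    exact Submodule.smul_mem _ _ hm
  | add x y hx hy => exact Submodule.add_mem _ hx hy

/-- Base change of a frame. -/
noncomputable def PFrame.baseChange {m : ℕ} (F : PFrame Q m) : PFrame QA m where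
  e i := (1 : A) ⊗ₜ[R] F.e i
  f i := (1 : A) ⊗ₜ[R] F.f i
  unit_e i := by rw [form_one_tmul]; exact (F.unit_e i).map _
  unit_disc i := by
    have : planeDisc QA ((1 : A) ⊗ₜ[R] F.e i) ((1 : A) ⊗ₜ[R] F.f i) = algebraMap R A (planeDisc Q (F.e i) (F.f i)) := by
      simp [planeDisc, form_one_tmul, polar_one_tmul, map_sub, map_mul, map_ofNat]
    rw [this]; exact (F.unit_disc i).map _
  orth_ee i j h := by rw [polar_one_tmul, F.orth_ee i j h, map_zero]
  orth_ef i j h := by rw [polar_one_tmul, F.orth_ef i j h, map_zero]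
  orth_ff i j h := by rw [polar_one_tmul, F.orth_ff i j h, map_zero]

theorem PFrame.vecs_baseChange {m : ℕ} (F : PFrame Q m) :
    (F.baseChange A).vecs = (fun x => (1 : A) ⊗ₜ[R] x) '' F.vecs := by
  simp only [PFrame.vecs, Set.image_union, ← Set.range_comp]
  rfl

theorem PFrame.IsEven.baseChange {m : ℕ} {F : PFrame Q m} (hF : F.IsEven) : (F.baseChange A).IsEven := by
  rw [PFrame.IsEven, F.vecs_baseChange A]
  exact span_one_tmul A _ hF

theorem PFrame.IsOdd.baseChange {m : ℕ} {F : PFrame Q m} {r : M} (hF : F.IsOdd r) :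
    (F.baseChange A).IsOdd ((1 : A) ⊗ₜ[R] r) where
  unit_r := by rw [form_one_tmul]; exact hF.unit_r.map _
  orth_e i := by show QuadraticMap.polar QA ((1 : A) ⊗ₜ[R] F.e i) _ = 0; rw [polar_one_tmul, hF.orth_e i, map_zero]
  orth_f i := by show QuadraticMap.polar QA ((1 : A) ⊗ₜ[R] F.f i) _ = 0; rw [polar_one_tmul, hF.orth_f i, map_zero]
  span := by
    rw [F.vecs_baseChange A, ← Set.image_insert_eq (f := fun x => (1 : A) ⊗ₜ[R] x)]
    exact span_one_tmul A _ hF.span

theorem isRegular_baseChange [Module.Finite R M] (hQ : QuadGrp.IsRegular Q) : QuadGrp.IsRegular QA := by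
  classical
  let b := Module.Free.chooseBasis R M
  refine isRegular_of_isUnit_det (b.baseChange A) QA ?_
  have he : LinearMap.toMatrix b b.dualBasis (LinearEquiv.ofBijective Q.polarBilin hQ).toLinearMap =
      (Matrix.of fun i j => QuadraticMap.polar Q (b i) (b j)).transpose := by
    refine Matrix.ext fun i j => ?_
    rw [LinearMap.toMatrix_apply, Matrix.transpose_apply, Matrix.of_apply, Module.Basis.dualBasis_repr]
    rfl
  have h := LinearEquiv.isUnit_det (LinearEquiv.ofBijective Q.polarBilin hQ) b b.dualBasis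
  rw [he, Matrix.det_transpose] at h
  have heq : (Matrix.of fun i j => QuadraticMap.polar QA ((b.baseChange A) i) ((b.baseChange A) j)) =
      (algebraMap R A).mapMatrix (Matrix.of fun i j => QuadraticMap.polar Q (b i) (b j)) := by
    refine Matrix.ext fun i j => ?_
    simp [Module.Basis.baseChange_apply, polar_one_tmul]
  rw [heq, ← RingHom.map_det]
  exact h.map _

theorem isSemiregular_baseChange {n : ℕ} (b : Module.Basis (Fin n) R M)
    (hQ : QuadGrp.IsSemiregular b (LinearEquiv.refl R R) Q) :
    QuadGrp.IsSemiregular (b.baseChange A) (LinearEquiv.refl A A) QA := by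
  have hs : Specialises (algebraMap R A) (b.baseChange A) QA b Q := by
    intro x
    have hx : ∑ i, algebraMap R A (x i) • b.baseChange A i = (1 : A) ⊗ₜ[R] (∑ i, x i • b i) := by
      rw [TensorProduct.tmul_sum]
      refine Finset.sum_congr rfl fun i _ => ?_
      rw [Module.Basis.baseChange_apply, TensorProduct.smul_tmul', TensorProduct.tmul_smul,
        TensorProduct.smul_tmul', algebraMap_smul]
    rw [hx, form_one_tmul]
  show IsUnit _
  rw [← hs.map_halfDisc]
  exact hQ.map _

theorem baseChange_mem_O {g : M ≃ₗ[R] M} (hg : g ∈ QuadGrp.O Q) : g.baseChange R A M M ∈ QuadGrp.O QA := by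
  intro x
  have h : (QA).comp (g.baseChange R A M M).toLinearMap = QA := by
    refine _root_.baseChange_ext fun m => ?_
    simp [form_one_tmul, hg m]
  exact congrArg (fun q : QuadraticForm A (A ⊗[R] M) => q x) h

theorem map_toC {g : M ≃ₗ[R] M} (hg : g ∈ QuadGrp.O Q) (x : CliffordAlgebra Q) :
    CliffordAlgebra.map (QuadGrp.isometryOfMem QA _ (baseChange_mem_O A hg)) (toC A Q x) =
      toC A Q (CliffordAlgebra.map (QuadGrp.isometryOfMem Q g hg) x) := by
  induction x using CliffordAlgebra.induction with
  | algebraMap r => simp only [AlgHom.commutes, IsScalarTower.algebraMap_apply R A (CliffordAlgebra QA)]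
  | ι v => simp [toC_ι, QuadGrp.isometryOfMem_apply]
  | mul a b ha hb => simp only [map_mul, ha, hb]
  | add a b ha hb => simp only [map_add, ha, hb]

omit [Module.Free R M] in
theorem det_baseChange_equiv [Module.Free R M] [Module.Finite R M] (g : M ≃ₗ[R] M) :
    LinearMap.det (g.baseChange R A M M).toLinearMap = algebraMap R A (LinearMap.det g.toLinearMap) := by
  rw [← LinearMap.det_baseChange]; rfl

theorem toC_smul (r : R) (x : CliffordAlgebra Q) : toC A Q (r • x) = algebraMap R A r • toC A Q x := by
  rw [map_smul, algebraMap_smul]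

variable {A}

theorem isZed_toC {z : CliffordAlgebra Q} (hz : IsZed Q z) : IsZed QA (toC A Q z) where
  even := toC_mem_evenOdd A Q hz.even
  anti := by
    intro v
    induction v using TensorProduct.induction_on with
    | zero => simp
    | tmul a m =>
      rw [show a ⊗ₜ[R] m = a • ((1 : A) ⊗ₜ[R] m) by rw [TensorProduct.smul_tmul', smul_eq_mul, mul_one],
        map_smul, smul_mul_assoc, mul_smul_comm, ← toC_ι, ← map_mul, hz.anti, map_mul, map_sub, map_one]
    | add x y hx hy => rw [map_add, add_mul, mul_add, hx, hy]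
  sq := by
    obtain ⟨c, hc, hu⟩ := hz.sq
    refine ⟨algebraMap R A c, ?_, ?_⟩
    · rw [← map_mul, hc, map_add, AlgHom.commutes, IsScalarTower.algebraMap_apply R A]
    · rw [show 4 * algebraMap R A c + 1 = algebraMap R A (4 * c + 1) by simp [map_ofNat]]; exact hu.map _

theorem toC_mem_central {x : CliffordAlgebra Q} (h : ∀ y ∈ evenOdd Q 0, y * x = x * y)
    {y : CliffordAlgebra QA} (hy : y ∈ evenOdd QA 0) : y * toC A Q x = toC A Q x * y := by
  induction y, hy using CliffordAlgebra.even_induction with
  | algebraMap r => exact Algebra.commutes r _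
  | add a b _ _ ha hb => rw [add_mul, mul_add, ha, hb]
  | ι_mul_ι_mul m₁ m₂ w _ ih =>
    have key : ∀ p q : A ⊗[R] M, ι QA p * ι QA q * toC A Q x = toC A Q x * (ι QA p * ι QA q) := by
      intro p q
      induction p using TensorProduct.induction_on with
      | zero => simp
      | add a b ha hb => simp only [map_add, add_mul, mul_add, ha, hb]
      | tmul a m =>
        induction q using TensorProduct.induction_on with
        | zero => simp
        | add c d hc hd => simp only [map_add, add_mul, mul_add, hc, hd]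
        | tmul c n =>
          rw [show a ⊗ₜ[R] m = a • ((1 : A) ⊗ₜ[R] m) by rw [TensorProduct.smul_tmul', smul_eq_mul, mul_one],
            show c ⊗ₜ[R] n = c • ((1 : A) ⊗ₜ[R] n) by rw [TensorProduct.smul_tmul', smul_eq_mul, mul_one],
            map_smul, map_smul, smul_mul_smul_comm, smul_mul_assoc, mul_smul_comm, ← toC_ι, ← toC_ι,
            ← map_mul (toC A Q), ← map_mul (toC A Q), ← map_mul (toC A Q), h _ (ι_mul_ι_mem_evenOdd_zero Q m n)]
    rw [mul_assoc, ih, ← mul_assoc, key, mul_assoc]

theorem central_of_gen {ι' : Type*} (b : Module.Basis ι' R M) {x : CliffordAlgebra Q}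
    (h : ∀ i j, ι Q (b i) * ι Q (b j) * x = x * (ι Q (b i) * ι Q (b j)))
    {y : CliffordAlgebra Q} (hy : y ∈ evenOdd Q 0) : y * x = x * y := by
  have key : ∀ p q : M, ι Q p * ι Q q * x = x * (ι Q p * ι Q q) := by
    intro p q
    have h1 : ∀ i, ι Q (b i) * ι Q q * x = x * (ι Q (b i) * ι Q q) := fun i => by
      have : (LinearMap.mulRight R x).comp ((LinearMap.mulLeft R (ι Q (b i))).comp (ι Q)) =
          (LinearMap.mulLeft R x).comp ((LinearMap.mulLeft R (ι Q (b i))).comp (ι Q)) := b.ext fun j => h i j
      exact LinearMap.congr_fun this q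
    have : (LinearMap.mulRight R x).comp ((LinearMap.mulRight R (ι Q q)).comp (ι Q)) =
        (LinearMap.mulLeft R x).comp ((LinearMap.mulRight R (ι Q q)).comp (ι Q)) := b.ext fun i => h1 i
    exact LinearMap.congr_fun this p
  induction y, hy using CliffordAlgebra.even_induction with
  | algebraMap r => exact Algebra.commutes r _
  | add a b _ _ ha hb => rw [add_mul, mul_add, ha, hb]
  | ι_mul_ι_mul m₁ m₂ w _ ih => rw [mul_assoc, ih, ← mul_assoc, key, mul_assoc]

section Coef

variable {I : Type*} (B : Module.Basis I R (CliffordAlgebra Q))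

/-- A basis of the base-changed Clifford algebra. -/
noncomputable def basisA (A : Type w) [CommRing A] [Algebra R A] :
    Module.Basis I A (CliffordAlgebra (QuadGrp.baseChangeForm A Q)) :=
  (B.baseChange A).map (baseChangeEquiv A Q).toLinearEquiv

theorem basisA_repr_toC (x : CliffordAlgebra Q) (i : I) :
    (basisA B A).repr (toC A Q x) i = algebraMap R A (B.repr x i) := by
  rw [← baseChangeEquiv_one_tmul]
  show ((B.baseChange A).repr ((baseChangeEquiv A Q).toLinearEquiv.symm ((baseChangeEquiv A Q).toLinearEquiv ((1 : A) ⊗ₜ[R] x)))) i = _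
  rw [LinearEquiv.symm_apply_apply, Module.Basis.baseChange_repr_tmul, Algebra.smul_def, mul_one]

theorem basisA_apply (i : I) : basisA B A i = toC A Q (B i) := by
  rw [basisA, Module.Basis.map_apply, Module.Basis.baseChange_apply]
  exact baseChangeEquiv_one_tmul A Q (B i)

end Coef

section Localisation

variable [Module.Finite R M] (S : Submonoid R) [IsLocalization S A]

include S in
/-- An element dying in a localisation is killed by a denominator. -/
theorem exists_smul_eq_zero {x : CliffordAlgebra Q} (hx : toC A Q x = 0) : ∃ s ∈ S, s • x = 0 := by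
  classical
  haveI := (free_clifford Q).1
  haveI := (free_clifford Q).2
  let B := Module.Free.chooseBasis R (CliffordAlgebra Q)
  have h : ∀ i, ∃ s : S, (s : R) * B.repr x i = 0 := fun i => by
    refine (IsLocalization.map_eq_zero_iff S A _).1 ?_
    rw [← basisA_repr_toC B x i, hx, map_zero]; rfl
  choose s hs using h
  refine ⟨∏ i, (s i : R), S.prod_mem fun i _ => (s i).2, ?_⟩
  refine B.repr.injective (Finsupp.ext fun i => ?_)
  rw [map_smul, Finsupp.smul_apply, map_zero, Finsupp.zero_apply, smul_eq_mul,
    ← Finset.mul_prod_erase Finset.univ _ (Finset.mem_univ i), mul_assoc, mul_left_comm, hs, mul_zero]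

/-- Clearing denominators. -/
theorem exists_lift (y : CliffordAlgebra QA) : ∃ s ∈ S, ∃ x, toC A Q x = algebraMap R A s • y := by
  classical
  haveI := (free_clifford Q).1
  haveI := (free_clifford Q).2
  let B := Module.Free.chooseBasis R (CliffordAlgebra Q)
  obtain ⟨⟨s, hs⟩, h⟩ := IsLocalization.exist_integer_multiples_of_finite S fun i => (basisA B A).repr y i
  choose r hr using h
  refine ⟨s, hs, ∑ i, r i • B i, (basisA B A).repr.injective (Finsupp.ext fun i => ?_)⟩
  rw [basisA_repr_toC, B.repr_sum_self, map_smul, Finsupp.smul_apply, smul_eq_mul, ← Algebra.smul_def, hr]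

/-- Even elements lift to even elements. -/
theorem exists_lift_even {y : CliffordAlgebra QA} (hy : y ∈ evenOdd QA 0) :
    ∃ s ∈ S, ∃ x ∈ evenOdd Q 0, toC A Q x = algebraMap R A s • y := by
  obtain ⟨s, hs, x, hx⟩ := exists_lift S y
  obtain ⟨a, ha, c, hc, rfl⟩ := exists_even_odd Q x
  refine ⟨s, hs, a, ha, ?_⟩
  rw [map_add] at hx
  exact (parts_unique QA (toC_mem_evenOdd A Q ha) (Submodule.smul_mem _ _ hy) (toC_mem_evenOdd A Q hc)
    (Submodule.zero_mem _) (hx.trans (add_zero _).symm)).1

include S in
/-- Central elements of the even part lift. -/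
theorem exists_central_lift {y : CliffordAlgebra QA} (hy : y ∈ evenOdd QA 0)
    (hc : ∀ w ∈ evenOdd QA 0, w * y = y * w) :
    ∃ s ∈ S, ∃ x ∈ evenOdd Q 0, (∀ w ∈ evenOdd Q 0, w * x = x * w) ∧ toC A Q x = algebraMap R A s • y := by
  classical
  obtain ⟨s, hs, x, hxe, hx⟩ := exists_lift_even S hy
  let b := Module.Free.chooseBasis R M
  have h : ∀ ij : _ × _, ∃ t ∈ S, t • (ι Q (b ij.1) * ι Q (b ij.2) * x - x * (ι Q (b ij.1) * ι Q (b ij.2))) = 0 := by
    intro ij
    refine exists_smul_eq_zero (A := A) S ?_
    rw [map_sub, map_mul, map_mul (toC A Q) x, hx, mul_smul_comm, smul_mul_assoc,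
      hc _ (toC_mem_evenOdd A Q (ι_mul_ι_mem_evenOdd_zero Q _ _)), sub_self]
  choose t ht hkill using h
  let T := ∏ ij, t ij
  refine ⟨T * s, S.mul_mem (S.prod_mem fun ij _ => ht ij) hs, T • x, Submodule.smul_mem _ _ hxe, ?_, ?_⟩
  · intro w hw
    refine central_of_gen b (fun i j => ?_) hw
    rw [mul_smul_comm, smul_mul_assoc, ← sub_eq_zero, ← smul_sub]
    show (∏ ij, t ij) • _ = (0 : CliffordAlgebra Q)
    rw [← Finset.prod_erase_mul Finset.univ _ (Finset.mem_univ (i, j)), mul_smul, hkill, smul_zero]
  · rw [toC_smul, hx, smul_smul, map_mul]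

end Localisation

/-- Elements agreeing at all maximal ideals are equal. -/
theorem eq_of_forall_localization [Module.Finite R M] {x y : CliffordAlgebra Q}
    (h : ∀ P : Ideal R, ∀ [P.IsMaximal], toC (Localization.AtPrime P) Q x = toC (Localization.AtPrime P) Q y) :
    x = y := by
  classical
  rw [← sub_eq_zero]
  by_contra hne
  let I : Ideal R :=
    { carrier := {r | r • (x - y) = 0}
      add_mem' := fun {a b} ha hb => by
        show (a + b) • (x - y) = 0
        rw [add_smul, show a • (x - y) = 0 from ha, show b • (x - y) = 0 from hb, add_zero]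
      zero_mem' := zero_smul R _
      smul_mem' := fun c a ha => by
        show (c * a) • (x - y) = 0
        rw [mul_smul, show a • (x - y) = 0 from ha, smul_zero] }
  have hI : I ≠ ⊤ := fun e => hne (by
    have : (1 : R) • (x - y) = 0 := (e ▸ Submodule.mem_top : (1 : R) ∈ I)
    rwa [one_smul] at this)
  obtain ⟨P, hP, hIP⟩ := Ideal.exists_le_maximal I hI
  obtain ⟨s, hs, hs0⟩ := exists_smul_eq_zero (A := Localization.AtPrime P) P.primeCompl
    (show toC (Localization.AtPrime P) Q (x - y) = 0 by rw [map_sub, h P, sub_self])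
  exact hs (hIP hs0)

/-- Elements of `R` agreeing at all maximal ideals are equal. -/
theorem eq_of_forall_algebraMap {a b : R}
    (h : ∀ P : Ideal R, ∀ [P.IsMaximal], algebraMap R (Localization.AtPrime P) a = algebraMap R _ b) : a = b := by
  rw [← sub_eq_zero]
  by_contra hne
  let I : Ideal R :=
    { carrier := {r | r * (a - b) = 0}
      add_mem' := fun {c d} hc hd => by
        show (c + d) * (a - b) = 0
        rw [add_mul, show c * (a - b) = 0 from hc, show d * (a - b) = 0 from hd, add_zero]
      zero_mem' := zero_mul _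
      smul_mem' := fun c d hd => by
        show c * d * (a - b) = 0
        rw [mul_assoc, show d * (a - b) = 0 from hd, mul_zero] }
  have hI : I ≠ ⊤ := fun e => hne (by
    have : (1 : R) * (a - b) = 0 := (e ▸ Submodule.mem_top : (1 : R) ∈ I)
    rwa [one_mul] at this)
  obtain ⟨P, hP, hIP⟩ := Ideal.exists_le_maximal I hI
  obtain ⟨⟨s, hs⟩, hs0⟩ := (IsLocalization.map_eq_zero_iff P.primeCompl (Localization.AtPrime P) (a - b)).1
    (by rw [map_sub, h P, sub_self])
  exact hs (hIP hs0)

/-- Scalars can be detected locally. -/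
theorem mem_range_of_forall_localization [Module.Finite R M] {x : CliffordAlgebra Q}
    (h : ∀ P : Ideal R, ∀ [P.IsMaximal],
      toC (Localization.AtPrime P) Q x ∈ (algebraMap (Localization.AtPrime P) _).range) :
    x ∈ (algebraMap R (CliffordAlgebra Q)).range := by
  classical
  let b := Module.Free.chooseBasis R M
  letI : LinearOrder (Module.Free.ChooseBasisIndex R M) := linearOrderOfSTO WellOrderingRel
  let B := cliffBasis Q b
  have hB : B ∅ = 1 := by
    refine (toExt Q).injective ?_
    obtain ⟨l, hl, he⟩ := basis_eq_prod b ∅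
    have hnil : l = [] := List.eq_nil_iff_forall_not_mem.2 fun i hi => by simpa using (hl i).1 hi
    rw [show toExt Q (B ∅) = b.ExteriorAlgebra ∅ from (toExt Q).apply_symm_apply _, he, hnil, List.map_nil,
      List.prod_nil, toExt_one]
  refine ⟨B.repr x ∅, eq_of_forall_localization fun P _ => ?_⟩
  obtain ⟨a, ha⟩ := h P
  rw [AlgHom.commutes, IsScalarTower.algebraMap_apply R (Localization.AtPrime P), ← basisA_repr_toC B x, ← ha]
  congr 1
  have : algebraMap (Localization.AtPrime P) _ a = a • basisA B (Localization.AtPrime P) ∅ := by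
    rw [basisA_apply, hB, map_one, Algebra.algebraMap_eq_smul_one]
  rw [this, map_smul, Module.Basis.repr_self, Finsupp.smul_apply, Finsupp.single_eq_same, smul_eq_mul, mul_one]

end Groth.L15.QG
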