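import Mathlib.Algebra.MvPolynomial.CommRing
import Mathlib.Algebra.MonoidAlgebra.NoZeroDivisors
import Mathlib.RingTheory.Ideal.Basic
import Mathlib.Tactic.Ring

/-! McCoy-type lemma: a polynomial whose coefficients generate the unit ideal is a nonzerodivisor. -/

set_option autoImplicit false

namespace Groth.L15.QG

open MvPolynomial

variable {R : Type*} [CommRing R] {σ : Type*}

theorem exists_pow_coeff_mul_eq_zero : ∀ (n : ℕ) (p f : MvPolynomial σ R),
    p.support.card + f.support.card ≤ n → p * f = 0 → ∀ s, ∃ N : ℕ, C (p.coeff s ^ N) * f = 0 := by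
  classical
  intro n
  induction n with
  | zero =>
    intro p f h _ s
    have hf : f = 0 := by
      rw [← support_eq_empty, ← Finset.card_eq_zero]; omega
    exact ⟨0, by rw [hf, mul_zero]⟩
  | succ n ih =>
    intro p f h hpf s
    rcases eq_or_ne p 0 with hp | hp
    · exact ⟨1, by rw [hp]; simp⟩
    rcases eq_or_ne f 0 with hf | hf
    · exact ⟨0, by rw [hf, mul_zero]⟩
    have hp' : p.support.Nonempty := Finset.nonempty_iff_ne_empty.2 fun e => hp (support_eq_empty.1 e)
    have hf' : f.support.Nonempty := Finset.nonempty_iff_ne_empty.2 fun e => hf (support_eq_empty.1 e)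
    obtain ⟨a0, ha0, b0, hb0, hu⟩ := UniqueSums.uniqueAdd_of_nonempty hp' hf'
    set a := p.coeff a0 with ha
    have hab : a * f.coeff b0 = 0 := by
      have := AddMonoidAlgebra.coeff_mul_add_of_uniqueAdd hu
      rw [hpf] at this
      exact this.symm
    have haf : (C a * f).support.card < f.support.card := by
      refine Finset.card_lt_card ((Finset.ssubset_iff_of_subset fun t ht => ?_).2 ⟨b0, hb0, fun h0 => ?_⟩)
      · rw [mem_support_iff, coeff_C_mul] at ht
        rw [mem_support_iff]
        exact fun e => ht (by rw [e, mul_zero])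
      · rw [mem_support_iff, coeff_C_mul] at h0
        exact h0 hab
    have hpaf : p * (C a * f) = 0 := by rw [mul_left_comm, hpf, mul_zero]
    obtain ⟨N, hN⟩ := ih p (C a * f) (by omega) hpaf s
    rcases eq_or_ne s a0 with rfl | hs
    · exact ⟨N + 1, by rw [pow_succ, C_mul, mul_assoc, ← ha]; exact hN⟩
    let p' := p - monomial a0 a
    have hp's : p'.coeff s = p.coeff s := by
      simp [p', coeff_monomial, Ne.symm hs]
    have hcard : p'.support.card < p.support.card := by
      refine Finset.card_lt_card ((Finset.ssubset_iff_of_subset fun t ht => ?_).2 ⟨a0, ha0, fun h0 => ?_⟩)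
      · rw [mem_support_iff] at ht ⊢
        intro e
        refine ht ?_
        simp only [p', coeff_sub, coeff_monomial, e]
        split_ifs with h'
        · subst h'; rw [ha, e, sub_zero]
        · rw [sub_zero]
      · rw [mem_support_iff] at h0
        exact h0 (by simp [p', ha])
    have hp'f : p' * (C (p.coeff s ^ N) * f) = 0 := by
      have hmon : (monomial a0 a : MvPolynomial σ R) = C a * monomial a0 1 := by
        rw [C_mul_monomial, mul_one]
      calc p' * (C (p.coeff s ^ N) * f)
          = C (p.coeff s ^ N) * (p * f) - monomial a0 1 * (C (p.coeff s ^ N) * (C a * f)) := by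
            simp only [p', hmon]; ring
        _ = 0 := by rw [hpf, hN, mul_zero, mul_zero, sub_zero]
    have hsup : (C (p.coeff s ^ N) * f).support.card ≤ f.support.card := by
      refine Finset.card_le_card fun t ht => ?_
      rw [mem_support_iff, coeff_C_mul] at ht
      rw [mem_support_iff]
      exact fun e => ht (by rw [e, mul_zero])
    obtain ⟨M, hM⟩ := ih p' _ (by omega) hp'f s
    rw [hp's, ← mul_assoc, ← C_mul, ← pow_add] at hM
    exact ⟨M + N, hM⟩

/-- If the coefficients of a family of polynomials killing `f` generate the unit ideal then `f = 0`. -/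
theorem eq_zero_of_content {ι : Type*} (p : ι → MvPolynomial σ R) (f : MvPolynomial σ R)
    (hunit : ∀ P : Ideal R, P.IsMaximal → ∃ i s, (p i).coeff s ∉ P) (h : ∀ i, p i * f = 0) : f = 0 := by
  classical
  refine MvPolynomial.ext _ _ fun t => ?_
  rw [coeff_zero]
  by_contra hne
  let I : Ideal R :=
    { carrier := {r | r * f.coeff t = 0}
      add_mem' := fun {x y} hx hy => by
        show (x + y) * f.coeff t = 0
        rw [add_mul, show x * f.coeff t = 0 from hx, show y * f.coeff t = 0 from hy, add_zero]
      zero_mem' := zero_mul _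
      smul_mem' := fun c x hx => by
        show c * x * f.coeff t = 0
        rw [mul_assoc, show x * f.coeff t = 0 from hx, mul_zero] }
  have hI : I ≠ ⊤ := fun e => hne (by
    have : (1 : R) * f.coeff t = 0 := (e ▸ Submodule.mem_top : (1 : R) ∈ I)
    rwa [one_mul] at this)
  obtain ⟨P, hP, hIP⟩ := Ideal.exists_le_maximal I hI
  obtain ⟨i, s, hs⟩ := hunit P hP
  obtain ⟨N, hN⟩ := exists_pow_coeff_mul_eq_zero _ (p i) f le_rfl (h i) s
  have := congrArg (MvPolynomial.coeff t) hN
  rw [coeff_C_mul, coeff_zero] at this
  exact hs (hP.isPrime.mem_of_pow_mem N (hIP this))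

end Groth.L15.QG
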