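import Groth.Agent.L15.QG.Local
import Mathlib.RingTheory.AdjoinRoot
import Mathlib.RingTheory.Finiteness.FinitePresentationLocal
import Mathlib.RingTheory.Localization.Away.AdjoinRoot
import Mathlib.RingTheory.Flat.FaithfullyFlat.Algebra
import Mathlib.RingTheory.Spectrum.Prime.Topology
import Mathlib.RingTheory.Flat.Localization
import Mathlib.Algebra.Group.Pi.Units

/-! Odd semiregular forms split over an fppf extension. -/

set_option autoImplicit false

namespace Groth.L15.QG

open TensorProduct Polynomial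

universe u v

variable {R : Type u} [CommRing R] {M : Type v} [AddCommGroup M] [Module R M] [Module.Free R M]
variable {Q : QuadraticForm R M} {m n : ℕ}

theorem splitForm_odd_apply (R : Type u) [CommRing R] (m : ℕ) (v : Fin (2 * m + 1) → R) :
    QuadGrp.splitForm R (2 * m + 1) v =
      v 0 * v 0 + ∑ i : Fin m, v ⟨2 * i + 1, by omega⟩ * v ⟨2 * i + 2, by omega⟩ := by
  have h1 : (2 * m + 1) % 2 = 1 := by omega
  have hm : (2 * m + 1) / 2 = m := by omega
  rw [QuadGrp.splitForm, dif_pos h1, QuadraticMap.add_apply, QuadraticMap.sum_apply, add_comm]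
  congr 1
  refine Fintype.sum_equiv (finCongr hm) _ _ fun i => ?_
  simp only [QuadraticMap.linMulLin_apply, LinearMap.proj_apply]
  congr 2 <;> · refine Fin.ext ?_; simp [h1]

theorem map_sum_orth {ι : Type*} (s : Finset ι) (f : ι → M)
    (h : ∀ i ∈ s, ∀ j ∈ s, i ≠ j → QuadraticMap.polar Q (f i) (f j) = 0) :
    Q (∑ i ∈ s, f i) = ∑ i ∈ s, Q (f i) := by
  classical
  induction s using Finset.induction with
  | empty => simp
  | insert a s ha ih =>
    rw [Finset.sum_insert ha, Finset.sum_insert ha, QuadraticMap.map_add Q,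
      ih fun i hi j hj => h i (Finset.mem_insert_of_mem hi) j (Finset.mem_insert_of_mem hj)]
    have : QuadraticMap.polar Q (f a) (∑ i ∈ s, f i) = 0 := by
      rw [← QuadraticMap.polarBilin_apply_apply, map_sum]
      exact Finset.sum_eq_zero fun i hi =>
        h a (Finset.mem_insert_self a s) i (Finset.mem_insert_of_mem hi) (by rintro rfl; exact ha hi)
    rw [this, add_zero]

section Coordinates

variable (A : Type u) [CommRing A] [Algebra R A] (Q) (b : Module.Basis (Fin n) R M)

/-- The vector with given coordinates. -/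
noncomputable def vecA (x : Fin n → A) : A ⊗[R] M := ∑ a, x a • b.baseChange A a

theorem form_vecA (x : Fin n → A) : QuadGrp.baseChangeForm A Q (vecA A b x) =
    ∑ a, ∑ c, x a * (x c * algebraMap R A (QuadGrp.bilinLift Q (b a) (b c))) := by
  rw [vecA, QuadGrp.baseChangeForm, LinearMap.compQuadraticMap_apply, QuadGrp.baseChange,
    LinearMap.BilinMap.toQuadraticMap_apply]
  simp only [map_sum, map_smul, LinearMap.coe_sum, Finset.sum_apply, LinearMap.smul_apply,
    Module.Basis.baseChange_apply, LinearMap.BilinMap.baseChange_tmul, Finset.smul_sum, LinearEquiv.coe_coe]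
  rw [Finset.sum_comm]
  refine Finset.sum_congr rfl fun a _ => Finset.sum_congr rfl fun c _ => ?_
  simp [Algebra.smul_def]
  ring

variable {A}

theorem form_vecA_map {B : Type u} [CommRing B] [Algebra R B] (φ : A →ₐ[R] B) (x : Fin n → A) :
    φ (QuadGrp.baseChangeForm A Q (vecA A b x)) = QuadGrp.baseChangeForm B Q (vecA B b (φ ∘ x)) := by
  simp [form_vecA, map_sum, map_mul]

/-- The coordinates of an isometry from `(Rⁿ, Q₀)` over `A`. -/
def IsIsoMat (A : Type u) [CommRing A] [Algebra R A] (Q₀ : QuadraticForm R (Fin n → R))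
    (W : Fin n → Fin n → A) : Prop :=
  IsUnit (Matrix.of W).det ∧
    (∀ i, QuadGrp.baseChangeForm A Q (vecA A b (W i)) = algebraMap R A (Q₀ (Pi.single i 1))) ∧
    ∀ i j, QuadGrp.baseChangeForm A Q (vecA A b (W i + W j)) =
      algebraMap R A (Q₀ (Pi.single i 1 + Pi.single j 1))

theorem IsIsoMat.map {B : Type u} [CommRing B] [Algebra R B] {Q₀ : QuadraticForm R (Fin n → R)}
    {W : Fin n → Fin n → A} (h : IsIsoMat Q b A Q₀ W) (φ : A →ₐ[R] B) :
    IsIsoMat Q b B Q₀ fun i j => φ (W i j) := by
  refine ⟨?_, fun i => ?_, fun i j => ?_⟩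
  · have := h.1.map φ
    rw [AlgHom.map_det] at this
    exact this
  · exact (form_vecA_map Q b φ (W i)).symm.trans (by rw [h.2.1, AlgHom.commutes])
  · have : (fun k => φ (W i k)) + (fun k => φ (W j k)) = φ ∘ (W i + W j) := by
      funext k; simp [map_add]
    rw [this]
    exact (form_vecA_map Q b φ (W i + W j)).symm.trans (by rw [h.2.2, AlgHom.commutes])

end Coordinates

theorem isIsoMat_pi {ι : Type u} (A : ι → Type u) [∀ i, CommRing (A i)] [∀ i, Algebra R (A i)]
    (b : Module.Basis (Fin n) R M) {Q₀ : QuadraticForm R (Fin n → R)}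
    (W : ∀ i, Fin n → Fin n → A i) (h : ∀ i, IsIsoMat Q b (A i) Q₀ (W i)) :
    IsIsoMat Q b (∀ i, A i) Q₀ fun a c i => W i a c := by
  refine ⟨?_, fun a => funext fun i => ?_, fun a c => funext fun i => ?_⟩
  · rw [Pi.isUnit_iff]
    intro i
    have := (AlgHom.map_det (Pi.evalAlgHom R A i) (Matrix.of fun a c j => W j a c))
    rw [show (Matrix.of fun a c j => W j a c).det i = Pi.evalAlgHom R A i (Matrix.of fun a c j => W j a c).det from rfl,
      this]
    exact (h i).1
  · exact (form_vecA_map Q b (Pi.evalAlgHom R A i) _).trans ((h i).2.1 a)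
  · exact (form_vecA_map Q b (Pi.evalAlgHom R A i) _).trans ((h i).2.2 a c)

/-- An isometry matrix gives an isometry. -/
theorem nonempty_isometryEquiv_of_isIsoMat (b : Module.Basis (Fin n) R M) {A : Type u} [CommRing A] [Algebra R A]
    {Q₀ : QuadraticForm R (Fin n → R)} {W : Fin n → Fin n → A} (h : IsIsoMat Q b A Q₀ W) :
    Nonempty ((QuadGrp.baseChangeForm A Q₀).IsometryEquiv (QuadGrp.baseChangeForm A Q)) := by
  classical
  let c := Pi.basisFun R (Fin n)
  let L : (A ⊗[R] (Fin n → R)) →ₗ[A] A ⊗[R] M := (c.baseChange A).constr A fun i => vecA A b (W i)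
  have hL : ∀ i, L (c.baseChange A i) = vecA A b (W i) := fun i => Module.Basis.constr_basis ..
  have hmat : LinearMap.toMatrix (c.baseChange A) (b.baseChange A) L = (Matrix.of W).transpose := by
    refine Matrix.ext fun i j => ?_
    rw [LinearMap.toMatrix_apply, hL, vecA, Module.Basis.repr_sum_self]
    rfl
  have hu : IsUnit (LinearMap.toMatrix (c.baseChange A) (b.baseChange A) L).det := by
    rw [hmat, Matrix.det_transpose]; exact h.1
  have hvadd : ∀ x y : Fin n → A, vecA A b (x + y) = vecA A b x + vecA A b y := fun x y => by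
    simp [vecA, add_smul, Finset.sum_add_distrib]
  have heq : (QuadGrp.baseChangeForm A Q).comp L = QuadGrp.baseChangeForm A Q₀ := by
    set Q1 := (QuadGrp.baseChangeForm A Q).comp L
    set Q2 := QuadGrp.baseChangeForm A Q₀
    have hval : ∀ i, Q1 (c.baseChange A i) = Q2 (c.baseChange A i) := fun i => by
      rw [QuadraticMap.comp_apply, hL, h.2.1, Module.Basis.baseChange_apply, form_one_tmul, Pi.basisFun_apply]
    have hsum : ∀ i j, Q1 (c.baseChange A i + c.baseChange A j) = Q2 (c.baseChange A i + c.baseChange A j) :=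
      fun i j => by
        rw [QuadraticMap.comp_apply, map_add, hL, hL, ← hvadd, h.2.2, Module.Basis.baseChange_apply,
          Module.Basis.baseChange_apply, ← TensorProduct.tmul_add, form_one_tmul, Pi.basisFun_apply, Pi.basisFun_apply]
    have hpol : Q1.polarBilin = Q2.polarBilin := by
      refine (c.baseChange A).ext fun i => (c.baseChange A).ext fun j => ?_
      simp only [QuadraticMap.polarBilin_apply_apply, QuadraticMap.polar, hval, hsum]
    refine QuadraticMap.ext fun x => ?_
    have hx : x ∈ Submodule.span A (Set.range (c.baseChange A)) := (c.baseChange A).mem_span x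
    induction hx using Submodule.span_induction with
    | mem y hy => obtain ⟨i, rfl⟩ := hy; exact hval i
    | zero => simp
    | add y z _ _ hy hz =>
      rw [QuadraticMap.map_add Q1, QuadraticMap.map_add Q2, hy, hz, ← QuadraticMap.polarBilin_apply_apply, hpol,
        QuadraticMap.polarBilin_apply_apply]
    | smul t y _ hy => rw [QuadraticMap.map_smul, QuadraticMap.map_smul, hy]
  exact ⟨⟨LinearEquiv.ofIsUnitDet hu, fun x => congrArg (fun q : QuadraticForm A _ => q x) heq⟩⟩

section Roots

/-- Monic polynomials of positive degree acquire roots in a finite free faithfully flat extension. -/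
theorem exists_roots {R : Type u} [CommRing R] (ps : List R[X]) (hps : ∀ p ∈ ps, p.Monic ∧ p.natDegree = 2) :
    ∃ (A : Type u) (_ : CommRing A) (_ : Algebra R A), Module.FaithfullyFlat R A ∧ Algebra.FinitePresentation R A ∧
      ∀ p ∈ ps, ∃ t : A, Polynomial.aeval t p = 0 := by
  induction ps with
  | nil => exact ⟨R, inferInstance, Algebra.id R, inferInstance, inferInstance, by simp⟩
  | cons p ps ih =>
    obtain ⟨A, _, _, hff, hfp, hroots⟩ := ih fun q hq => hps q (List.mem_cons_of_mem p hq)
    obtain ⟨hpm, hpd⟩ := hps p (List.mem_cons_self ..)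
    rcases subsingleton_or_nontrivial A with hA | hA
    · exact ⟨A, inferInstance, inferInstance, hff, hfp, fun q _ => ⟨0, Subsingleton.elim _ _⟩⟩
    set q := p.map (algebraMap R A) with hq
    have hqm : q.Monic := hpm.map _
    have hqd : q.natDegree = 2 := by rw [hq, hpm.natDegree_map, hpd]
    haveI := hqm.free_adjoinRoot
    haveI : Nontrivial (AdjoinRoot q) :=
      have hd : 0 < (AdjoinRoot.powerBasis' hqm).dim := by
        rw [AdjoinRoot.powerBasis'_dim, hqd]; decide
      ⟨⟨_, 0, (AdjoinRoot.powerBasis' hqm).basis.ne_zero ⟨0, hd⟩⟩⟩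
    letI : Algebra R (AdjoinRoot q) := inferInstance
    haveI hfq : Algebra.FinitePresentation A (AdjoinRoot q) := inferInstance
    refine ⟨AdjoinRoot q, inferInstance, inferInstance, Module.FaithfullyFlat.trans R A (AdjoinRoot q),
      Algebra.FinitePresentation.trans R A (AdjoinRoot q), fun r hr => ?_⟩
    rcases List.mem_cons.1 hr with rfl | hr
    · refine ⟨AdjoinRoot.root q, ?_⟩
      rw [← Polynomial.aeval_map_algebraMap A, ← hq, AdjoinRoot.aeval_eq, AdjoinRoot.mk_self]
    · obtain ⟨t, ht⟩ := hroots r hr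
      exact ⟨algebraMap A _ t, by rw [Polynomial.aeval_algebraMap_apply, ht, map_zero]⟩

end Roots

/-- The hyperbolic frame obtained once roots are available. -/
theorem exists_isIsoMat_of_frame (b : Module.Basis (Fin (2 * m + 1)) R M) {A : Type u} [CommRing A] [Algebra R A]
    (F : PFrame (QuadGrp.baseChangeForm A Q) m) {r : A ⊗[R] M} (hF : F.IsOdd r)
    (t : Fin m → A)
    (ht : ∀ i, QuadGrp.baseChangeForm A Q (F.e i) * (t i * t i) +
      QuadraticMap.polar (QuadGrp.baseChangeForm A Q) (F.e i) (F.f i) * t i + QuadGrp.baseChangeForm A Q (F.f i) = 0)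
    (w : A) (hw : w * w * QuadGrp.baseChangeForm A Q r = 1) :
    ∃ W, IsIsoMat Q b A (QuadGrp.splitForm R (2 * m + 1)) W := by
  classical
  let QA := QuadGrp.baseChangeForm A Q
  let s : Fin m → A := fun i => QuadraticMap.polar QA (F.e i) (F.f i) + 2 * t i * QA (F.e i)
  have hs2 : ∀ i, s i * s i = -(planeDisc QA (F.e i) (F.f i)) := fun i => by
    simp only [s, planeDisc]
    linear_combination (4 * QA (F.e i)) * ht i
  have hs : ∀ i, IsUnit (s i) := fun i => by
    have := (F.unit_disc i).neg
    rw [← hs2] at this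
    exact (IsUnit.mul_iff.1 this).1
  let σ : Fin m → A := fun i => ↑(hs i).unit⁻¹
  have hσ : ∀ i, σ i * s i = 1 := fun i => (hs i).val_inv_mul
  let X : Fin m → A ⊗[R] M := fun i => F.f i + t i • F.e i
  let Y : Fin m → A ⊗[R] M := fun i => σ i • F.e i + (-(σ i * σ i * QA (F.e i))) • X i
  have hQX : ∀ i, QA (X i) = 0 := fun i => by
    simp only [X, QuadraticMap.map_add QA, QuadraticMap.map_smul, QuadraticMap.polar_smul_right, smul_eq_mul,
      QuadraticMap.polar_comm QA (F.f i) (F.e i)]
    linear_combination ht i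
  have hXe : ∀ i, QuadraticMap.polar QA (F.e i) (X i) = s i := fun i => by
    simp only [X, QuadraticMap.polar_add_right, QuadraticMap.polar_smul_right, QuadraticMap.polar_self, smul_eq_mul,
      nsmul_eq_mul, Nat.cast_ofNat, s]
    ring
  have hXY : ∀ i, QuadraticMap.polar QA (X i) (Y i) = 1 := fun i => by
    simp only [Y, QuadraticMap.polar_add_right, QuadraticMap.polar_smul_right,
      QuadraticMap.polar_self, hQX, smul_eq_mul, nsmul_zero, mul_zero, add_zero,
      QuadraticMap.polar_comm QA (X i) (F.e i), hXe, hσ]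
  have hQY : ∀ i, QA (Y i) = 0 := fun i => by
    simp only [Y, QuadraticMap.map_add QA, QuadraticMap.map_smul,
      QuadraticMap.polar_smul_left, QuadraticMap.polar_smul_right, hQX, hXe, smul_eq_mul, mul_zero, add_zero]
    linear_combination -(σ i * σ i * QA (F.e i)) * hσ i
  have horth : ∀ i j, i ≠ j → ∀ a c a' c' : A, QuadraticMap.polar QA (a • X i + c • Y i) (a' • X j + c' • Y j) = 0 := by
    intro i j hne a c a' c'
    have hef : QuadraticMap.polar QA (F.f i) (F.e j) = 0 := by
      rw [QuadraticMap.polar_comm]; exact F.orth_ef j i (Ne.symm hne)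
    simp only [X, Y, ← QuadraticMap.polarBilin_apply_apply, map_add, map_sub, map_smul, LinearMap.add_apply,
      LinearMap.sub_apply, LinearMap.smul_apply]
    have hee : QuadraticMap.polar QA (F.e i) (F.e j) = 0 := F.orth_ee i j hne
    have hef' : QuadraticMap.polar QA (F.e i) (F.f j) = 0 := F.orth_ef i j hne
    have hff : QuadraticMap.polar QA (F.f i) (F.f j) = 0 := F.orth_ff i j hne
    simp only [QuadraticMap.polarBilin_apply_apply, hee, hef', hff, hef,
      smul_zero, add_zero, sub_zero]
  have horth0 : ∀ i, ∀ a c a' : A, QuadraticMap.polar QA (a' • (w • r)) (a • X i + c • Y i) = 0 := by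
    intro i a c a'
    have h1 : QuadraticMap.polar QA r (F.e i) = 0 := by rw [QuadraticMap.polar_comm]; exact hF.orth_e i
    have h2 : QuadraticMap.polar QA r (F.f i) = 0 := by rw [QuadraticMap.polar_comm]; exact hF.orth_f i
    simp only [X, Y, ← QuadraticMap.polarBilin_apply_apply, map_add, map_sub, map_smul, LinearMap.add_apply,
      LinearMap.sub_apply, LinearMap.smul_apply]
    simp only [QuadraticMap.polarBilin_apply_apply, h1, h2, smul_zero, add_zero, sub_zero]
  let φ : (Fin (2 * m + 1) → A) →ₗ[A] A ⊗[R] M :=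
    (LinearMap.proj 0).smulRight (w • r) + ∑ i : Fin m,
      ((LinearMap.proj (⟨2 * i + 1, by omega⟩ : Fin (2 * m + 1))).smulRight (X i) +
        (LinearMap.proj (⟨2 * i + 2, by omega⟩ : Fin (2 * m + 1))).smulRight (Y i))
  have hφ : ∀ v, φ v = v 0 • (w • r) + ∑ i : Fin m,
      (v ⟨2 * i + 1, by omega⟩ • X i + v ⟨2 * i + 2, by omega⟩ • Y i) := fun v => by
    simp [φ, LinearMap.sum_apply]
  have hQφ : ∀ v, QA (φ v) = QuadGrp.splitForm A (2 * m + 1) v := by
    intro v
    rw [hφ, QuadraticMap.map_add QA, map_sum_orth _ _ (fun i _ j _ hne => horth i j hne _ _ _ _),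
      splitForm_odd_apply]
    have h0 : QuadraticMap.polar QA (v 0 • (w • r)) (∑ i : Fin m,
        (v ⟨2 * i + 1, by omega⟩ • X i + v ⟨2 * i + 2, by omega⟩ • Y i)) = 0 := by
      rw [← QuadraticMap.polarBilin_apply_apply, map_sum]
      exact Finset.sum_eq_zero fun i _ => horth0 i _ _ _
    rw [h0, add_zero]
    congr 1
    · simp only [QuadraticMap.map_smul, smul_eq_mul]
      linear_combination (v 0 * v 0) * hw
    · refine Finset.sum_congr rfl fun i _ => ?_
      simp only [QuadraticMap.map_add QA, QuadraticMap.map_smul, QuadraticMap.polar_smul_left,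
        QuadraticMap.polar_smul_right, hQX, hQY, hXY, smul_eq_mul, mul_zero, add_zero, zero_add, mul_one]
      exact mul_comm _ _
  have hsingle0 : φ (Pi.single 0 1) = w • r := by
    rw [hφ, Pi.single_eq_same, one_smul, Finset.sum_eq_zero, add_zero]
    intro i _
    rw [Pi.single_eq_of_ne (by simp [Fin.ext_iff]), Pi.single_eq_of_ne (by simp [Fin.ext_iff]), zero_smul, zero_smul,
      add_zero]
  have hsingleX : ∀ i : Fin m, φ (Pi.single ⟨2 * i + 1, by omega⟩ 1) = X i := by
    intro i
    rw [hφ, Pi.single_eq_of_ne (by simp [Fin.ext_iff]), zero_smul, zero_add, Finset.sum_eq_single i]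
    · rw [Pi.single_eq_same, Pi.single_eq_of_ne (by simp [Fin.ext_iff]), one_smul, zero_smul, add_zero]
    · intro j _ hj
      rw [Pi.single_eq_of_ne (by simp [Fin.ext_iff]; omega), Pi.single_eq_of_ne (by simp [Fin.ext_iff]; omega),
        zero_smul, zero_smul, add_zero]
    · simp
  have hsingleY : ∀ i : Fin m, φ (Pi.single ⟨2 * i + 2, by omega⟩ 1) = Y i := by
    intro i
    rw [hφ, Pi.single_eq_of_ne (by simp [Fin.ext_iff]), zero_smul, zero_add, Finset.sum_eq_single i]
    · rw [Pi.single_eq_same, Pi.single_eq_of_ne (by simp [Fin.ext_iff]), one_smul, zero_smul, zero_add]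
    · intro j _ hj
      rw [Pi.single_eq_of_ne (by simp [Fin.ext_iff]; omega), Pi.single_eq_of_ne (by simp [Fin.ext_iff]; omega),
        zero_smul, zero_smul, add_zero]
    · simp
  have hsurj : Function.Surjective φ := by
    rw [← LinearMap.range_eq_top, eq_top_iff, ← hF.span, Submodule.span_le]
    have hwu : IsUnit w := IsUnit.of_mul_eq_one (w * QA r) (by linear_combination hw)
    have hr : r ∈ LinearMap.range φ := by
      refine ⟨(↑hwu.unit⁻¹ : A) • Pi.single 0 1, ?_⟩
      rw [map_smul, hsingle0, smul_smul, hwu.val_inv_mul, one_smul]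
    have he : ∀ i, F.e i ∈ LinearMap.range φ := fun i => by
      refine ⟨s i • (Pi.single ⟨2 * i + 2, by omega⟩ 1 +
        (σ i * σ i * QA (F.e i)) • Pi.single ⟨2 * i + 1, by omega⟩ 1), ?_⟩
      rw [map_smul, map_add, map_smul, hsingleX, hsingleY]
      simp only [Y]
      rw [add_assoc, ← add_smul, neg_add_cancel, zero_smul, add_zero, smul_smul, mul_comm (s i), hσ, one_smul]
    rintro _ (rfl | ⟨i, rfl⟩ | ⟨i, rfl⟩)
    · exact hr
    · exact he i
    · have h : X i ∈ LinearMap.range φ := ⟨_, hsingleX i⟩
      have := Submodule.sub_mem _ h (Submodule.smul_mem _ (t i) (he i))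
      simpa only [X, add_sub_cancel_right, SetLike.mem_coe] using this
  let W : Fin (2 * m + 1) → Fin (2 * m + 1) → A := fun i a => (b.baseChange A).repr (φ (Pi.single i 1)) a
  have hvec : ∀ i, vecA A b (W i) = φ (Pi.single i 1) := fun i => (b.baseChange A).sum_repr _
  have hsplit : ∀ x : Fin (2 * m + 1) → R,
      QuadGrp.splitForm A (2 * m + 1) (algebraMap R A ∘ x) = algebraMap R A (QuadGrp.splitForm R (2 * m + 1) x) :=
    fun x => by simp [splitForm_odd_apply, map_add, map_sum, map_mul]
  have hsing : ∀ i : Fin (2 * m + 1), (Pi.single i 1 : Fin (2 * m + 1) → A) = algebraMap R A ∘ Pi.single i 1 := fun i => by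
    funext k; simp [Pi.single_apply, apply_ite (algebraMap R A)]
  refine ⟨W, ?_, fun i => ?_, fun i j => ?_⟩
  · let ψ : (Fin (2 * m + 1) → A) →ₗ[A] (Fin (2 * m + 1) → A) := (b.baseChange A).equivFun.toLinearMap.comp φ
    have hψ : Function.Surjective ψ := (b.baseChange A).equivFun.surjective.comp hsurj
    have hu : IsUnit (LinearMap.det ψ) := by
      refine LinearMap.isUnit_det ψ ((Module.End.isUnit_iff _).2 ⟨?_, hψ⟩)
      exact OrzechProperty.injective_of_surjective_endomorphism _ hψ
    have hW : LinearMap.toMatrix' ψ = (Matrix.of W).transpose := Matrix.ext fun a i => by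
      rw [LinearMap.toMatrix'_apply]
      simp only [ψ, LinearMap.comp_apply, LinearEquiv.coe_coe, Module.Basis.equivFun_apply, Matrix.transpose_apply,
        Matrix.of_apply, W]
    rwa [← LinearMap.det_toMatrix' ψ, hW, Matrix.det_transpose] at hu
  · rw [hvec, hQφ, hsing, hsplit]
  · rw [show W i + W j = fun a => (b.baseChange A).repr (φ (Pi.single i 1 + Pi.single j 1)) a by
        funext a; simp [W, map_add],
      show vecA A b (fun a => (b.baseChange A).repr (φ (Pi.single i 1 + Pi.single j 1)) a) = φ (Pi.single i 1 + Pi.single j 1) from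
        (b.baseChange A).sum_repr _, hQφ, ← hsplit]
    congr 1
    rw [hsing, hsing]
    funext k
    simp [map_add]

theorem form_smul_one_tmul {A : Type u} [CommRing A] [Algebra R A] (x : M) :
    QuadGrp.baseChangeForm A Q ((1 : A) ⊗ₜ[R] x) = algebraMap R A (Q x) := form_one_tmul A x

set_option maxHeartbeats 1000000 in
/-- Near a prime, `Q` splits after a finite free extension. -/
theorem exists_local_split [Module.Finite R M] (b : Module.Basis (Fin (2 * m + 1)) R M)
    (hQ : QuadGrp.IsSemiregular b (LinearEquiv.refl R R) Q) (P : Ideal R) [P.IsPrime] :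
    ∃ f ∉ P, ∃ (A : Type u) (_ : CommRing A) (_ : Algebra R A), Module.Flat R A ∧ Algebra.FinitePresentation R A ∧
      (∀ q : Ideal R, q.IsPrime → f ∉ q → ∃ q' : Ideal A, q'.IsPrime ∧ q'.comap (algebraMap R A) = q) ∧
      ∃ W, IsIsoMat Q b A (QuadGrp.splitForm R (2 * m + 1)) W := by
  classical
  let S := Localization.AtPrime P
  obtain ⟨F, r, hF⟩ := exists_oddFrame m (b.baseChange S) (QuadGrp.baseChangeForm S Q) (isSemiregular_baseChange S b hQ)
  -- integral representatives
  let vec : Option (Fin m ⊕ Fin m) → S ⊗[R] M := fun o => o.elim r (Sum.elim F.e F.f)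
  obtain ⟨⟨d, hd⟩, hdd⟩ := IsLocalization.exist_integer_multiples_of_finite P.primeCompl
    fun p : Option (Fin m ⊕ Fin m) × Fin (2 * m + 1) => (b.baseChange S).repr (vec p.1) p.2
  choose a ha using hdd
  let g₀ : Option (Fin m ⊕ Fin m) → M := fun o => ∑ k, a (o, k) • b k
  have hg₀ : ∀ o, (1 : S) ⊗ₜ[R] g₀ o = algebraMap R S d • vec o := by
    intro o
    rw [TensorProduct.tmul_sum]
    conv_rhs => rw [← (b.baseChange S).sum_repr (vec o), Finset.smul_sum]
    refine Finset.sum_congr rfl fun k _ => ?_
    rw [Module.Basis.baseChange_apply, smul_smul, ← Algebra.smul_def]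
    have := ha (o, k)
    simp only at this
    rw [← this, algebraMap_smul, TensorProduct.tmul_smul]
  -- make orthogonality exact
  have hkill : ∀ p : Option (Fin m ⊕ Fin m) × Option (Fin m ⊕ Fin m), ∃ t ∈ P.primeCompl,
      QuadraticMap.polar (QuadGrp.baseChangeForm S Q) (vec p.1) (vec p.2) = 0 →
        t * QuadraticMap.polar Q (g₀ p.1) (g₀ p.2) = 0 := by
    intro p
    by_cases h0 : QuadraticMap.polar (QuadGrp.baseChangeForm S Q) (vec p.1) (vec p.2) = 0
    · obtain ⟨⟨t, ht⟩, ht0⟩ := (IsLocalization.map_eq_zero_iff P.primeCompl S (QuadraticMap.polar Q (g₀ p.1) (g₀ p.2))).1 (by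
        rw [← polar_one_tmul, hg₀, hg₀, QuadraticMap.polar_smul_left, QuadraticMap.polar_smul_right, h0]; simp)
      exact ⟨t, ht, fun _ => ht0⟩
    · exact ⟨1, P.primeCompl.one_mem, fun h => absurd h h0⟩
  choose t ht htk using hkill
  let T := ∏ p, t p
  have hT : T ∈ P.primeCompl := Submonoid.prod_mem _ fun p _ => ht p
  let g : Option (Fin m ⊕ Fin m) → M := fun o => T • g₀ o
  let c := algebraMap R S (T * d)
  have hc : IsUnit c := IsLocalization.map_units S (⟨T * d, P.primeCompl.mul_mem hT hd⟩ : P.primeCompl)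
  have hg : ∀ o, (1 : S) ⊗ₜ[R] g o = c • vec o := fun o => by
    rw [TensorProduct.tmul_smul, hg₀, ← algebraMap_smul S T, smul_smul, ← map_mul]
  have horth : ∀ o o', QuadraticMap.polar (QuadGrp.baseChangeForm S Q) (vec o) (vec o') = 0 →
      QuadraticMap.polar Q (g o) (g o') = 0 := by
    intro o o' h0
    rw [QuadraticMap.polar_smul_left, QuadraticMap.polar_smul_right, smul_eq_mul, smul_eq_mul]
    show (∏ p, t p) * (T * _) = 0
    rw [← Finset.prod_erase_mul Finset.univ _ (Finset.mem_univ (o, o')), mul_left_comm, mul_assoc, htk (o, o') h0,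
      mul_zero, mul_zero]
  let e := fun i => g (some (Sum.inl i))
  let f := fun i => g (some (Sum.inr i))
  let r₀ := g none
  -- the units
  let σ : Fin (2 * m + 1) ≃ Option (Fin m ⊕ Fin m) :=
    (finSuccEquiv (2 * m)).trans ((finCongr (two_mul m)).trans finSumFinEquiv.symm).optionCongr
  let D := (Matrix.of fun i k => b.repr (g (σ i)) k).det
  have hunit : ∀ x : R, IsUnit (algebraMap R S x) → x ∉ P := fun x hx =>
    (IsLocalization.AtPrime.isUnit_to_map_iff S P x).1 hx
  have hform : ∀ o, algebraMap R S (Q (g o)) = c * c * QuadGrp.baseChangeForm S Q (vec o) := fun o => by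
    rw [← form_one_tmul, hg, QuadraticMap.map_smul, smul_eq_mul]
  have hpol : ∀ o o', algebraMap R S (QuadraticMap.polar Q (g o) (g o')) =
      c * c * QuadraticMap.polar (QuadGrp.baseChangeForm S Q) (vec o) (vec o') := fun o o' => by
    rw [← polar_one_tmul, hg, hg, QuadraticMap.polar_smul_left, QuadraticMap.polar_smul_right, smul_eq_mul, smul_eq_mul]
    ring
  have hue : ∀ i, Q (e i) ∉ P := fun i => hunit _ (by rw [hform]; exact (hc.mul hc).mul (F.unit_e i))
  have hur : Q r₀ ∉ P := hunit _ (by rw [hform]; exact (hc.mul hc).mul hF.unit_r)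
  have hud : ∀ i, planeDisc Q (e i) (f i) ∉ P := fun i => hunit _ (by
    have : algebraMap R S (planeDisc Q (e i) (f i)) = c * c * (c * c) * planeDisc (QuadGrp.baseChangeForm S Q) (F.e i) (F.f i) := by
      simp only [planeDisc, map_sub, map_mul, map_ofNat, e, f, hform, hpol]
      show _ = c * c * (c * c) * (4 * _ * _ - _ * _)
      simp only [vec, Option.elim, Sum.elim_inl, Sum.elim_inr]
      ring
    rw [this]; exact ((hc.mul hc).mul (hc.mul hc)).mul (F.unit_disc i))
  have huD : D ∉ P := hunit _ (by
    rw [RingHom.map_det]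
    have hM : (algebraMap R S).mapMatrix (Matrix.of fun i k => b.repr (g (σ i)) k) =
        (Matrix.of fun i k => (b.baseChange S).repr (c • vec (σ i)) k) := Matrix.ext fun i k => by
      simp only [RingHom.mapMatrix_apply, Matrix.map_apply, Matrix.of_apply, ← hg, Module.Basis.baseChange_repr_tmul,
        Algebra.smul_def, mul_one]
    rw [hM]
    have hsp : ⊤ ≤ Submodule.span S (Set.range fun i => c • vec (σ i)) := by
      rw [← hF.span]
      refine Submodule.span_le.2 ?_
      have key : ∀ o, vec o ∈ Submodule.span S (Set.range fun i => c • vec (σ i)) := fun o => by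
        have h : c • vec o ∈ Submodule.span S (Set.range fun i => c • vec (σ i)) :=
          Submodule.subset_span ⟨σ.symm o, by simp⟩
        have := Submodule.smul_mem _ (↑hc.unit⁻¹ : S) h
        rwa [smul_smul, hc.val_inv_mul, one_smul] at this
      rintro _ (rfl | ⟨i, rfl⟩ | ⟨i, rfl⟩)
      · exact key none
      · exact key (some (Sum.inl i))
      · exact key (some (Sum.inr i))
    let L : (S ⊗[R] M) →ₗ[S] (S ⊗[R] M) := (b.baseChange S).constr S fun i => c • vec (σ i)
    have hL : Function.Surjective L := by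
      rw [← LinearMap.range_eq_top, eq_top_iff, Module.Basis.constr_range]; exact hsp
    have hu : IsUnit (LinearMap.det L) := LinearMap.isUnit_det L
      ((Module.End.isUnit_iff _).2 ⟨OrzechProperty.injective_of_surjective_endomorphism _ hL, hL⟩)
    rw [← LinearMap.det_toMatrix (b.baseChange S)] at hu
    rw [← Matrix.det_transpose]
    convert hu using 2
    refine Matrix.ext fun k i => ?_
    rw [LinearMap.toMatrix_apply, Matrix.transpose_apply, Matrix.of_apply, Module.Basis.constr_basis])
  let f₀ := Q r₀ * D * (∏ i, Q (e i)) * ∏ i, planeDisc Q (e i) (f i)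
  refine ⟨f₀, ?_, ?_⟩
  · intro hmem
    rcases Ideal.IsPrime.mem_or_mem ‹_› hmem with h | h
    · rcases Ideal.IsPrime.mem_or_mem ‹_› h with h | h
      · rcases Ideal.IsPrime.mem_or_mem ‹_› h with h | h
        · exact hur h
        · exact huD h
      · obtain ⟨i, -, hi⟩ := (Ideal.IsPrime.prod_mem_iff (p := P)).1 h
        exact hue i hi
    · obtain ⟨i, -, hi⟩ := (Ideal.IsPrime.prod_mem_iff (p := P)).1 h
      exact hud i hi
  let B := Localization.Away f₀
  have hB : ∀ x, x ∣ f₀ → IsUnit (algebraMap R B x) := fun x hx =>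
    isUnit_of_dvd_unit (map_dvd _ hx) (IsLocalization.Away.algebraMap_isUnit f₀)
  have heB : ∀ i, IsUnit (algebraMap R B (Q (e i))) := fun i =>
    hB _ (((Finset.dvd_prod_of_mem _ (Finset.mem_univ i)).mul_left _).mul_right _)
  have hrB : IsUnit (algebraMap R B (Q r₀)) := hB _ (((dvd_mul_right _ _).mul_right _).mul_right _)
  let ps : List B[X] := (List.ofFn fun i : Fin m =>
      X ^ 2 + C ((↑(heB i).unit⁻¹ : B) * algebraMap R B (QuadraticMap.polar Q (e i) (f i))) * X +
        C ((↑(heB i).unit⁻¹ : B) * algebraMap R B (Q (f i)))) ++ [X ^ 2 + C 0 * X + C (-(↑hrB.unit⁻¹ : B))]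
  rcases subsingleton_or_nontrivial B with hBs | hBn
  · have : ∀ q : Ideal R, q.IsPrime → f₀ ∈ q := by
      intro q hq
      by_contra hf
      obtain ⟨⟨x, ⟨k, rfl⟩⟩, hk⟩ := (IsLocalization.map_eq_zero_iff (Submonoid.powers f₀) B (1 : R)).1
        (Subsingleton.elim _ _)
      simp only [mul_one] at hk
      exact hf (hq.mem_of_pow_mem k (hk ▸ q.zero_mem))
    exact ⟨B, inferInstance, inferInstance, IsLocalization.flat B (Submonoid.powers f₀),
      IsLocalization.Away.finitePresentation f₀, fun q hq hf => absurd (this q hq) hf,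
      fun _ _ => 0, ⟨isUnit_of_subsingleton _, fun i => Subsingleton.elim _ _, fun i j => Subsingleton.elim _ _⟩⟩
  obtain ⟨A, _, _, hff, hfp, hroots⟩ := exists_roots ps (by
    intro p hp
    simp only [ps, List.mem_append, List.mem_ofFn', Set.mem_range, List.mem_singleton] at hp
    have key : ∀ u v : B, (X ^ 2 + C u * X + C v : B[X]).Monic ∧ (X ^ 2 + C u * X + C v : B[X]).natDegree = 2 :=
      fun u v => by
        refine ⟨?_, by compute_degree!⟩
        monicity!
    rcases hp with ⟨i, rfl⟩ | rfl
    · exact key _ _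
    · exact key _ _)
  letI : Algebra R A := ((algebraMap B A).comp (algebraMap R B)).toAlgebra
  haveI : IsScalarTower R B A := IsScalarTower.of_algebraMap_eq fun x => rfl
  refine ⟨A, inferInstance, inferInstance, ?_, ?_, ?_, ?_⟩
  · haveI : Module.Flat R B := IsLocalization.flat B (Submonoid.powers f₀)
    exact Module.Flat.trans R B A
  · haveI : Algebra.FinitePresentation R B := IsLocalization.Away.finitePresentation f₀
    exact Algebra.FinitePresentation.trans R B A
  · intro q hq hfq
    have hqB : (q.map (algebraMap R B)).IsPrime ∧ (q.map (algebraMap R B)).comap (algebraMap R B) = q := by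
      have hdisj : Disjoint (Submonoid.powers f₀ : Set R) (q : Set R) := by
        rw [Set.disjoint_left]
        rintro _ ⟨k, rfl⟩ hk
        exact hfq (hq.mem_of_pow_mem k hk)
      exact ⟨IsLocalization.isPrime_of_isPrime_disjoint _ B q hq hdisj,
        IsLocalization.comap_map_of_isPrime_disjoint _ B hq hdisj⟩
    haveI := hqB.1
    obtain ⟨q', hq', hover⟩ := Ideal.exists_isPrime_liesOver_of_faithfullyFlat (B := A) (q.map (algebraMap R B))
    refine ⟨q', hq', ?_⟩
    rw [show algebraMap R A = (algebraMap B A).comp (algebraMap R B) from rfl, ← Ideal.comap_comap]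
    rw [show q'.comap (algebraMap B A) = q.map (algebraMap R B) from hover.over.symm, hqB.2]
  -- the frame over `A`
  have hU : ∀ x, x ∣ f₀ → IsUnit (algebraMap R A x) := fun x hx => (hB x hx).map (algebraMap B A)
  let FA : PFrame (QuadGrp.baseChangeForm A Q) m :=
    { e := fun i => (1 : A) ⊗ₜ[R] e i
      f := fun i => (1 : A) ⊗ₜ[R] f i
      unit_e := fun i => by
        rw [form_one_tmul]; exact hU _ (((Finset.dvd_prod_of_mem _ (Finset.mem_univ i)).mul_left _).mul_right _)
      unit_disc := fun i => by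
        have : planeDisc (QuadGrp.baseChangeForm A Q) ((1 : A) ⊗ₜ[R] e i) ((1 : A) ⊗ₜ[R] f i) =
            algebraMap R A (planeDisc Q (e i) (f i)) := by
          simp [planeDisc, form_one_tmul, polar_one_tmul, map_sub, map_mul, map_ofNat]
        rw [this]; exact hU _ ((Finset.dvd_prod_of_mem _ (Finset.mem_univ i)).mul_left _)
      orth_ee := fun i j hne => by rw [polar_one_tmul, horth (some (Sum.inl i)) (some (Sum.inl j)) (F.orth_ee i j hne), map_zero]
      orth_ef := fun i j hne => by rw [polar_one_tmul, horth (some (Sum.inl i)) (some (Sum.inr j)) (F.orth_ef i j hne), map_zero]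
      orth_ff := fun i j hne => by rw [polar_one_tmul, horth (some (Sum.inr i)) (some (Sum.inr j)) (F.orth_ff i j hne), map_zero] }
  have hFA : FA.IsOdd ((1 : A) ⊗ₜ[R] r₀) :=
    { unit_r := by rw [form_one_tmul]; exact hU _ (((dvd_mul_right _ _).mul_right _).mul_right _)
      orth_e := fun i => by
        show QuadraticMap.polar _ ((1 : A) ⊗ₜ[R] e i) ((1 : A) ⊗ₜ[R] r₀) = 0
        rw [polar_one_tmul, horth (some (Sum.inl i)) none (hF.orth_e i), map_zero]
      orth_f := fun i => by
        show QuadraticMap.polar _ ((1 : A) ⊗ₜ[R] f i) ((1 : A) ⊗ₜ[R] r₀) = 0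
        rw [polar_one_tmul, horth (some (Sum.inr i)) none (hF.orth_f i), map_zero]
      span := by
        let L : (A ⊗[R] M) →ₗ[A] (A ⊗[R] M) := (b.baseChange A).constr A fun i => (1 : A) ⊗ₜ[R] g (σ i)
        have hdet : IsUnit (LinearMap.det L) := by
          rw [← LinearMap.det_toMatrix (b.baseChange A)]
          have : LinearMap.toMatrix (b.baseChange A) (b.baseChange A) L =
              ((algebraMap R A).mapMatrix (Matrix.of fun i k => b.repr (g (σ i)) k)).transpose := by
            refine Matrix.ext fun k i => ?_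
            rw [LinearMap.toMatrix_apply, Matrix.transpose_apply, RingHom.mapMatrix_apply, Matrix.map_apply,
              Matrix.of_apply, Module.Basis.constr_basis, Module.Basis.baseChange_repr_tmul, Algebra.smul_def, mul_one]
          rw [this, Matrix.det_transpose, ← RingHom.map_det]
          exact hU _ (((dvd_mul_left _ _).mul_right _).mul_right _)
        have hL : Function.Surjective L := ((Module.End.isUnit_iff _).1 ((L.isUnit_iff_isUnit_det).2 hdet)).2
        rw [eq_top_iff, ← LinearMap.range_eq_top.2 hL, Module.Basis.constr_range]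
        refine Submodule.span_mono ?_
        rintro _ ⟨i, rfl⟩
        show (1 : A) ⊗ₜ[R] g (σ i) ∈ _
        rcases σ i with _ | j | j
        · exact Set.mem_insert _ _
        · exact Or.inr (Or.inl ⟨j, rfl⟩)
        · exact Or.inr (Or.inr ⟨j, rfl⟩) }
  have hmem : ∀ i : Fin m, (X ^ 2 + C ((↑(heB i).unit⁻¹ : B) * algebraMap R B (QuadraticMap.polar Q (e i) (f i))) * X +
      C ((↑(heB i).unit⁻¹ : B) * algebraMap R B (Q (f i))) : B[X]) ∈ ps := fun i =>
    List.mem_append_left _ ((List.mem_ofFn' _ _).2 ⟨i, rfl⟩)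
  choose t' ht' using fun i => hroots _ (hmem i)
  obtain ⟨w, hw⟩ := hroots (X ^ 2 + C 0 * X + C (-(↑hrB.unit⁻¹ : B))) (List.mem_append_right _ (List.mem_singleton_self _))
  refine exists_isIsoMat_of_frame b FA hFA t' (fun i => ?_) w ?_
  · have h := ht' i
    simp only [map_add, map_mul, map_pow, aeval_X, aeval_C] at h
    show QuadGrp.baseChangeForm A Q ((1 : A) ⊗ₜ[R] e i) * _ + QuadraticMap.polar _ ((1 : A) ⊗ₜ[R] e i) ((1 : A) ⊗ₜ[R] f i) * _ +
      QuadGrp.baseChangeForm A Q ((1 : A) ⊗ₜ[R] f i) = 0
    rw [form_one_tmul, form_one_tmul, polar_one_tmul]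
    simp only [IsScalarTower.algebraMap_apply R B A]
    have hi := congrArg (algebraMap B A) (heB i).mul_val_inv
    simp only [map_mul, map_one] at hi
    linear_combination (algebraMap B A (algebraMap R B (Q (e i)))) * h -
      ((algebraMap B A (algebraMap R B (QuadraticMap.polar Q (e i) (f i)))) * t' i +
        algebraMap B A (algebraMap R B (Q (f i)))) * hi
  · simp only [map_add, map_mul, map_pow, aeval_X, aeval_C, map_zero, zero_mul, add_zero, map_neg] at hw
    rw [form_one_tmul, IsScalarTower.algebraMap_apply R B A]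
    have hi := congrArg (algebraMap B A) hrB.mul_val_inv
    simp only [map_mul, map_one] at hi
    rw [RingHom.map_neg] at hw
    linear_combination (algebraMap B A (algebraMap R B (Q r₀))) * hw + hi

/-- Splitting over an fppf extension. -/
theorem exists_fppf_split {R : Type u} [CommRing R] {M : Type v} [AddCommGroup M] [Module R M] [Module.Free R M]
    [Module.Finite R M] {Q : QuadraticForm R M} (b : Module.Basis (Fin (2 * m + 1)) R M)
    (hQ : QuadGrp.IsSemiregular b (LinearEquiv.refl R R) Q) :
    ∃ (A : Type u) (_ : CommRing A) (_ : Algebra R A), Module.FaithfullyFlat R A ∧ Algebra.FinitePresentation R A ∧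
      ∃ W, IsIsoMat Q b A (QuadGrp.splitForm R (2 * m + 1)) W := by
  classical
  choose f hf A cr alg hflat hfp hsurj W hW using fun P : PrimeSpectrum R => exists_local_split b hQ P.asIdeal
  obtain ⟨s, hs⟩ := isCompact_univ.elim_finite_subcover (fun P => (PrimeSpectrum.basicOpen (f P) : Set (PrimeSpectrum R)))
    (fun P => (PrimeSpectrum.basicOpen (f P)).isOpen) (fun P _ => Set.mem_iUnion.2 ⟨P, hf P⟩)
  letI := fun i : s => cr i.1
  letI := fun i : s => alg i.1
  haveI : ∀ i : s, Module.Flat R (A i.1) := fun i => hflat i.1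
  haveI : ∀ i : s, Algebra.FinitePresentation R (A i.1) := fun i => hfp i.1
  haveI : Module.Flat R (∀ i : s, A i.1) :=
    Module.Flat.of_linearEquiv (DirectSum.linearEquivFunOnFintype R s fun i => A i.1).symm
  refine ⟨∀ i : s, A i.1, inferInstance, inferInstance, ?_, inferInstance,
    _, isIsoMat_pi (fun i : s => A i.1) b (fun i => W i.1) (fun i => hW i.1)⟩
  refine Module.FaithfullyFlat.of_comap_surjective fun q => ?_
  obtain ⟨P, hP, hq⟩ := Set.mem_iUnion₂.1 (hs (Set.mem_univ q))
  obtain ⟨q', hq', hcomap⟩ := hsurj P q.asIdeal q.2 hq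
  haveI := hq'
  refine ⟨⟨q'.comap (Pi.evalRingHom (fun i : s => A i.1) ⟨P, hP⟩), inferInstance⟩, ?_⟩
  refine PrimeSpectrum.ext ?_
  show (q'.comap _).comap (algebraMap R _) = q.asIdeal
  rw [Ideal.comap_comap]
  exact hcomap

end Groth.L15.QG
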