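import Groth.Prelude.Def_QuadGrp
import Mathlib.Tactic.NoncommRing

/-! The volume element of the split form of even rank. -/

set_option autoImplicit false

namespace Groth.L15.QG

open CliffordAlgebra

universe u

variable (R : Type u) [CommRing R] (m : ℕ)

local notation "Qs" => QuadGrp.splitForm R (m * 2)

theorem splitForm_even_apply (v : Fin (m * 2) → R) :
    Qs v = ∑ i : Fin m, v (finProdFinEquiv (i, 0)) * v (finProdFinEquiv (i, 1)) := by
  have h1 : ¬ (m * 2) % 2 = 1 := by omega
  have hm : m * 2 / 2 = m := by omega
  rw [QuadGrp.splitForm, dif_neg h1, add_zero, QuadraticMap.sum_apply]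
  refine Fintype.sum_equiv (finCongr hm) _ _ fun i => ?_
  simp only [QuadraticMap.linMulLin_apply, LinearMap.proj_apply]
  congr 2 <;> · refine Fin.ext ?_; (simp [finProdFinEquiv] <;> omega)

variable {R m}

theorem splitForm_single (j : Fin (m * 2)) : Qs (Pi.single j 1) = 0 := by
  rw [splitForm_even_apply]
  refine Finset.sum_eq_zero fun i _ => ?_
  by_cases h : finProdFinEquiv (i, (0 : Fin 2)) = j
  · subst h
    simp [Pi.single_apply, finProdFinEquiv.injective.eq_iff]
  · simp [Pi.single_eq_of_ne h]

theorem polar_single (a c : Fin m × Fin 2) : QuadraticMap.polar Qs (Pi.single (finProdFinEquiv a) 1)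
    (Pi.single (finProdFinEquiv c) 1) = if a.1 = c.1 ∧ a.2 ≠ c.2 then 1 else 0 := by
  rw [QuadraticMap.polar, splitForm_single, splitForm_single, sub_zero, sub_zero, splitForm_even_apply]
  obtain ⟨i, s⟩ := a
  obtain ⟨j, t⟩ := c
  by_cases hij : i = j
  · subst hij
    rw [Finset.sum_eq_single i (fun b _ hb => by simp [Pi.single_apply, finProdFinEquiv.injective.eq_iff, hb])
      (by simp)]
    fin_cases s <;> fin_cases t <;>
      simp [Pi.single_apply, finProdFinEquiv.injective.eq_iff]
  · rw [if_neg (by simp [hij])]
    refine Finset.sum_eq_zero fun b _ => ?_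
    by_cases hb : b = i
    · subst hb; fin_cases s <;> simp [Pi.single_apply, finProdFinEquiv.injective.eq_iff, hij]
    · fin_cases t <;> simp [Pi.single_apply, finProdFinEquiv.injective.eq_iff, hb]

variable (R m)

/-- The basis vectors in the Clifford algebra. -/
noncomputable def splitE (a : Fin m × Fin 2) : CliffordAlgebra Qs := ι Qs (Pi.single (finProdFinEquiv a) 1)

/-- The factor of one hyperbolic plane. -/
noncomputable def splitH (i : Fin m) : CliffordAlgebra Qs := 1 - 2 * (splitE R m (i, 0) * splitE R m (i, 1))

/-- The volume element. -/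
noncomputable def splitW : CliffordAlgebra Qs := ((List.finRange m).map (splitH R m)).prod

variable {R m}

theorem splitE_mul_self (a : Fin m × Fin 2) : splitE R m a * splitE R m a = 0 := by
  rw [splitE, ι_sq_scalar, splitForm_single, map_zero]

theorem splitE_add_comm (a c : Fin m × Fin 2) :
    splitE R m a * splitE R m c + splitE R m c * splitE R m a = if a.1 = c.1 ∧ a.2 ≠ c.2 then 1 else 0 := by
  rw [splitE, splitE, ι_mul_ι_add_swap, polar_single]
  split_ifs <;> simp

theorem splitE_anti {a c : Fin m × Fin 2} (h : a.1 ≠ c.1) :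
    splitE R m a * splitE R m c = -(splitE R m c * splitE R m a) :=
  eq_neg_of_add_eq_zero_left (by rw [splitE_add_comm, if_neg (fun h' => h h'.1)])

theorem splitH_sq (i : Fin m) : splitH R m i * splitH R m i = 1 := by
  let E := splitE R m (i, 0)
  let F := splitE R m (i, 1)
  have h : E * F = 1 - F * E := eq_sub_of_add_eq ((splitE_add_comm (i, 0) (i, 1)).trans (if_pos ⟨rfl, Fin.zero_ne_one⟩))
  have hp : (E * F) * (E * F) = E * F := by
    have hF : F * F = 0 := splitE_mul_self (i, 1)
    calc (E * F) * (E * F) = E * (F * E) * F := by noncomm_ring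
      _ = E * (1 - E * F) * F := by rw [show F * E = 1 - E * F by rw [h]; noncomm_ring]
      _ = E * F - E * E * (F * F) := by noncomm_ring
      _ = E * F := by rw [hF, mul_zero, sub_zero]
  show (1 - 2 * (E * F)) * (1 - 2 * (E * F)) = 1
  calc (1 - 2 * (E * F)) * (1 - 2 * (E * F)) = 1 - 4 * (E * F) + 4 * ((E * F) * (E * F)) := by noncomm_ring
    _ = 1 := by rw [hp]; noncomm_ring

theorem splitE_mul_splitH (a : Fin m × Fin 2) (i : Fin m) :
    splitE R m a * splitH R m i = if a.1 = i then -(splitH R m i * splitE R m a) else splitH R m i * splitE R m a := by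
  obtain ⟨j, s⟩ := a
  let E := splitE R m (i, 0)
  let F := splitE R m (i, 1)
  split_ifs with hij
  · change j = i at hij
    subst hij
    have h : E * F = 1 - F * E := eq_sub_of_add_eq ((splitE_add_comm (j, 0) (j, 1)).trans (if_pos ⟨rfl, Fin.zero_ne_one⟩))
    fin_cases s
    · show E * (1 - 2 * (E * F)) = -((1 - 2 * (E * F)) * E)
      have hE : E * E = 0 := splitE_mul_self (j, 0)
      have hEFE : E * F * E = E := by
        rw [h]
        calc (1 - F * E) * E = E - F * (E * E) := by noncomm_ring
          _ = E := by rw [hE, mul_zero, sub_zero]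
      calc E * (1 - 2 * (E * F)) = E - 2 * ((E * E) * F) := by noncomm_ring
        _ = E := by rw [hE]; noncomm_ring
        _ = -(E - 2 * (E * F * E)) := by rw [hEFE]; noncomm_ring
        _ = -((1 - 2 * (E * F)) * E) := by noncomm_ring
    · show F * (1 - 2 * (E * F)) = -((1 - 2 * (E * F)) * F)
      have hF : F * F = 0 := splitE_mul_self (j, 1)
      have hFEF : F * E * F = F := by
        rw [show F * E = 1 - E * F by rw [h]; noncomm_ring]
        calc (1 - E * F) * F = F - E * (F * F) := by noncomm_ring
          _ = F := by rw [hF, mul_zero, sub_zero]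
      calc F * (1 - 2 * (E * F)) = F - 2 * (F * E * F) := by noncomm_ring
        _ = -F := by rw [hFEF]; noncomm_ring
        _ = -((1 - 2 * (E * F)) * F) := by
          rw [show (1 - 2 * (E * F)) * F = F - 2 * (E * (F * F)) by noncomm_ring, hF]; noncomm_ring
  · let X := splitE R m (j, s)
    have hE : X * E = -(E * X) := splitE_anti (a := (j, s)) (c := (i, 0)) hij
    have hF : X * F = -(F * X) := splitE_anti (a := (j, s)) (c := (i, 1)) hij
    show X * (1 - 2 * (E * F)) = (1 - 2 * (E * F)) * X
    calc X * (1 - 2 * (E * F)) = X - 2 * ((X * E) * F) := by noncomm_ring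
      _ = X + 2 * (E * (X * F)) := by rw [hE]; noncomm_ring
      _ = (1 - 2 * (E * F)) * X := by rw [hF]; noncomm_ring

theorem splitH_comm (i j : Fin m) : Commute (splitH R m i) (splitH R m j) := by
  rcases eq_or_ne i j with rfl | h
  · exact Commute.refl _
  · have hc : ∀ a : Fin 2, Commute (splitE R m (i, a)) (splitH R m j) := fun a => by
      have := splitE_mul_splitH (R := R) (i, a) j
      rwa [if_neg h] at this
    exact (Commute.one_left _).sub_left ((Commute.ofNat_left 2 _).mul_left ((hc 0).mul_left (hc 1)))

theorem prod_splitH (l : List (Fin m)) (hl : l.Nodup) :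
    (l.map (splitH R m)).prod * (l.map (splitH R m)).prod = 1 ∧ ∀ a : Fin m × Fin 2,
      splitE R m a * (l.map (splitH R m)).prod =
        if a.1 ∈ l then -((l.map (splitH R m)).prod * splitE R m a) else (l.map (splitH R m)).prod * splitE R m a := by
  induction l with
  | nil => simp
  | cons i l ih =>
    obtain ⟨hil, hl⟩ := List.nodup_cons.1 hl
    obtain ⟨hsq, hanti⟩ := ih hl
    rw [List.map_cons, List.prod_cons]
    set P := (l.map (splitH R m)).prod with hP
    set H := splitH R m i with hH
    have hcomm : P * H = H * P := (Commute.list_prod_left _ _ fun x hx => by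
      obtain ⟨j, -, rfl⟩ := List.mem_map.1 hx
      exact splitH_comm j i).eq
    refine ⟨?_, fun a => ?_⟩
    · calc H * P * (H * P) = H * (P * H) * P := by noncomm_ring
        _ = (H * H) * (P * P) := by rw [hcomm]; noncomm_ring
        _ = 1 := by rw [hsq, hH, splitH_sq, one_mul]
    · rw [← mul_assoc, hH, splitE_mul_splitH]
      by_cases hai : a.1 = i
      · rw [if_pos hai, if_pos (List.mem_cons.2 (Or.inl hai)), neg_mul, mul_assoc, hanti, if_neg (hai ▸ hil), mul_assoc]
      · rw [if_neg hai, mul_assoc, hanti]
        by_cases hl' : a.1 ∈ l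
        · rw [if_pos hl', if_pos (List.mem_cons_of_mem _ hl'), mul_neg, mul_assoc]
        · rw [if_neg hl', if_neg (by simp [hai, hl']), mul_assoc]

variable (R m)

theorem splitW_sq : splitW R m * splitW R m = 1 := (prod_splitH _ (List.nodup_finRange m)).1

theorem splitW_anti (j : Fin (m * 2)) : ι Qs (Pi.single j 1) * splitW R m = -(splitW R m * ι Qs (Pi.single j 1)) := by
  obtain ⟨a, rfl⟩ := finProdFinEquiv.surjective j
  have := (prod_splitH (R := R) (List.finRange m) (List.nodup_finRange m)).2 a
  rwa [if_pos (List.mem_finRange _)] at this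

end Groth.L15.QG
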