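import Groth.Agent.L15.QG.Split
import Groth.Agent.L15.QG.SplitEven

/-! Even regular forms split over an fppf extension. -/

set_option autoImplicit false

namespace Groth.L15.QG

open TensorProduct Polynomial

universe u v

variable {R : Type u} [CommRing R] {M : Type v} [AddCommGroup M] [Module R M] [Module.Free R M]
variable {Q : QuadraticForm R M} {m : ℕ}

theorem exists_isIsoMat_of_frame_even (b : Module.Basis (Fin (m * 2)) R M) {A : Type u} [CommRing A] [Algebra R A]
    (F : PFrame (QuadGrp.baseChangeForm A Q) m) (hF : F.IsEven)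
    (t : Fin m → A)
    (ht : ∀ i, QuadGrp.baseChangeForm A Q (F.e i) * (t i * t i) +
      QuadraticMap.polar (QuadGrp.baseChangeForm A Q) (F.e i) (F.f i) * t i + QuadGrp.baseChangeForm A Q (F.f i) = 0) :
    ∃ W, IsIsoMat Q b A (QuadGrp.splitForm R (m * 2)) W := by
  classical
  let QA := QuadGrp.baseChangeForm A Q
  let s : Fin m → A := fun i => QuadraticMap.polar QA (F.e i) (F.f i) + 2 * t i * QA (F.e i)
  have hs2 : ∀ i, s i * s i = -(planeDisc QA (F.e i) (F.f i)) := fun i => by
    simp only [s, planeDisc]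
    linear_combination (4 * QA (F.e i)) * ht i
  have hs : ∀ i, IsUnit (s i) := fun i => by
    have := (F.unit_disc i).neg
    rw [← hs2] at this
    exact (IsUnit.mul_iff.1 this).1
  let σ : Fin m → A := fun i => ↑(hs i).unit⁻¹
  have hσ : ∀ i, σ i * s i = 1 := fun i => (hs i).val_inv_mul
  let X : Fin m → A ⊗[R] M := fun i => F.f i + t i • F.e i
  let Y : Fin m → A ⊗[R] M := fun i => σ i • F.e i + (-(σ i * σ i * QA (F.e i))) • X i
  have hQX : ∀ i, QA (X i) = 0 := fun i => by
    simp only [X, QuadraticMap.map_add QA, QuadraticMap.map_smul, QuadraticMap.polar_smul_right, smul_eq_mul,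
      QuadraticMap.polar_comm QA (F.f i) (F.e i)]
    linear_combination ht i
  have hXe : ∀ i, QuadraticMap.polar QA (F.e i) (X i) = s i := fun i => by
    simp only [X, QuadraticMap.polar_add_right, QuadraticMap.polar_smul_right, QuadraticMap.polar_self, smul_eq_mul,
      nsmul_eq_mul, Nat.cast_ofNat, s]
    ring
  have hXY : ∀ i, QuadraticMap.polar QA (X i) (Y i) = 1 := fun i => by
    simp only [Y, QuadraticMap.polar_add_right, QuadraticMap.polar_smul_right,
      QuadraticMap.polar_self, hQX, smul_eq_mul, nsmul_zero, mul_zero, add_zero,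
      QuadraticMap.polar_comm QA (X i) (F.e i), hXe, hσ]
  have hQY : ∀ i, QA (Y i) = 0 := fun i => by
    simp only [Y, QuadraticMap.map_add QA, QuadraticMap.map_smul,
      QuadraticMap.polar_smul_left, QuadraticMap.polar_smul_right, hQX, hXe, smul_eq_mul, mul_zero, add_zero]
    linear_combination -(σ i * σ i * QA (F.e i)) * hσ i
  have horth : ∀ i j, i ≠ j → ∀ a c a' c' : A, QuadraticMap.polar QA (a • X i + c • Y i) (a' • X j + c' • Y j) = 0 := by
    intro i j hne a c a' c'
    have hef : QuadraticMap.polar QA (F.f i) (F.e j) = 0 := by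
      rw [QuadraticMap.polar_comm]; exact F.orth_ef j i (Ne.symm hne)
    simp only [X, Y, ← QuadraticMap.polarBilin_apply_apply, map_add, map_sub, map_smul, LinearMap.add_apply,
      LinearMap.sub_apply, LinearMap.smul_apply]
    have hee : QuadraticMap.polar QA (F.e i) (F.e j) = 0 := F.orth_ee i j hne
    have hef' : QuadraticMap.polar QA (F.e i) (F.f j) = 0 := F.orth_ef i j hne
    have hff : QuadraticMap.polar QA (F.f i) (F.f j) = 0 := F.orth_ff i j hne
    simp only [QuadraticMap.polarBilin_apply_apply, hee, hef', hff, hef,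
      smul_zero, add_zero, sub_zero]
  let φ : (Fin (m * 2) → A) →ₗ[A] A ⊗[R] M :=
    ∑ i : Fin m, ((LinearMap.proj (finProdFinEquiv (i, (0 : Fin 2)))).smulRight (X i) +
      (LinearMap.proj (finProdFinEquiv (i, (1 : Fin 2)))).smulRight (Y i))
  have hφ : ∀ v, φ v = ∑ i : Fin m,
      (v (finProdFinEquiv (i, (0 : Fin 2))) • X i + v (finProdFinEquiv (i, (1 : Fin 2))) • Y i) := fun v => by
    simp [φ, LinearMap.sum_apply]
  have hQφ : ∀ v, QA (φ v) = QuadGrp.splitForm A (m * 2) v := by
    intro v
    rw [hφ, map_sum_orth _ _ (fun i _ j _ hne => horth i j hne _ _ _ _), splitForm_even_apply]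
    refine Finset.sum_congr rfl fun i _ => ?_
    simp only [QuadraticMap.map_add QA, QuadraticMap.map_smul, QuadraticMap.polar_smul_left,
      QuadraticMap.polar_smul_right, hQX, hQY, hXY, smul_eq_mul, mul_zero, add_zero, zero_add, mul_one]
    exact mul_comm _ _
  have hsingleX : ∀ i : Fin m, φ (Pi.single (finProdFinEquiv (i, (0 : Fin 2))) 1) = X i := by
    intro i
    rw [hφ, Finset.sum_eq_single i]
    · simp [Pi.single_apply, finProdFinEquiv.injective.eq_iff]
    · intro j _ hj
      simp [Pi.single_apply, finProdFinEquiv.injective.eq_iff, hj]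
    · simp
  have hsingleY : ∀ i : Fin m, φ (Pi.single (finProdFinEquiv (i, (1 : Fin 2))) 1) = Y i := by
    intro i
    rw [hφ, Finset.sum_eq_single i]
    · simp [Pi.single_apply, finProdFinEquiv.injective.eq_iff]
    · intro j _ hj
      simp [Pi.single_apply, finProdFinEquiv.injective.eq_iff, hj]
    · simp
  have hsurj : Function.Surjective φ := by
    rw [← LinearMap.range_eq_top, eq_top_iff, ← hF, Submodule.span_le]
    have he : ∀ i, F.e i ∈ LinearMap.range φ := fun i => by
      refine ⟨s i • (Pi.single (finProdFinEquiv (i, (1 : Fin 2))) 1 +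
        (σ i * σ i * QA (F.e i)) • Pi.single (finProdFinEquiv (i, (0 : Fin 2))) 1), ?_⟩
      rw [map_smul, map_add, map_smul, hsingleX, hsingleY]
      simp only [Y]
      rw [add_assoc, ← add_smul, neg_add_cancel, zero_smul, add_zero, smul_smul, mul_comm (s i), hσ, one_smul]
    rintro _ (⟨i, rfl⟩ | ⟨i, rfl⟩)
    · exact he i
    · have h : X i ∈ LinearMap.range φ := ⟨_, hsingleX i⟩
      have := Submodule.sub_mem _ h (Submodule.smul_mem _ (t i) (he i))
      simpa only [X, add_sub_cancel_right, SetLike.mem_coe] using this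
  let W : Fin (m * 2) → Fin (m * 2) → A := fun i a => (b.baseChange A).repr (φ (Pi.single i 1)) a
  have hvec : ∀ i, vecA A b (W i) = φ (Pi.single i 1) := fun i => (b.baseChange A).sum_repr _
  have hsplit : ∀ x : Fin (m * 2) → R,
      QuadGrp.splitForm A (m * 2) (algebraMap R A ∘ x) = algebraMap R A (QuadGrp.splitForm R (m * 2) x) :=
    fun x => by simp [splitForm_even_apply, map_sum, map_mul]
  have hsing : ∀ i : Fin (m * 2), (Pi.single i 1 : Fin (m * 2) → A) = algebraMap R A ∘ Pi.single i 1 := fun i => by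
    funext k; simp [Pi.single_apply, apply_ite (algebraMap R A)]
  refine ⟨W, ?_, fun i => ?_, fun i j => ?_⟩
  · let ψ : (Fin (m * 2) → A) →ₗ[A] (Fin (m * 2) → A) := (b.baseChange A).equivFun.toLinearMap.comp φ
    have hψ : Function.Surjective ψ := (b.baseChange A).equivFun.surjective.comp hsurj
    have hu : IsUnit (LinearMap.det ψ) := by
      refine LinearMap.isUnit_det ψ ((Module.End.isUnit_iff _).2 ⟨?_, hψ⟩)
      exact OrzechProperty.injective_of_surjective_endomorphism _ hψ
    have hW : LinearMap.toMatrix' ψ = (Matrix.of W).transpose := Matrix.ext fun a i => by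
      rw [LinearMap.toMatrix'_apply]
      simp only [ψ, LinearMap.comp_apply, LinearEquiv.coe_coe, Module.Basis.equivFun_apply, Matrix.transpose_apply,
        Matrix.of_apply, W]
    rwa [← LinearMap.det_toMatrix' ψ, hW, Matrix.det_transpose] at hu
  · rw [hvec, hQφ, hsing, hsplit]
  · rw [show W i + W j = fun a => (b.baseChange A).repr (φ (Pi.single i 1 + Pi.single j 1)) a by
        funext a; simp [W, map_add],
      show vecA A b (fun a => (b.baseChange A).repr (φ (Pi.single i 1 + Pi.single j 1)) a) = φ (Pi.single i 1 + Pi.single j 1) from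
        (b.baseChange A).sum_repr _, hQφ, ← hsplit]
    congr 1
    rw [hsing, hsing]
    funext k
    simp [map_add]

/-- Near a prime, `Q` splits after a finite free extension. -/
theorem exists_local_split_even [Module.Finite R M] (b : Module.Basis (Fin (m * 2)) R M)
    (hQ : QuadGrp.IsRegular Q) (P : Ideal R) [P.IsPrime] :
    ∃ f ∉ P, ∃ (A : Type u) (_ : CommRing A) (_ : Algebra R A), Module.Flat R A ∧ Algebra.FinitePresentation R A ∧
      (∀ q : Ideal R, q.IsPrime → f ∉ q → ∃ q' : Ideal A, q'.IsPrime ∧ q'.comap (algebraMap R A) = q) ∧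
      ∃ W, IsIsoMat Q b A (QuadGrp.splitForm R (m * 2)) W := by
  classical
  let S := Localization.AtPrime P
  haveI : Nontrivial S := inferInstance
  obtain ⟨F, hF⟩ := exists_evenFrame m (QuadGrp.baseChangeForm S Q)
    (by rw [Module.finrank_eq_card_basis (b.baseChange S), Fintype.card_fin, mul_comm])
    (isRegular_baseChange S hQ)
  -- integral representatives
  let vec : (Fin m ⊕ Fin m) → S ⊗[R] M := Sum.elim F.e F.f
  obtain ⟨⟨d, hd⟩, hdd⟩ := IsLocalization.exist_integer_multiples_of_finite P.primeCompl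
    fun p : (Fin m ⊕ Fin m) × Fin (m * 2) => (b.baseChange S).repr (vec p.1) p.2
  choose a ha using hdd
  let g₀ : (Fin m ⊕ Fin m) → M := fun o => ∑ k, a (o, k) • b k
  have hg₀ : ∀ o, (1 : S) ⊗ₜ[R] g₀ o = algebraMap R S d • vec o := by
    intro o
    rw [TensorProduct.tmul_sum]
    conv_rhs => rw [← (b.baseChange S).sum_repr (vec o), Finset.smul_sum]
    refine Finset.sum_congr rfl fun k _ => ?_
    rw [Module.Basis.baseChange_apply, smul_smul, ← Algebra.smul_def]
    have := ha (o, k)
    simp only at this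
    rw [← this, algebraMap_smul, TensorProduct.tmul_smul]
  -- make orthogonality exact
  have hkill : ∀ p : (Fin m ⊕ Fin m) × (Fin m ⊕ Fin m), ∃ t ∈ P.primeCompl,
      QuadraticMap.polar (QuadGrp.baseChangeForm S Q) (vec p.1) (vec p.2) = 0 →
        t * QuadraticMap.polar Q (g₀ p.1) (g₀ p.2) = 0 := by
    intro p
    by_cases h0 : QuadraticMap.polar (QuadGrp.baseChangeForm S Q) (vec p.1) (vec p.2) = 0
    · obtain ⟨⟨t, ht⟩, ht0⟩ := (IsLocalization.map_eq_zero_iff P.primeCompl S (QuadraticMap.polar Q (g₀ p.1) (g₀ p.2))).1 (by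
        rw [← polar_one_tmul, hg₀, hg₀, QuadraticMap.polar_smul_left, QuadraticMap.polar_smul_right, h0]; simp)
      exact ⟨t, ht, fun _ => ht0⟩
    · exact ⟨1, P.primeCompl.one_mem, fun h => absurd h h0⟩
  choose t ht htk using hkill
  let T := ∏ p, t p
  have hT : T ∈ P.primeCompl := Submonoid.prod_mem _ fun p _ => ht p
  let g : (Fin m ⊕ Fin m) → M := fun o => T • g₀ o
  let c := algebraMap R S (T * d)
  have hc : IsUnit c := IsLocalization.map_units S (⟨T * d, P.primeCompl.mul_mem hT hd⟩ : P.primeCompl)
  have hg : ∀ o, (1 : S) ⊗ₜ[R] g o = c • vec o := fun o => by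
    rw [TensorProduct.tmul_smul, hg₀, ← algebraMap_smul S T, smul_smul, ← map_mul]
  have horth : ∀ o o', QuadraticMap.polar (QuadGrp.baseChangeForm S Q) (vec o) (vec o') = 0 →
      QuadraticMap.polar Q (g o) (g o') = 0 := by
    intro o o' h0
    rw [QuadraticMap.polar_smul_left, QuadraticMap.polar_smul_right, smul_eq_mul, smul_eq_mul]
    show (∏ p, t p) * (T * _) = 0
    rw [← Finset.prod_erase_mul Finset.univ _ (Finset.mem_univ (o, o')), mul_left_comm, mul_assoc, htk (o, o') h0,
      mul_zero, mul_zero]
  let e := fun i => g (Sum.inl i)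
  let f := fun i => g (Sum.inr i)
  -- the units
  let σ : Fin (m * 2) ≃ (Fin m ⊕ Fin m) :=
    (finCongr (mul_two m)).trans finSumFinEquiv.symm
  let D := (Matrix.of fun i k => b.repr (g (σ i)) k).det
  have hunit : ∀ x : R, IsUnit (algebraMap R S x) → x ∉ P := fun x hx =>
    (IsLocalization.AtPrime.isUnit_to_map_iff S P x).1 hx
  have hform : ∀ o, algebraMap R S (Q (g o)) = c * c * QuadGrp.baseChangeForm S Q (vec o) := fun o => by
    rw [← form_one_tmul, hg, QuadraticMap.map_smul, smul_eq_mul]
  have hpol : ∀ o o', algebraMap R S (QuadraticMap.polar Q (g o) (g o')) =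
      c * c * QuadraticMap.polar (QuadGrp.baseChangeForm S Q) (vec o) (vec o') := fun o o' => by
    rw [← polar_one_tmul, hg, hg, QuadraticMap.polar_smul_left, QuadraticMap.polar_smul_right, smul_eq_mul, smul_eq_mul]
    ring
  have hue : ∀ i, Q (e i) ∉ P := fun i => hunit _ (by rw [hform]; exact (hc.mul hc).mul (F.unit_e i))
  have hud : ∀ i, planeDisc Q (e i) (f i) ∉ P := fun i => hunit _ (by
    have : algebraMap R S (planeDisc Q (e i) (f i)) = c * c * (c * c) * planeDisc (QuadGrp.baseChangeForm S Q) (F.e i) (F.f i) := by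
      simp only [planeDisc, map_sub, map_mul, map_ofNat, e, f, hform, hpol]
      show _ = c * c * (c * c) * (4 * _ * _ - _ * _)
      simp only [vec, Sum.elim_inl, Sum.elim_inr]
      ring
    rw [this]; exact ((hc.mul hc).mul (hc.mul hc)).mul (F.unit_disc i))
  have huD : D ∉ P := hunit _ (by
    rw [RingHom.map_det]
    have hM : (algebraMap R S).mapMatrix (Matrix.of fun i k => b.repr (g (σ i)) k) =
        (Matrix.of fun i k => (b.baseChange S).repr (c • vec (σ i)) k) := Matrix.ext fun i k => by
      simp only [RingHom.mapMatrix_apply, Matrix.map_apply, Matrix.of_apply, ← hg, Module.Basis.baseChange_repr_tmul,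
        Algebra.smul_def, mul_one]
    rw [hM]
    have hsp : ⊤ ≤ Submodule.span S (Set.range fun i => c • vec (σ i)) := by
      rw [← show Submodule.span S F.vecs = ⊤ from hF]
      refine Submodule.span_le.2 ?_
      have key : ∀ o, vec o ∈ Submodule.span S (Set.range fun i => c • vec (σ i)) := fun o => by
        have h : c • vec o ∈ Submodule.span S (Set.range fun i => c • vec (σ i)) :=
          Submodule.subset_span ⟨σ.symm o, by simp⟩
        have := Submodule.smul_mem _ (↑hc.unit⁻¹ : S) h
        rwa [smul_smul, hc.val_inv_mul, one_smul] at this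
      rintro _ (⟨i, rfl⟩ | ⟨i, rfl⟩)
      · exact key (Sum.inl i)
      · exact key (Sum.inr i)
    let L : (S ⊗[R] M) →ₗ[S] (S ⊗[R] M) := (b.baseChange S).constr S fun i => c • vec (σ i)
    have hL : Function.Surjective L := by
      rw [← LinearMap.range_eq_top, eq_top_iff, Module.Basis.constr_range]; exact hsp
    have hu : IsUnit (LinearMap.det L) := LinearMap.isUnit_det L
      ((Module.End.isUnit_iff _).2 ⟨OrzechProperty.injective_of_surjective_endomorphism _ hL, hL⟩)
    rw [← LinearMap.det_toMatrix (b.baseChange S)] at hu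
    rw [← Matrix.det_transpose]
    convert hu using 2
    refine Matrix.ext fun k i => ?_
    rw [LinearMap.toMatrix_apply, Matrix.transpose_apply, Matrix.of_apply, Module.Basis.constr_basis])
  let f₀ := D * (∏ i, Q (e i)) * ∏ i, planeDisc Q (e i) (f i)
  refine ⟨f₀, ?_, ?_⟩
  · intro hmem
    rcases Ideal.IsPrime.mem_or_mem ‹_› hmem with h | h
    · rcases Ideal.IsPrime.mem_or_mem ‹_› h with h | h
      · exact huD h
      · obtain ⟨i, -, hi⟩ := (Ideal.IsPrime.prod_mem_iff (p := P)).1 h
        exact hue i hi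
    · obtain ⟨i, -, hi⟩ := (Ideal.IsPrime.prod_mem_iff (p := P)).1 h
      exact hud i hi
  let B := Localization.Away f₀
  have hB : ∀ x, x ∣ f₀ → IsUnit (algebraMap R B x) := fun x hx =>
    isUnit_of_dvd_unit (map_dvd _ hx) (IsLocalization.Away.algebraMap_isUnit f₀)
  have heB : ∀ i, IsUnit (algebraMap R B (Q (e i))) := fun i =>
    hB _ (((Finset.dvd_prod_of_mem _ (Finset.mem_univ i)).mul_left _).mul_right _)
  let ps : List B[X] := (List.ofFn fun i : Fin m =>
      X ^ 2 + C ((↑(heB i).unit⁻¹ : B) * algebraMap R B (QuadraticMap.polar Q (e i) (f i))) * X +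
        C ((↑(heB i).unit⁻¹ : B) * algebraMap R B (Q (f i))))
  rcases subsingleton_or_nontrivial B with hBs | hBn
  · have : ∀ q : Ideal R, q.IsPrime → f₀ ∈ q := by
      intro q hq
      by_contra hf
      obtain ⟨⟨x, ⟨k, rfl⟩⟩, hk⟩ := (IsLocalization.map_eq_zero_iff (Submonoid.powers f₀) B (1 : R)).1
        (Subsingleton.elim _ _)
      simp only [mul_one] at hk
      exact hf (hq.mem_of_pow_mem k (hk ▸ q.zero_mem))
    exact ⟨B, inferInstance, inferInstance, IsLocalization.flat B (Submonoid.powers f₀),
      IsLocalization.Away.finitePresentation f₀, fun q hq hf => absurd (this q hq) hf,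
      fun _ _ => 0, ⟨isUnit_of_subsingleton _, fun i => Subsingleton.elim _ _, fun i j => Subsingleton.elim _ _⟩⟩
  obtain ⟨A, _, _, hff, hfp, hroots⟩ := exists_roots ps (by
    intro p hp
    simp only [ps, List.mem_ofFn', Set.mem_range] at hp
    have key : ∀ u v : B, (X ^ 2 + C u * X + C v : B[X]).Monic ∧ (X ^ 2 + C u * X + C v : B[X]).natDegree = 2 :=
      fun u v => by
        refine ⟨?_, by compute_degree!⟩
        monicity!
    rcases hp with ⟨i, rfl⟩
    exact key _ _)
  letI : Algebra R A := ((algebraMap B A).comp (algebraMap R B)).toAlgebra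
  haveI : IsScalarTower R B A := IsScalarTower.of_algebraMap_eq fun x => rfl
  refine ⟨A, inferInstance, inferInstance, ?_, ?_, ?_, ?_⟩
  · haveI : Module.Flat R B := IsLocalization.flat B (Submonoid.powers f₀)
    exact Module.Flat.trans R B A
  · haveI : Algebra.FinitePresentation R B := IsLocalization.Away.finitePresentation f₀
    exact Algebra.FinitePresentation.trans R B A
  · intro q hq hfq
    have hqB : (q.map (algebraMap R B)).IsPrime ∧ (q.map (algebraMap R B)).comap (algebraMap R B) = q := by
      have hdisj : Disjoint (Submonoid.powers f₀ : Set R) (q : Set R) := by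
        rw [Set.disjoint_left]
        rintro _ ⟨k, rfl⟩ hk
        exact hfq (hq.mem_of_pow_mem k hk)
      exact ⟨IsLocalization.isPrime_of_isPrime_disjoint _ B q hq hdisj,
        IsLocalization.comap_map_of_isPrime_disjoint _ B hq hdisj⟩
    haveI := hqB.1
    obtain ⟨q', hq', hover⟩ := Ideal.exists_isPrime_liesOver_of_faithfullyFlat (B := A) (q.map (algebraMap R B))
    refine ⟨q', hq', ?_⟩
    rw [show algebraMap R A = (algebraMap B A).comp (algebraMap R B) from rfl, ← Ideal.comap_comap]
    rw [show q'.comap (algebraMap B A) = q.map (algebraMap R B) from hover.over.symm, hqB.2]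
  -- the frame over `A`
  have hU : ∀ x, x ∣ f₀ → IsUnit (algebraMap R A x) := fun x hx => (hB x hx).map (algebraMap B A)
  let FA : PFrame (QuadGrp.baseChangeForm A Q) m :=
    { e := fun i => (1 : A) ⊗ₜ[R] e i
      f := fun i => (1 : A) ⊗ₜ[R] f i
      unit_e := fun i => by
        rw [form_one_tmul]; exact hU _ (((Finset.dvd_prod_of_mem _ (Finset.mem_univ i)).mul_left _).mul_right _)
      unit_disc := fun i => by
        have : planeDisc (QuadGrp.baseChangeForm A Q) ((1 : A) ⊗ₜ[R] e i) ((1 : A) ⊗ₜ[R] f i) =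
            algebraMap R A (planeDisc Q (e i) (f i)) := by
          simp [planeDisc, form_one_tmul, polar_one_tmul, map_sub, map_mul, map_ofNat]
        rw [this]; exact hU _ ((Finset.dvd_prod_of_mem _ (Finset.mem_univ i)).mul_left _)
      orth_ee := fun i j hne => by rw [polar_one_tmul, horth (Sum.inl i) (Sum.inl j) (F.orth_ee i j hne), map_zero]
      orth_ef := fun i j hne => by rw [polar_one_tmul, horth (Sum.inl i) (Sum.inr j) (F.orth_ef i j hne), map_zero]
      orth_ff := fun i j hne => by rw [polar_one_tmul, horth (Sum.inr i) (Sum.inr j) (F.orth_ff i j hne), map_zero] }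
  have hFA : FA.IsEven := by
        show Submodule.span A FA.vecs = ⊤
        let L : (A ⊗[R] M) →ₗ[A] (A ⊗[R] M) := (b.baseChange A).constr A fun i => (1 : A) ⊗ₜ[R] g (σ i)
        have hdet : IsUnit (LinearMap.det L) := by
          rw [← LinearMap.det_toMatrix (b.baseChange A)]
          have : LinearMap.toMatrix (b.baseChange A) (b.baseChange A) L =
              ((algebraMap R A).mapMatrix (Matrix.of fun i k => b.repr (g (σ i)) k)).transpose := by
            refine Matrix.ext fun k i => ?_
            rw [LinearMap.toMatrix_apply, Matrix.transpose_apply, RingHom.mapMatrix_apply, Matrix.map_apply,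
              Matrix.of_apply, Module.Basis.constr_basis, Module.Basis.baseChange_repr_tmul, Algebra.smul_def, mul_one]
          rw [this, Matrix.det_transpose, ← RingHom.map_det]
          exact hU _ (((dvd_mul_right _ _).mul_right _))
        have hL : Function.Surjective L := ((Module.End.isUnit_iff _).1 ((L.isUnit_iff_isUnit_det).2 hdet)).2
        rw [eq_top_iff, ← LinearMap.range_eq_top.2 hL, Module.Basis.constr_range]
        refine Submodule.span_mono ?_
        rintro _ ⟨i, rfl⟩
        show (1 : A) ⊗ₜ[R] g (σ i) ∈ _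
        rcases σ i with j | j
        · exact Or.inl ⟨j, rfl⟩
        · exact Or.inr ⟨j, rfl⟩
  have hmem : ∀ i : Fin m, (X ^ 2 + C ((↑(heB i).unit⁻¹ : B) * algebraMap R B (QuadraticMap.polar Q (e i) (f i))) * X +
      C ((↑(heB i).unit⁻¹ : B) * algebraMap R B (Q (f i))) : B[X]) ∈ ps := fun i =>
    (List.mem_ofFn' _ _).2 ⟨i, rfl⟩
  choose t' ht' using fun i => hroots _ (hmem i)
  refine exists_isIsoMat_of_frame_even b FA hFA t' (fun i => ?_)
  · have h := ht' i
    simp only [map_add, map_mul, map_pow, aeval_X, aeval_C] at h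
    show QuadGrp.baseChangeForm A Q ((1 : A) ⊗ₜ[R] e i) * _ + QuadraticMap.polar _ ((1 : A) ⊗ₜ[R] e i) ((1 : A) ⊗ₜ[R] f i) * _ +
      QuadGrp.baseChangeForm A Q ((1 : A) ⊗ₜ[R] f i) = 0
    rw [form_one_tmul, form_one_tmul, polar_one_tmul]
    simp only [IsScalarTower.algebraMap_apply R B A]
    have hi := congrArg (algebraMap B A) (heB i).mul_val_inv
    simp only [map_mul, map_one] at hi
    linear_combination (algebraMap B A (algebraMap R B (Q (e i)))) * h -
      ((algebraMap B A (algebraMap R B (QuadraticMap.polar Q (e i) (f i)))) * t' i +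
        algebraMap B A (algebraMap R B (Q (f i)))) * hi

/-- Splitting over an fppf extension. -/
theorem exists_fppf_split_even {R : Type u} [CommRing R] {M : Type v} [AddCommGroup M] [Module R M] [Module.Free R M]
    [Module.Finite R M] {Q : QuadraticForm R M} (b : Module.Basis (Fin (m * 2)) R M)
    (hQ : QuadGrp.IsRegular Q) :
    ∃ (A : Type u) (_ : CommRing A) (_ : Algebra R A), Module.FaithfullyFlat R A ∧ Algebra.FinitePresentation R A ∧
      ∃ W, IsIsoMat Q b A (QuadGrp.splitForm R (m * 2)) W := by
  classical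
  choose f hf A cr alg hflat hfp hsurj W hW using fun P : PrimeSpectrum R => exists_local_split_even b hQ P.asIdeal
  obtain ⟨s, hs⟩ := isCompact_univ.elim_finite_subcover (fun P => (PrimeSpectrum.basicOpen (f P) : Set (PrimeSpectrum R)))
    (fun P => (PrimeSpectrum.basicOpen (f P)).isOpen) (fun P _ => Set.mem_iUnion.2 ⟨P, hf P⟩)
  letI := fun i : s => cr i.1
  letI := fun i : s => alg i.1
  haveI : ∀ i : s, Module.Flat R (A i.1) := fun i => hflat i.1
  haveI : ∀ i : s, Algebra.FinitePresentation R (A i.1) := fun i => hfp i.1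
  haveI : Module.Flat R (∀ i : s, A i.1) :=
    Module.Flat.of_linearEquiv (DirectSum.linearEquivFunOnFintype R s fun i => A i.1).symm
  refine ⟨∀ i : s, A i.1, inferInstance, inferInstance, ?_, inferInstance,
    _, isIsoMat_pi (fun i : s => A i.1) b (fun i => W i.1) (fun i => hW i.1)⟩
  refine Module.FaithfullyFlat.of_comap_surjective fun q => ?_
  obtain ⟨P, hP, hq⟩ := Set.mem_iUnion₂.1 (hs (Set.mem_univ q))
  obtain ⟨q', hq', hcomap⟩ := hsurj P q.asIdeal q.2 hq
  haveI := hq'
  refine ⟨⟨q'.comap (Pi.evalRingHom (fun i : s => A i.1) ⟨P, hP⟩), inferInstance⟩, ?_⟩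
  refine PrimeSpectrum.ext ?_
  show (q'.comap _).comap (algebraMap R _) = q.asIdeal
  rw [Ideal.comap_comap]
  exact hcomap



end Groth.L15.QG
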