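import Groth.Agent.L15.QG.MatSplit
import Mathlib.LinearAlgebra.Matrix.Trace

/-! Even units of the split ternary form normalise the vectors. -/

set_option autoImplicit false

namespace Groth.L15.QG

open CliffordAlgebra

universe u

variable (k : Type u) [Field k]

local notation "Q3" => QuadGrp.splitForm k 3

/-- The `2 × 2` representation of the vectors. -/
noncomputable def f3 : (Fin 3 → k) →ₗ[k] Matrix (Fin 2) (Fin 2) k where
  toFun v := !![v 0, v 1; v 2, -v 0]
  map_add' v w := by ext i j; fin_cases i <;> fin_cases j <;> simp [add_comm]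
  map_smul' c v := by ext i j; fin_cases i <;> fin_cases j <;> simp

theorem f3_sq (v : Fin 3 → k) : f3 k v * f3 k v = algebraMap k _ (Q3 v) := by
  have h : Q3 v = v 0 * v 0 + v 1 * v 2 := by
    refine (splitForm_odd_apply k 1 v).trans ?_
    rw [Fin.sum_univ_one]
    rfl
  ext i j
  rw [h, Matrix.algebraMap_matrix_apply]
  fin_cases i <;> fin_cases j <;> simp [f3, Matrix.mul_apply, Fin.sum_univ_two] <;> ring

/-- The representation of the Clifford algebra. -/
noncomputable def rep3 : CliffordAlgebra Q3 →ₐ[k] Matrix (Fin 2) (Fin 2) k :=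
  CliffordAlgebra.lift Q3 ⟨f3 k, f3_sq k⟩

theorem rep3_ι (v : Fin 3 → k) : rep3 k (ι Q3 v) = f3 k v := CliffordAlgebra.lift_ι_apply _ _ v

theorem rep3_even_injective {x : CliffordAlgebra Q3} (hx : x ∈ evenOdd Q3 0) (h : rep3 k x = 0) : x = 0 := by
  obtain ⟨e⟩ := nonempty_even_algEquiv_matrix (A := k) 1 Q3 (LinearEquiv.refl k _) (fun _ => rfl)
  haveI : FiniteDimensional k ↥(CliffordAlgebra.even Q3) := Module.Finite.equiv e.symm.toLinearEquiv
  let φ := (rep3 k).comp (CliffordAlgebra.even Q3).val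
  have hsurj : Function.Surjective φ := by
    intro X
    let P : Fin 3 → Fin 3 → ↥(CliffordAlgebra.even Q3) := fun i j =>
      ⟨ι Q3 (Pi.single i 1) * ι Q3 (Pi.single j 1), ι_mul_ι_mem_evenOdd_zero _ _ _⟩
    refine ⟨X 0 0 • P 1 2 + X 1 1 • P 2 1 + X 0 1 • P 0 1 + (-X 1 0) • P 0 2, ?_⟩
    have hP : ∀ i j, φ (P i j) = f3 k (Pi.single i 1) * f3 k (Pi.single j 1) := fun i j => by
      show rep3 k (ι Q3 (Pi.single i 1) * ι Q3 (Pi.single j 1)) = _
      rw [map_mul, rep3_ι, rep3_ι]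
    simp only [map_add, map_smul, hP]
    ext a b
    fin_cases a <;> fin_cases b <;> simp [f3, Matrix.mul_apply, Fin.sum_univ_two]
  have hinj : Function.Injective φ.toLinearMap :=
    (LinearMap.injective_iff_surjective_of_finrank_eq_finrank e.toLinearEquiv.finrank_eq).2 hsurj
  exact congrArg Subtype.val (hinj (a₁ := ⟨x, hx⟩) (a₂ := 0) (h.trans (map_zero φ).symm))

theorem rep3_odd_injective {x : CliffordAlgebra Q3} (hx : x ∈ evenOdd Q3 1) (h : rep3 k x = 0) : x = 0 := by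
  let e0 := ι Q3 (Pi.single 0 1)
  have he : e0 * e0 = 1 := by
    rw [ι_sq_scalar, show Q3 (Pi.single (0 : Fin 3) 1) = 1 from ?_, map_one]
    refine (splitForm_odd_apply k 1 (Pi.single 0 1)).trans ?_
    simp [Fin.ext_iff]
  have h2 : e0 * x ∈ evenOdd Q3 0 := by
    have := SetLike.mul_mem_graded (ι_mem_evenOdd_one Q3 (Pi.single 0 1)) hx
    rwa [show (1 : ZMod 2) + 1 = 0 from rfl] at this
  have := rep3_even_injective k h2 (by rw [map_mul, h, mul_zero])
  rw [← one_mul x, ← he, mul_assoc, this, mul_zero]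

theorem evenUnits_le_three : QuadGrp.evenUnits Q3 ≤ QuadGrp.GPin' Q3 := by
  intro u hu
  have key : ∀ (w : (CliffordAlgebra Q3)ˣ), (w : CliffordAlgebra Q3) ∈ evenOdd Q3 0 → ∀ v,
      ∃ v', (w : CliffordAlgebra Q3) * ι Q3 v * (↑w⁻¹ : CliffordAlgebra Q3) = ι Q3 v' := by
    intro w hw v
    let Y := rep3 k ((w : CliffordAlgebra Q3) * ι Q3 v * (↑w⁻¹ : CliffordAlgebra Q3))
    let v' : Fin 3 → k := ![Y 0 0, Y 0 1, Y 1 0]
    refine ⟨v', sub_eq_zero.1 (rep3_odd_injective k (Submodule.sub_mem _ ?_ (ι_mem_evenOdd_one _ _)) ?_)⟩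
    · have := SetLike.mul_mem_graded (SetLike.mul_mem_graded hw (ι_mem_evenOdd_one Q3 v)) (units_inv_even w hw)
      rwa [zero_add, add_zero] at this
    · have htr : Y.trace = 0 := by
        show (rep3 k _).trace = 0
        rw [map_mul, Matrix.trace_mul_comm, ← map_mul, ← mul_assoc, Units.inv_mul, one_mul, rep3_ι,
          Matrix.trace_fin_two]
        simp [f3]
      rw [Matrix.trace_fin_two] at htr
      rw [map_sub, rep3_ι, sub_eq_zero]
      show Y = f3 k v'
      ext a b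
      fin_cases a <;> fin_cases b <;> simp [f3, v']
      exact eq_neg_of_add_eq_zero_right htr
  have huinv : (↑u⁻¹ : CliffordAlgebra Q3) ∈ evenOdd Q3 0 := units_inv_even u hu
  rw [QuadGrp.mem_GPin']
  refine le_antisymm ?_ ?_
  · rintro _ ⟨_, ⟨v, rfl⟩, rfl⟩
    obtain ⟨v', h⟩ := key u hu v
    exact ⟨v', h.symm⟩
  · rintro _ ⟨v, rfl⟩
    obtain ⟨v', h⟩ := key u⁻¹ huinv v
    refine ⟨_, ⟨v', rfl⟩, ?_⟩
    show (u : CliffordAlgebra Q3) * ι Q3 v' * (↑u⁻¹ : CliffordAlgebra Q3) = ι Q3 v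
    rw [← h, inv_inv, ← mul_assoc, ← mul_assoc, Units.mul_inv, one_mul, mul_assoc, Units.mul_inv, mul_one]

end Groth.L15.QG
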